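import Cfsg.Agent.H18.Monster.Prime.Frame

/-!
Tables for a code permutation of cycle type `1^4 5^4`.
-/

set_option autoImplicit false

namespace Cfsg.Agent.H18.Monster.Prime.FiveData

/-- The permutation. -/
noncomputable def img : List ℕ :=
  [0, 4, 1, 3, 6, 20, 18, 21, 13, 8, 5, 22, 16, 12, 11, 15, 9, 19, 2, 14, 7, 10, 17, 23]

/-- Its inverse. -/
noncomputable def imgI : List ℕ :=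
  [0, 2, 18, 3, 1, 10, 4, 20, 9, 16, 21, 14, 13, 8, 19, 15, 12, 22, 6, 17, 5, 7, 11, 23]

/-- The orbit numbers. -/
noncomputable def lab : List ℕ :=
  [3, 4, 4, 2, 4, 5, 4, 5, 6, 6, 5, 7, 6, 6, 7, 1, 6, 7, 4, 7, 5, 5, 7, 0]

/-- The positions in the orbits. -/
noncomputable def pos : List ℕ :=
  [0, 0, 4, 0, 1, 0, 2, 2, 0, 4, 4, 0, 2, 1, 4, 0, 3, 2, 3, 3, 1, 3, 1, 0]

/-- The representatives of the orbits. -/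
noncomputable def orbRep : List ℕ :=
  [23, 15, 3, 0, 1, 5, 8, 11]

/-- A basis of the fixed sublattice. (part 0) -/
noncomputable def fL0 : List (List ℤ) :=
  [
    [1, 1, 1, 3, 1, -1, 1, -1, -1, -1, -1, 1, -1, -1, 1, -1, -1, 1, 1, 1, -1, -1, 1, 1],
    [2, -2, -2, 0, -2, 0, -2, 0, 0, 0, 0, -2, 0, 0, -2, 0, 0, -2, -2, -2, 0, 0, -2, 2],
    [2, 0, 0, 2, 0, -2, 0, -2, 0, 0, -2, 0, 0, 0, 0, 0, 0, 0, 0, 0, -2, -2, 0, -2],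
    [-3, 1, 1, -1, 1, -1, 1, -1, -1, -1, -1, 1, -1, -1, 1, 3, -1, 1, 1, 1, -1, -1, 1, -3],
    [-2, 0, 0, 0, 0, 0, 0, 0, -2, -2, 0, 0, -2, -2, 0, -2, -2, 0, 0, 0, 0, 0, 0, -2],
    [1, 1, 1, -3, 1, 1, 1, 1, 1, 1, 1, 1, 1, 1, 1, -3, 1, 1, 1, 1, 1, 1, 1, -3],
    [2, -2, -2, 2, -2, 0, -2, 0, -2, -2, 0, 0, -2, -2, 0, 0, -2, 0, -2, 0, 0, 0, 0, 0],
    [0, 0, 0, 2, 0, 0, 0, 0, -2, -2, 0, -2, -2, -2, -2, 0, -2, -2, 0, -2, 0, 0, -2, 2]]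

/-- A basis of the fixed sublattice. -/
noncomputable def fL : List (List ℤ) :=
  fL0

/-- Dual vectors. (part 0) -/
noncomputable def yL0 : List (List ℤ) :=
  [
    [1, -1, 1, -3, 1, -5, 1, -1, -1, -1, 1, 1, 1, -1, 1, -1, -1, -1, -1, 1, 1, -1, 1, 3],
    [1, -1, -1, -5, 1, -5, -1, -1, -1, -1, 1, 1, 1, -1, -1, -1, -1, 1, 1, 1, -1, -1, -1, 3],
    [0, 0, 0, 2, -2, 0, 0, 0, 0, 0, 0, 0, 0, 0, 0, 0, 2, 0, 2, 0, -2, 2, -2, -2],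
    [1, 1, 1, -3, -1, -1, 1, -1, -1, -1, 1, 1, 1, -1, -1, 1, -1, 1, -1, 1, -1, -1, -1, 1],
    [-2, 0, -2, 0, 0, 0, 0, 0, 0, 0, 0, 0, 0, -2, -2, -2, 2, 2, 0, 0, -2, 0, 0, 0],
    [2, -2, 2, -2, 0, 0, 0, 0, 0, 0, 0, 0, 0, -2, 0, 0, 0, 0, 2, 0, 2, -2, 0, 0],
    [1, -1, -1, 1, 1, 1, 1, 1, -3, 1, 1, 1, 1, 1, -1, 1, -1, 1, -1, -1, -1, 1, 1, -1],
    [1, 1, -1, 1, 1, 1, 1, -1, -3, 1, 1, 1, 1, -1, -1, 1, 1, -1, 1, -1, 1, 1, -1, -1]]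

/-- Dual vectors. -/
noncomputable def yL : List (List ℤ) :=
  yL0

/-- The inverse of the sums over the orbits, cleared of denominators. (part 0) -/
noncomputable def U0 : List (List ℤ) :=
  [
    [1, 2, -2, -3, -2, -3, 0, 2],
    [-1, 0, 0, 3, -2, -3, 0, 0],
    [3, 0, 2, -1, 0, -3, 2, 2],
    [1, 2, 2, -3, -2, 1, 2, 0],
    [1, -2, 0, 1, 0, 1, -2, 0],
    [-1, 0, -2, -1, 0, 1, 0, 0],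
    [-1, 0, 0, -1, -2, 1, -2, -2],
    [1, -2, 0, 1, 0, 1, 0, -2]]

/-- The inverse of the sums over the orbits, cleared of denominators. -/
noncomputable def U : List (List ℤ) :=
  U0

/-- The denominator. -/
noncomputable def den : ℤ :=
  8

/-- Representatives of the codes. (part 0) -/
noncomputable def repL0 : List (List ℤ) :=
  [
    [0, 0, 0, 0, 0, 0, 0, 0, 0, 0, 0, 0, 0, 0, 0, 0, 0, 0, 0, 0, 0, 0, 0, 0],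
    [-1, -1, -1, -3, -1, 1, -1, 1, 1, 1, 1, -1, 1, 1, -1, 1, 1, -1, -1, -1, 1, 1, -1, -1],
    [-2, 2, 2, 0, 2, 0, 2, 0, 0, 0, 0, 2, 0, 0, 2, 0, 0, 2, 2, 2, 0, 0, 2, -2],
    [-3, 1, 1, -3, 1, 1, 1, 1, 1, 1, 1, 1, 1, 1, 1, 1, 1, 1, 1, 1, 1, 1, 1, -3],
    [2, 0, 0, 2, 0, -2, 0, -2, 0, 0, -2, 0, 0, 0, 0, 0, 0, 0, 0, 0, -2, -2, 0, -2],
    [1, -1, -1, -1, -1, -1, -1, -1, 1, 1, -1, -1, 1, 1, -1, 1, 1, -1, -1, -1, -1, -1, -1, -3],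
    [2, 0, 0, -4, 0, 0, 0, 0, -2, -2, 0, 0, -2, -2, 0, -2, -2, 0, 0, 0, 0, 0, 0, -2],
    [-1, 1, 1, -1, 1, -1, 1, -1, 1, 1, -1, 1, 1, 1, 1, 1, 1, 1, 1, 1, -1, -1, 1, -5],
    [-3, 1, 1, -1, 1, -1, 1, -1, -1, -1, -1, 1, -1, -1, 1, 3, -1, 1, 1, 1, -1, -1, 1, -3],
    [4, 0, 0, -4, 0, 0, 0, 0, 0, 0, 0, 0, 0, 0, 0, -4, 0, 0, 0, 0, 0, 0, 0, -4],
    [-1, -1, -1, -1, -1, -1, -1, -1, -1, -1, -1, -1, -1, -1, -1, 3, -1, -1, -1, -1, -1, -1, -1, -1],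
    [0, 0, 0, -2, 0, 2, 0, 2, 2, 2, 2, 0, 2, 2, 0, -2, 2, 0, 0, 0, 2, 2, 0, 0],
    [3, 1, 1, -3, 1, 1, 1, 1, -1, -1, 1, 1, -1, -1, 1, -5, -1, 1, 1, 1, 1, 1, 1, -1],
    [2, 0, 0, 2, 0, 2, 0, 2, 0, 0, 2, 0, 0, 0, 0, 4, 0, 0, 0, 0, 2, 2, 0, -2],
    [3, 1, 1, 3, 1, -1, 1, -1, 1, 1, -1, 1, 1, 1, 1, -3, 1, 1, 1, 1, -1, -1, 1, -1],
    [2, 0, 0, 0, 0, 0, 0, 0, 2, 2, 0, 0, 2, 2, 0, -2, 2, 0, 0, 0, 0, 0, 0, -2]]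

/-- Representatives of the codes. (part 1) -/
noncomputable def repL1 : List (List ℤ) :=
  [
    [-2, 0, 0, 0, 0, 0, 0, 0, -2, -2, 0, 0, -2, -2, 0, -2, -2, 0, 0, 0, 0, 0, 0, -2],
    [-3, -1, -1, -3, -1, 1, -1, 1, -1, -1, 1, -1, -1, -1, -1, -1, -1, -1, -1, -1, 1, 1, -1, -3],
    [2, 0, 0, 2, 0, 2, 0, 2, 0, 0, 2, 0, 0, 0, 0, 0, 0, 0, 0, 0, 2, 2, 0, -6],
    [-3, -1, -1, 3, -1, -1, -1, -1, 1, 1, -1, -1, 1, 1, -1, 1, 1, -1, -1, -1, -1, -1, -1, -3],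
    [0, 0, 0, 2, 0, -2, 0, -2, -2, -2, -2, 0, -2, -2, 0, -2, -2, 0, 0, 0, -2, -2, 0, -4],
    [-1, -1, -1, -1, -1, -1, -1, -1, -1, -1, -1, -1, -1, -1, -1, -1, -1, -1, -1, -1, -1, -1, -1, -5],
    [4, 0, 0, -4, 0, 0, 0, 0, 0, 0, 0, 0, 0, 0, 0, 0, 0, 0, 0, 0, 0, 0, 0, 0],
    [-5, -1, -1, 1, -1, 1, -1, 1, 1, 1, 1, -1, 1, 1, -1, 1, 1, -1, -1, -1, 1, 1, -1, -1],
    [-1, 1, 1, -1, 1, -1, 1, -1, 1, 1, -1, 1, 1, 1, 1, 5, 1, 1, 1, 1, -1, -1, 1, -1],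
    [-2, 0, 0, 4, 0, 0, 0, 0, 2, 2, 0, 0, 2, 2, 0, -2, 2, 0, 0, 0, 0, 0, 0, -2],
    [-1, 1, 1, 1, 1, 1, 1, 1, -1, -1, 1, 1, -1, -1, 1, -5, -1, 1, 1, 1, 1, 1, 1, -1],
    [-2, 0, 0, -2, 0, 2, 0, 2, 0, 0, 2, 0, 0, 0, 0, -4, 0, 0, 0, 0, 2, 2, 0, -2],
    [3, -1, -1, 3, -1, -1, -1, -1, -1, -1, -1, -1, -1, -1, -1, -5, -1, -1, -1, -1, -1, -1, -1, -1],
    [0, 0, 0, 2, 0, 2, 0, 2, -2, -2, 2, 0, -2, -2, 0, 2, -2, 0, 0, 0, 2, 2, 0, -4],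
    [-1, -1, -1, -3, -1, 1, -1, 1, 1, 1, 1, -1, 1, 1, -1, -3, 1, -1, -1, -1, 1, 1, -1, -5],
    [0, 0, 0, 0, 0, 0, 0, 0, 0, 0, 0, 0, 0, 0, 0, -4, 0, 0, 0, 0, 0, 0, 0, -4]]

/-- Representatives of the codes. (part 2) -/
noncomputable def repL2 : List (List ℤ) :=
  [
    [1, 1, 1, -3, 1, 1, 1, 1, 1, 1, 1, 1, 1, 1, 1, -3, 1, 1, 1, 1, 1, 1, 1, -3],
    [0, 0, 0, -2, 0, -2, 0, -2, -2, -2, -2, 0, -2, -2, 0, 2, -2, 0, 0, 0, -2, -2, 0, -4],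
    [3, -1, -1, -3, -1, 1, -1, 1, 1, 1, 1, -1, 1, 1, -1, -3, 1, -1, -1, -1, 1, 1, -1, -1],
    [4, 0, 0, 0, 0, 0, 0, 0, 0, 0, 0, 0, 0, 0, 0, -4, 0, 0, 0, 0, 0, 0, 0, 0],
    [3, 1, 1, -1, 1, -1, 1, -1, 1, 1, -1, 1, 1, 1, 1, -3, 1, 1, 1, 1, -1, -1, 1, -5],
    [-2, 0, 0, -4, 0, 0, 0, 0, -2, -2, 0, 0, -2, -2, 0, 2, -2, 0, 0, 0, 0, 0, 0, -2],
    [3, 1, 1, 1, 1, 1, 1, 1, -1, -1, 1, 1, -1, -1, 1, 3, -1, 1, 1, 1, 1, 1, 1, -5],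
    [-2, 0, 0, 2, 0, -2, 0, -2, 0, 0, -2, 0, 0, 0, 0, 4, 0, 0, 0, 0, -2, -2, 0, -2],
    [0, 0, 0, 2, 0, -2, 0, -2, 2, 2, -2, 0, 2, 2, 0, 2, 2, 0, 0, 0, -2, -2, 0, -4],
    [3, -1, -1, -1, -1, -1, -1, -1, -1, -1, -1, -1, -1, -1, -1, -1, -1, -1, -1, -1, -1, -1, -1, -1],
    [0, 0, 0, -4, 0, 0, 0, 0, 0, 0, 0, 0, 0, 0, 0, 0, 0, 0, 0, 0, 0, 0, 0, -4],
    [1, 1, 1, -1, 1, -1, 1, -1, -1, -1, -1, 1, -1, -1, 1, -1, -1, 1, 1, 1, -1, -1, 1, -3],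
    [-2, 0, 0, 0, 0, 0, 0, 0, 2, 2, 0, 0, 2, 2, 0, 2, 2, 0, 0, 0, 0, 0, 0, -2],
    [-1, 1, 1, 3, 1, -1, 1, -1, 1, 1, -1, 1, 1, 1, 1, 1, 1, 1, 1, 1, -1, -1, 1, -1],
    [2, 0, 0, -2, 0, -2, 0, -2, 0, 0, -2, 0, 0, 0, 0, 0, 0, 0, 0, 0, -2, -2, 0, -6],
    [-1, 1, 1, -3, 1, 1, 1, 1, -1, -1, 1, 1, -1, -1, 1, -1, -1, 1, 1, 1, 1, 1, 1, -1]]

/-- Representatives of the codes. (part 3) -/
noncomputable def repL3 : List (List ℤ) :=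
  [
    [1, -1, -1, 3, -1, -1, -1, -1, 1, 1, -1, -1, 1, 1, -1, -3, 1, -1, -1, -1, -1, -1, -1, -3],
    [2, 0, 0, -2, 0, -2, 0, -2, 0, 0, -2, 0, 0, 0, 0, 4, 0, 0, 0, 0, -2, -2, 0, -2],
    [-1, 1, 1, 3, 1, -1, 1, -1, 1, 1, -1, 1, 1, 1, 1, -3, 1, 1, 1, 1, -1, -1, 1, -5],
    [-2, 0, 0, 0, 0, 0, 0, 0, 2, 2, 0, 0, 2, 2, 0, -2, 2, 0, 0, 0, 0, 0, 0, -6],
    [-1, -1, -1, 1, -1, 1, -1, 1, 1, 1, 1, -1, 1, 1, -1, -3, 1, -1, -1, -1, 1, 1, -1, -1],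
    [0, 0, 0, 4, 0, 0, 0, 0, 0, 0, 0, 0, 0, 0, 0, -4, 0, 0, 0, 0, 0, 0, 0, 0],
    [-3, 1, 1, 1, 1, 1, 1, 1, 1, 1, 1, 1, 1, 1, 1, -3, 1, 1, 1, 1, 1, 1, 1, -3],
    [2, 2, 2, 0, 2, 0, 2, 0, 0, 0, 0, -2, 0, 0, -2, 0, 0, -2, 2, -2, 0, 0, -2, -2],
    [-2, 0, 0, 2, 0, -2, 0, -2, 0, 0, -2, 0, 0, 0, 0, 0, 0, 0, 0, 0, -2, -2, 0, -6],
    [-5, 1, 1, 1, 1, 1, 1, 1, -1, -1, 1, 1, -1, -1, 1, -1, -1, 1, 1, 1, 1, 1, 1, -1],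
    [2, 0, 0, -4, 0, 0, 0, 0, 2, 2, 0, 0, 2, 2, 0, 2, 2, 0, 0, 0, 0, 0, 0, -2],
    [3, 1, 1, -1, 1, -1, 1, -1, 1, 1, -1, 1, 1, 1, 1, 1, 1, 1, 1, 1, -1, -1, 1, -1],
    [-4, 0, 0, 0, 0, 0, 0, 0, 0, 0, 0, 0, 0, 0, 0, 0, 0, 0, 0, 0, 0, 0, 0, -4],
    [-3, 1, 1, 3, 1, -1, 1, -1, -1, -1, -1, 1, -1, -1, 1, -1, -1, 1, 1, 1, -1, -1, 1, -3],
    [-2, -2, -2, 0, -2, 0, -2, 0, 0, 0, 0, -2, 0, 0, -2, 0, 0, -2, -2, -2, 0, 0, -2, -2],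
    [-1, -1, -1, 3, -1, -1, -1, -1, -1, -1, -1, -1, -1, -1, -1, -1, -1, -1, -1, -1, -1, -1, -1, -1]]

/-- Representatives of the codes. (part 4) -/
noncomputable def repL4 : List (List ℤ) :=
  [
    [-2, 2, 2, -2, 2, 0, 2, 0, 2, 2, 0, 0, 2, 2, 0, 0, 2, 0, 2, 0, 0, 0, 0, 0],
    [1, 1, 1, 3, 1, 1, 1, 1, -1, -1, 1, -1, -1, -1, -1, -3, -1, -1, 1, -1, 1, 1, -1, -5],
    [0, 0, 0, 2, 0, 0, 0, 0, -2, -2, 0, 2, -2, -2, 2, 0, -2, 2, 0, 2, 0, 0, 2, -2],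
    [-1, -1, -1, -1, -1, 1, -1, 1, -1, -1, 1, 1, -1, -1, 1, 1, -1, 1, -1, 1, 1, 1, 1, -3],
    [0, 2, 2, 0, 2, -2, 2, -2, 2, 2, -2, 0, 2, 2, 0, 0, 2, 0, 2, 0, -2, -2, 0, -2],
    [-3, -1, -1, 3, -1, 1, -1, 1, 1, 1, 1, 1, 1, 1, 1, 3, 1, 1, -1, 1, 1, 1, 1, -1],
    [0, -2, -2, -2, -2, 0, -2, 0, 0, 0, 0, 0, 0, 0, 0, 2, 0, 0, -2, 0, 0, 0, 0, -6],
    [1, -1, -1, 1, -1, -1, -1, -1, -1, -1, -1, 1, -1, -1, 1, 1, -1, 1, -1, 1, -1, -1, 1, -5],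
    [5, 1, 1, -1, 1, 1, 1, 1, -1, -1, 1, -1, -1, -1, -1, 1, -1, -1, 1, -1, 1, 1, -1, -1],
    [0, 0, 0, 0, 0, 2, 0, 2, 0, 0, 2, 2, 0, 0, 2, -2, 0, 2, 0, 2, 2, 2, 2, -2],
    [-3, 1, 1, -3, 1, -1, 1, -1, 1, 1, -1, -1, 1, 1, -1, 3, 1, -1, 1, -1, -1, -1, -1, -1],
    [2, -2, -2, 0, -2, 2, -2, 2, 0, 0, 2, 0, 0, 0, 0, -2, 0, 0, -2, 0, 2, 2, 0, 0],
    [1, -1, -1, -1, -1, 1, -1, 1, 1, 1, 1, 1, 1, 1, 1, -1, 1, 1, -1, 1, 1, 1, 1, -5],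
    [2, 0, 0, 2, 0, 0, 0, 0, 0, 0, 0, 2, 0, 0, 2, -2, 0, 2, 0, 2, 0, 0, 2, -4],
    [-3, -1, -1, -3, -1, -1, -1, -1, -1, -1, -1, 1, -1, -1, 1, -3, -1, 1, -1, 1, -1, -1, 1, -1],
    [4, -2, -2, 2, -2, 0, -2, 0, 0, 0, 0, 0, 0, 0, 0, -2, 0, 0, -2, 0, 0, 0, 0, -2]]

/-- Representatives of the codes. (part 5) -/
noncomputable def repL5 : List (List ℤ) :=
  [
    [-4, 2, 2, -2, 2, 0, 2, 0, 0, 0, 0, 0, 0, 0, 0, -2, 0, 0, 2, 0, 0, 0, 0, -2],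
    [3, 1, 1, 3, 1, 1, 1, 1, 1, 1, 1, -1, 1, 1, -1, -1, 1, -1, 1, -1, 1, 1, -1, -3],
    [-2, 0, 0, -2, 0, 0, 0, 0, 0, 0, 0, -2, 0, 0, -2, -2, 0, -2, 0, -2, 0, 0, -2, 0],
    [1, -1, -1, -1, -1, 1, -1, 1, 1, 1, 1, 1, 1, 1, 1, 3, 1, 1, -1, 1, 1, 1, 1, -1],
    [-2, 2, 2, 0, 2, -2, 2, -2, 0, 0, -2, 0, 0, 0, 0, -2, 0, 0, 2, 0, -2, -2, 0, -4],
    [-3, 1, 1, -3, 1, -1, 1, -1, 1, 1, -1, -1, 1, 1, -1, -1, 1, -1, 1, -1, -1, -1, -1, -5],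
    [0, 0, 0, 0, 0, -2, 0, -2, 0, 0, -2, -2, 0, 0, -2, -2, 0, -2, 0, -2, -2, -2, -2, -2],
    [3, -1, -1, 1, -1, -1, -1, -1, 1, 1, -1, 1, 1, 1, 1, 3, 1, 1, -1, 1, -1, -1, 1, -3],
    [1, -1, -1, 1, -1, -1, -1, -1, -1, -1, -1, 1, -1, -1, 1, 5, -1, 1, -1, 1, -1, -1, 1, -1],
    [0, 2, 2, 2, 2, 0, 2, 0, 0, 0, 0, 0, 0, 0, 0, 2, 0, 0, 2, 0, 0, 0, 0, -6],
    [-3, -1, -1, 3, -1, 1, -1, 1, 1, 1, 1, 1, 1, 1, 1, -1, 1, 1, -1, 1, 1, 1, 1, -5],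
    [2, 0, 0, 2, 0, 0, 0, 0, 0, 0, 0, -2, 0, 0, -2, 2, 0, -2, 0, -2, 0, 0, -2, -4],
    [1, 1, 1, 1, 1, -1, 1, -1, 1, 1, -1, -1, 1, 1, -1, -5, 1, -1, 1, -1, -1, -1, -1, -1],
    [-2, 2, 2, 0, 2, 2, 2, 2, 0, 0, 2, 0, 0, 0, 0, 2, 0, 0, 2, 0, 2, 2, 0, -4],
    [1, 1, 1, 3, 1, 1, 1, 1, -1, -1, 1, -1, -1, -1, -1, 1, -1, -1, 1, -1, 1, 1, -1, -1],
    [0, 0, 0, 0, 0, 2, 0, 2, 0, 0, 2, -2, 0, 0, -2, 2, 0, -2, 0, -2, 2, 2, -2, -2]]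

/-- Representatives of the codes. (part 6) -/
noncomputable def repL6 : List (List ℤ) :=
  [
    [3, -1, -1, -1, -1, 1, -1, 1, -1, -1, 1, 1, -1, -1, 1, -3, -1, 1, -1, 1, 1, 1, 1, -3],
    [-2, -2, -2, 0, -2, -2, -2, -2, 0, 0, -2, 0, 0, 0, 0, -2, 0, 0, -2, 0, -2, -2, 0, 0],
    [-3, 1, 1, 3, 1, 1, 1, 1, -1, -1, 1, -1, -1, -1, -1, 1, -1, -1, 1, -1, 1, 1, -1, -5],
    [2, -2, -2, 2, -2, 0, -2, 0, 2, 2, 0, 0, 2, 2, 0, 0, 2, 0, -2, 0, 0, 0, 0, -4],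
    [3, 1, 1, -1, 1, 1, 1, 1, 1, 1, 1, -1, 1, 1, -1, 3, 1, -1, 1, -1, 1, 1, -1, -3],
    [4, 2, 2, 2, 2, 0, 2, 0, 0, 0, 0, 0, 0, 0, 0, 2, 0, 0, 2, 0, 0, 0, 0, -2],
    [1, -1, -1, 3, -1, 1, -1, 1, 1, 1, 1, 1, 1, 1, 1, -1, 1, 1, -1, 1, 1, 1, 1, -1],
    [0, -2, -2, 0, -2, 2, -2, 2, 2, 2, 2, 0, 2, 2, 0, 0, 2, 0, -2, 0, 2, 2, 0, -2],
    [2, 2, 2, 0, 2, -2, 2, -2, 0, 0, -2, 0, 0, 0, 0, -2, 0, 0, 2, 0, -2, -2, 0, 0],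
    [1, 1, 1, -3, 1, -1, 1, -1, 1, 1, -1, -1, 1, 1, -1, -1, 1, -1, 1, -1, -1, -1, -1, -1],
    [2, -2, -2, -2, -2, 0, -2, 0, -2, -2, 0, 0, -2, -2, 0, 0, -2, 0, -2, 0, 0, 0, 0, -4],
    [1, 1, 1, -1, 1, 1, 1, 1, -1, -1, 1, -1, -1, -1, -1, 5, -1, -1, 1, -1, 1, 1, -1, -1],
    [0, -2, -2, 2, -2, 0, -2, 0, 0, 0, 0, 0, 0, 0, 0, 2, 0, 0, -2, 0, 0, 0, 0, -2],
    [1, -1, -1, 5, -1, -1, -1, -1, -1, -1, -1, 1, -1, -1, 1, 1, -1, 1, -1, 1, -1, -1, 1, -1],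
    [-2, 0, 0, 2, 0, 0, 0, 0, 0, 0, 0, 2, 0, 0, 2, 2, 0, 2, 0, 2, 0, 0, 2, -4],
    [-3, -1, -1, -1, -1, 1, -1, 1, 1, 1, 1, 1, 1, 1, 1, 3, 1, 1, -1, 1, 1, 1, 1, -5]]

/-- Representatives of the codes. (part 7) -/
noncomputable def repL7 : List (List ℤ) :=
  [
    [5, -1, -1, -1, -1, 1, -1, 1, 1, 1, 1, 1, 1, 1, 1, -1, 1, 1, -1, 1, 1, 1, 1, -1],
    [0, 2, 2, 0, 2, 2, 2, 2, -2, -2, 2, 0, -2, -2, 0, 0, -2, 0, 2, 0, 2, 2, 0, -2],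
    [-1, 1, 1, 3, 1, 1, 1, 1, 1, 1, 1, -1, 1, 1, -1, 3, 1, -1, 1, -1, 1, 1, -1, -3],
    [0, -2, -2, 2, -2, 0, -2, 0, 0, 0, 0, 0, 0, 0, 0, -2, 0, 0, -2, 0, 0, 0, 0, -6],
    [1, 1, 1, -1, 1, 1, 1, 1, -1, -1, 1, -1, -1, -1, -1, 1, -1, -1, 1, -1, 1, 1, -1, -5],
    [2, 2, 2, 2, 2, 0, 2, 0, -2, -2, 0, 0, -2, -2, 0, 0, -2, 0, 2, 0, 0, 0, 0, -4],
    [-1, -1, -1, 3, -1, 1, -1, 1, -1, -1, 1, 1, -1, -1, 1, -3, -1, 1, -1, 1, 1, 1, 1, -3],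
    [-2, -2, -2, 0, -2, 2, -2, 2, 0, 0, 2, 0, 0, 0, 0, -2, 0, 0, -2, 0, 2, 2, 0, -4],
    [2, 0, 0, -2, 0, 0, 0, 0, 0, 0, 0, 2, 0, 0, 2, 2, 0, 2, 0, 2, 0, 0, 2, -4],
    [-1, 1, 1, -3, 1, -1, 1, -1, -1, -1, -1, -1, -1, -1, -1, -3, -1, -1, 1, -1, -1, -1, -1, -3],
    [4, -2, -2, -2, -2, 0, -2, 0, 0, 0, 0, 0, 0, 0, 0, 2, 0, 0, -2, 0, 0, 0, 0, -2],
    [5, -1, -1, 1, -1, -1, -1, -1, -1, -1, -1, 1, -1, -1, 1, 1, -1, 1, -1, 1, -1, -1, 1, -1],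
    [-2, -2, -2, 2, -2, 0, -2, 0, -2, -2, 0, 0, -2, -2, 0, 0, -2, 0, -2, 0, 0, 0, 0, -4],
    [-3, 1, 1, -5, 1, 1, 1, 1, -1, -1, 1, -1, -1, -1, -1, -3, -1, -1, 1, -1, 1, 1, -1, -1],
    [2, 2, 2, 0, 2, 2, 2, 2, 0, 0, 2, 0, 0, 0, 0, -2, 0, 0, 2, 0, 2, 2, 0, -4],
    [-3, 1, 1, 1, 1, -1, 1, -1, 1, 1, -1, -1, 1, 1, -1, -1, 1, -1, 1, -1, -1, -1, -1, -1]]

/-- Representatives of the codes. (part 8) -/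
noncomputable def repL8 : List (List ℤ) :=
  [
    [0, 0, 0, -2, 0, 0, 0, 0, 2, 2, 0, 2, 2, 2, 2, 0, 2, 2, 0, 2, 0, 0, 2, -2],
    [-3, 1, 1, -3, 1, -1, 1, -1, 1, 1, -1, -1, 1, 1, -1, -5, 1, -1, 1, -1, -1, -1, -1, -1],
    [2, -2, -2, -2, -2, 0, -2, 0, 2, 2, 0, 0, 2, 2, 0, 0, 2, 0, -2, 0, 0, 0, 0, 0],
    [-3, 1, 1, -1, 1, 1, 1, 1, -1, -1, 1, -1, -1, -1, -1, 1, -1, -1, 1, -1, 1, 1, -1, -1],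
    [-4, -2, -2, 2, -2, 0, -2, 0, 0, 0, 0, 0, 0, 0, 0, -2, 0, 0, -2, 0, 0, 0, 0, -2],
    [5, -1, -1, -3, -1, -1, -1, -1, -1, -1, -1, 1, -1, -1, 1, -3, -1, 1, -1, 1, -1, -1, 1, -1],
    [-2, 0, 0, -2, 0, 0, 0, 0, 0, 0, 0, -2, 0, 0, -2, 2, 0, -2, 0, -2, 0, 0, -2, -4],
    [-1, 1, 1, 1, 1, -1, 1, -1, -1, -1, -1, -1, -1, -1, -1, 1, -1, -1, 1, -1, -1, -1, -1, -3],
    [1, 1, 1, 1, 1, -1, 1, -1, 1, 1, -1, -1, 1, 1, -1, -1, 1, -1, 1, -1, -1, -1, -1, -5],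
    [-2, 2, 2, 0, 2, 2, 2, 2, 0, 0, 2, 0, 0, 0, 0, -2, 0, 0, 2, 0, 2, 2, 0, 0],
    [-1, -1, -1, -3, -1, -1, -1, -1, 1, 1, -1, 1, 1, 1, 1, 3, 1, 1, -1, 1, -1, -1, 1, -3],
    [0, 0, 0, 0, 0, -2, 0, -2, 0, 0, -2, 2, 0, 0, 2, 2, 0, 2, 0, 2, -2, -2, 2, -2],
    [-1, 1, 1, -1, 1, 1, 1, 1, 1, 1, 1, -1, 1, 1, -1, -1, 1, -1, 1, -1, 1, 1, -1, -3],
    [0, 2, 2, 2, 2, 0, 2, 0, 0, 0, 0, 0, 0, 0, 0, -2, 0, 0, 2, 0, 0, 0, 0, -2],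
    [-3, -1, -1, 3, -1, 1, -1, 1, 1, 1, 1, 1, 1, 1, 1, -5, 1, 1, -1, 1, 1, 1, 1, -1],
    [2, 0, 0, 2, 0, 0, 0, 0, 0, 0, 0, -2, 0, 0, -2, -2, 0, -2, 0, -2, 0, 0, -2, 0]]

/-- Representatives of the codes. (part 9) -/
noncomputable def repL9 : List (List ℤ) :=
  [
    [-2, 0, 0, -2, 0, 0, 0, 0, 0, 0, 0, 2, 0, 0, 2, -2, 0, 2, 0, 2, 0, 0, 2, -4],
    [3, 1, 1, -3, 1, -1, 1, -1, -1, -1, -1, -1, -1, -1, -1, 1, -1, -1, 1, -1, -1, -1, -1, -3],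
    [0, -2, -2, -2, -2, 0, -2, 0, 0, 0, 0, 0, 0, 0, 0, -2, 0, 0, -2, 0, 0, 0, 0, -2],
    [1, -1, -1, 1, -1, -1, -1, -1, -1, -1, -1, 1, -1, -1, 1, -3, -1, 1, -1, 1, -1, -1, 1, -1],
    [2, 2, 2, -2, 2, 0, 2, 0, -2, -2, 0, 0, -2, -2, 0, 0, -2, 0, 2, 0, 0, 0, 0, 0],
    [1, 1, 1, -5, 1, 1, 1, 1, -1, -1, 1, -1, -1, -1, -1, 1, -1, -1, 1, -1, 1, 1, -1, -1],
    [2, -2, -2, 0, -2, -2, -2, -2, 0, 0, -2, 0, 0, 0, 0, -2, 0, 0, -2, 0, -2, -2, 0, -4],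
    [1, 1, 1, 1, 1, -1, 1, -1, 1, 1, -1, -1, 1, 1, -1, 3, 1, -1, 1, -1, -1, -1, -1, -1],
    [1, -1, -1, -1, -1, 1, -1, 1, 1, 1, 1, 1, 1, 1, 1, -5, 1, 1, -1, 1, 1, 1, 1, -1],
    [0, -2, -2, 0, -2, -2, -2, -2, -2, -2, -2, 0, -2, -2, 0, 0, -2, 0, -2, 0, -2, -2, 0, -2],
    [-3, -1, -1, -3, -1, -1, -1, -1, -1, -1, -1, 1, -1, -1, 1, 1, -1, 1, -1, 1, -1, -1, 1, -5],
    [4, 2, 2, -2, 2, 0, 2, 0, 0, 0, 0, 0, 0, 0, 0, -2, 0, 0, 2, 0, 0, 0, 0, -2],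
    [-3, 1, 1, -1, 1, 1, 1, 1, -1, -1, 1, -1, -1, -1, -1, -3, -1, -1, 1, -1, 1, 1, -1, -5],
    [-2, -2, -2, -2, -2, 0, -2, 0, -2, -2, 0, 0, -2, -2, 0, 0, -2, 0, -2, 0, 0, 0, 0, 0],
    [3, -1, -1, 3, -1, 1, -1, 1, -1, -1, 1, 1, -1, -1, 1, 1, -1, 1, -1, 1, 1, 1, 1, -3],
    [2, -2, -2, 0, -2, 2, -2, 2, 0, 0, 2, 0, 0, 0, 0, 2, 0, 0, -2, 0, 2, 2, 0, -4]]

/-- Representatives of the codes. (part 10) -/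
noncomputable def repL10 : List (List ℤ) :=
  [
    [1, 1, 1, -1, 1, 1, 1, 1, -1, -1, 1, -1, -1, -1, -1, -3, -1, -1, 1, -1, 1, 1, -1, -1],
    [-2, 2, 2, 2, 2, 0, 2, 0, 2, 2, 0, 0, 2, 2, 0, 0, 2, 0, 2, 0, 0, 0, 0, -4],
    [1, 1, 1, 5, 1, -1, 1, -1, 1, 1, -1, -1, 1, 1, -1, -1, 1, -1, 1, -1, -1, -1, -1, -1],
    [0, 0, 0, 2, 0, 0, 0, 0, 2, 2, 0, -2, 2, 2, -2, 0, 2, -2, 0, -2, 0, 0, -2, -2],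
    [3, 1, 1, 1, 1, -1, 1, -1, -1, -1, -1, -1, -1, -1, -1, -3, -1, -1, 1, -1, -1, -1, -1, -3],
    [2, 0, 0, -2, 0, 0, 0, 0, 0, 0, 0, -2, 0, 0, -2, -2, 0, -2, 0, -2, 0, 0, -2, -4],
    [1, -1, -1, -3, -1, -1, -1, -1, -1, -1, -1, 1, -1, -1, 1, 1, -1, 1, -1, 1, -1, -1, 1, -1],
    [0, 2, 2, -2, 2, 0, 2, 0, 0, 0, 0, 0, 0, 0, 0, -2, 0, 0, 2, 0, 0, 0, 0, -6],
    [-2, 2, 2, -2, 2, 0, 2, 0, -2, -2, 0, 0, -2, -2, 0, 0, -2, 0, 2, 0, 0, 0, 0, -4],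
    [3, -1, -1, -3, -1, -1, -1, -1, 1, 1, -1, 1, 1, 1, 1, -1, 1, 1, -1, 1, -1, -1, 1, -3],
    [0, 0, 0, -2, 0, 0, 0, 0, -2, -2, 0, -2, -2, -2, -2, 0, -2, -2, 0, -2, 0, 0, -2, -2],
    [-3, 1, 1, 1, 1, -1, 1, -1, 1, 1, -1, -1, 1, 1, -1, 3, 1, -1, 1, -1, -1, -1, -1, -5],
    [2, 0, 0, -2, 0, 0, 0, 0, 0, 0, 0, 2, 0, 0, 2, -2, 0, 2, 0, 2, 0, 0, 2, 0],
    [1, -1, -1, -5, -1, 1, -1, 1, 1, 1, 1, 1, 1, 1, 1, -1, 1, 1, -1, 1, 1, 1, 1, -1],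
    [-4, 2, 2, 2, 2, 0, 2, 0, 0, 0, 0, 0, 0, 0, 0, 2, 0, 0, 2, 0, 0, 0, 0, -2],
    [-3, -1, -1, 1, -1, -1, -1, -1, -1, -1, -1, 1, -1, -1, 1, -3, -1, 1, -1, 1, -1, -1, 1, -5]]

/-- Representatives of the codes. (part 11) -/
noncomputable def repL11 : List (List ℤ) :=
  [
    [-3, -1, -1, 1, -1, -1, -1, -1, -1, -1, -1, 1, -1, -1, 1, 1, -1, 1, -1, 1, -1, -1, 1, -1],
    [-4, -2, -2, -2, -2, 0, -2, 0, 0, 0, 0, 0, 0, 0, 0, 2, 0, 0, -2, 0, 0, 0, 0, -2],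
    [1, -1, -1, 3, -1, 1, -1, 1, 1, 1, 1, 1, 1, 1, 1, 3, 1, 1, -1, 1, 1, 1, 1, -5],
    [-2, 0, 0, 2, 0, 0, 0, 0, 0, 0, 0, -2, 0, 0, -2, -2, 0, -2, 0, -2, 0, 0, -2, -4],
    [5, 1, 1, 1, 1, -1, 1, -1, 1, 1, -1, -1, 1, 1, -1, -1, 1, -1, 1, -1, -1, -1, -1, -1],
    [-2, -2, -2, 0, -2, -2, -2, -2, 0, 0, -2, 0, 0, 0, 0, 2, 0, 0, -2, 0, -2, -2, 0, -4],
    [-3, 1, 1, 3, 1, 1, 1, 1, -1, -1, 1, -1, -1, -1, -1, -3, -1, -1, 1, -1, 1, 1, -1, -1],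
    [2, 2, 2, -2, 2, 0, 2, 0, 2, 2, 0, 0, 2, 2, 0, 0, 2, 0, 2, 0, 0, 0, 0, -4],
    [0, 2, 2, -2, 2, 0, 2, 0, 0, 0, 0, 0, 0, 0, 0, 2, 0, 0, 2, 0, 0, 0, 0, -2],
    [1, -1, -1, -3, -1, -1, -1, -1, -1, -1, -1, 1, -1, -1, 1, -3, -1, 1, -1, 1, -1, -1, 1, -5],
    [-2, 0, 0, 2, 0, 0, 0, 0, 0, 0, 0, 2, 0, 0, 2, -2, 0, 2, 0, 2, 0, 0, 2, 0],
    [-3, -1, -1, -1, -1, 1, -1, 1, 1, 1, 1, 1, 1, 1, 1, -1, 1, 1, -1, 1, 1, 1, 1, -1],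
    [2, 2, 2, 0, 2, -2, 2, -2, 0, 0, -2, 0, 0, 0, 0, 2, 0, 0, 2, 0, -2, -2, 0, -4],
    [1, 1, 1, -3, 1, -1, 1, -1, 1, 1, -1, -1, 1, 1, -1, 3, 1, -1, 1, -1, -1, -1, -1, -5],
    [-2, -2, -2, -2, -2, 0, -2, 0, 2, 2, 0, 0, 2, 2, 0, 0, 2, 0, -2, 0, 0, 0, 0, -4],
    [-1, -1, -1, 1, -1, -1, -1, -1, 1, 1, -1, 1, 1, 1, 1, -1, 1, 1, -1, 1, -1, -1, 1, -3]]

/-- Representatives of the codes. (part 12) -/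
noncomputable def repL12 : List (List ℤ) :=
  [
    [2, -2, -2, 0, -2, 0, -2, 0, 0, 0, 0, 2, 0, 0, 2, 0, 0, 2, -2, 2, 0, 0, 2, -2],
    [-1, -1, -1, -1, -1, -1, -1, -1, -1, -1, -1, -1, -1, -1, -1, -5, -1, -1, -1, -1, -1, -1, -1, -1],
    [-4, 0, 0, -4, 0, 0, 0, 0, 0, 0, 0, 0, 0, 0, 0, -4, 0, 0, 0, 0, 0, 0, 0, -4],
    [3, -1, -1, 1, -1, 1, -1, 1, 1, 1, 1, -1, 1, 1, -1, -3, 1, -1, -1, -1, 1, 1, -1, -5],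
    [-2, 0, 0, 0, 0, 0, 0, 0, -2, -2, 0, 0, -2, -2, 0, 2, -2, 0, 0, 0, 0, 0, 0, -6],
    [3, 1, 1, -5, 1, -1, 1, -1, 1, 1, -1, 1, 1, 1, 1, -3, 1, 1, 1, 1, -1, -1, 1, -1],
    [2, 0, 0, 2, 0, 2, 0, 2, 0, 0, 2, 0, 0, 0, 0, -4, 0, 0, 0, 0, 2, 2, 0, -2],
    [3, 1, 1, -3, 1, 1, 1, 1, -1, -1, 1, 1, -1, -1, 1, 3, -1, 1, 1, 1, 1, 1, 1, -1],
    [3, -1, -1, 3, -1, -1, -1, -1, -1, -1, -1, -1, -1, -1, -1, -1, -1, -1, -1, -1, -1, -1, -1, -5],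
    [0, 0, 0, 2, 0, 2, 0, 2, -2, -2, 2, 0, -2, -2, 0, -2, -2, 0, 0, 0, 2, 2, 0, 0],
    [-1, -1, -1, 5, -1, 1, -1, 1, 1, 1, 1, -1, 1, 1, -1, 1, 1, -1, -1, -1, 1, 1, -1, -1],
    [0, 0, 0, 0, 0, 0, 0, 0, 0, 0, 0, 0, 0, 0, 0, 0, 0, 0, 0, 0, 0, 0, 0, 8],
    [1, -1, -1, 1, -1, 1, -1, 1, -1, -1, 1, -1, -1, -1, -1, -1, -1, -1, -1, -1, 1, 1, -1, -3],
    [2, 0, 0, 4, 0, 0, 0, 0, -2, -2, 0, 0, -2, -2, 0, -2, -2, 0, 0, 0, 0, 0, 0, -2],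
    [-1, 1, 1, 1, 1, 1, 1, 1, -1, -1, 1, 1, -1, -1, 1, -1, -1, 1, 1, 1, 1, 1, 1, -5],
    [-2, 0, 0, -2, 0, 2, 0, 2, 0, 0, 2, 0, 0, 0, 0, 0, 0, 0, 0, 0, 2, 2, 0, -6]]

/-- Representatives of the codes. (part 13) -/
noncomputable def repL13 : List (List ℤ) :=
  [
    [-2, 0, 0, -2, 0, 2, 0, 2, 0, 0, 2, 0, 0, 0, 0, 4, 0, 0, 0, 0, 2, 2, 0, -2],
    [-1, 1, 1, 1, 1, 1, 1, 1, -1, -1, 1, 1, -1, -1, 1, 3, -1, 1, 1, 1, 1, 1, 1, -1],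
    [-2, 0, 0, -4, 0, 0, 0, 0, 2, 2, 0, 0, 2, 2, 0, -2, 2, 0, 0, 0, 0, 0, 0, -2],
    [-1, 1, 1, -1, 1, -1, 1, -1, 1, 1, -1, 1, 1, 1, 1, -3, 1, 1, 1, 1, -1, -1, 1, -1],
    [0, 0, 0, 0, 0, 0, 0, 0, 0, 0, 0, 0, 0, 0, 0, 4, 0, 0, 0, 0, 0, 0, 0, -4],
    [1, 1, 1, 3, 1, -1, 1, -1, -1, -1, -1, 1, -1, -1, 1, 3, -1, 1, 1, 1, -1, -1, 1, -3],
    [0, 0, 0, -2, 0, -2, 0, -2, 2, 2, -2, 0, 2, 2, 0, -2, 2, 0, 0, 0, -2, -2, 0, -4],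
    [3, -1, -1, 3, -1, -1, -1, -1, -1, -1, -1, -1, -1, -1, -1, 3, -1, -1, -1, -1, -1, -1, -1, -1],
    [3, 1, 1, -3, 1, 1, 1, 1, -1, -1, 1, 1, -1, -1, 1, -1, -1, 1, 1, 1, 1, 1, 1, -5],
    [-2, 0, 0, -2, 0, -2, 0, -2, 0, 0, -2, 0, 0, 0, 0, 0, 0, 0, 0, 0, -2, -2, 0, -2],
    [3, 1, 1, 3, 1, -1, 1, -1, 1, 1, -1, 1, 1, 1, 1, 1, 1, 1, 1, 1, -1, -1, 1, -5],
    [2, 0, 0, 0, 0, 0, 0, 0, 2, 2, 0, 0, 2, 2, 0, 2, 2, 0, 0, 0, 0, 0, 0, -6],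
    [3, -1, -1, 1, -1, 1, -1, 1, 1, 1, 1, -1, 1, 1, -1, 1, 1, -1, -1, -1, 1, 1, -1, -1],
    [-4, 0, 0, -4, 0, 0, 0, 0, 0, 0, 0, 0, 0, 0, 0, 0, 0, 0, 0, 0, 0, 0, 0, 0],
    [1, 1, 1, 1, 1, 1, 1, 1, 1, 1, 1, 1, 1, 1, 1, 1, 1, 1, 1, 1, 1, 1, 1, -3],
    [0, 0, 0, -2, 0, 2, 0, 2, 2, 2, 2, 0, 2, 2, 0, 2, 2, 0, 0, 0, 2, 2, 0, -4]]

/-- Representatives of the codes. (part 14) -/
noncomputable def repL14 : List (List ℤ) :=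
  [
    [-1, -1, -1, 1, -1, 1, -1, 1, 1, 1, 1, -1, 1, 1, -1, 1, 1, -1, -1, -1, 1, 1, -1, -5],
    [0, 0, 0, 4, 0, 0, 0, 0, 0, 0, 0, 0, 0, 0, 0, 0, 0, 0, 0, 0, 0, 0, 0, -4],
    [-5, -1, -1, -1, -1, -1, -1, -1, -1, -1, -1, -1, -1, -1, -1, -1, -1, -1, -1, -1, -1, -1, -1, -1],
    [0, 0, 0, -2, 0, 2, 0, 2, -2, -2, 2, 0, -2, -2, 0, -2, -2, 0, 0, 0, 2, 2, 0, -4],
    [-1, 1, 1, 5, 1, 1, 1, 1, -1, -1, 1, 1, -1, -1, 1, -1, -1, 1, 1, 1, 1, 1, 1, -1],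
    [-2, 0, 0, 2, 0, 2, 0, 2, 0, 0, 2, 0, 0, 0, 0, 0, 0, 0, 0, 0, 2, 2, 0, -2],
    [-1, 1, 1, -5, 1, -1, 1, -1, 1, 1, -1, 1, 1, 1, 1, 1, 1, 1, 1, 1, -1, -1, 1, -1],
    [2, 0, 0, 0, 0, 0, 0, 0, -2, -2, 0, 0, -2, -2, 0, -2, -2, 0, 0, 0, 0, 0, 0, -6],
    [-4, 0, 0, 0, 0, 0, 0, 0, 0, 0, 0, 0, 0, 0, 0, -4, 0, 0, 0, 0, 0, 0, 0, 0],
    [-5, -1, -1, -3, -1, 1, -1, 1, 1, 1, 1, -1, 1, 1, -1, -3, 1, -1, -1, -1, 1, 1, -1, -1],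
    [0, 0, 0, 2, 0, 2, 0, 2, 2, 2, 2, 0, 2, 2, 0, -2, 2, 0, 0, 0, 2, 2, 0, -4],
    [-1, -1, -1, 3, -1, -1, -1, -1, -1, -1, -1, -1, -1, -1, -1, 3, -1, -1, -1, -1, -1, -1, -1, -5],
    [-2, 0, 0, 2, 0, -2, 0, -2, 0, 0, -2, 0, 0, 0, 0, -4, 0, 0, 0, 0, -2, -2, 0, -2],
    [-3, -1, -1, -1, -1, -1, -1, -1, 1, 1, -1, -1, 1, 1, -1, -3, 1, -1, -1, -1, -1, -1, -1, -3],
    [-2, 0, 0, 4, 0, 0, 0, 0, -2, -2, 0, 0, -2, -2, 0, 2, -2, 0, 0, 0, 0, 0, 0, -2],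
    [-3, -1, -1, 1, -1, 1, -1, 1, -1, -1, 1, -1, -1, -1, -1, 3, -1, -1, -1, -1, 1, 1, -1, -3]]

/-- Representatives of the codes. (part 15) -/
noncomputable def repL15 : List (List ℤ) :=
  [
    [-5, 1, 1, -1, 1, -1, 1, -1, 1, 1, -1, 1, 1, 1, 1, 1, 1, 1, 1, 1, -1, -1, 1, -1],
    [2, 0, 0, 4, 0, 0, 0, 0, 2, 2, 0, 0, 2, 2, 0, 2, 2, 0, 0, 0, 0, 0, 0, -2],
    [3, 1, 1, 1, 1, 1, 1, 1, -1, -1, 1, 1, -1, -1, 1, -1, -1, 1, 1, 1, 1, 1, 1, -1],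
    [2, 0, 0, -2, 0, 2, 0, 2, 0, 0, 2, 0, 0, 0, 0, 0, 0, 0, 0, 0, 2, 2, 0, -2],
    [-1, -1, -1, -5, -1, -1, -1, -1, -1, -1, -1, -1, -1, -1, -1, -1, -1, -1, -1, -1, -1, -1, -1, -1],
    [0, 0, 0, -2, 0, -2, 0, -2, -2, -2, -2, 0, -2, -2, 0, -2, -2, 0, 0, 0, -2, -2, 0, 0],
    [3, -1, -1, -3, -1, 1, -1, 1, 1, 1, 1, -1, 1, 1, -1, 1, 1, -1, -1, -1, 1, 1, -1, -5],
    [4, 0, 0, 0, 0, 0, 0, 0, 0, 0, 0, 0, 0, 0, 0, 0, 0, 0, 0, 0, 0, 0, 0, -4],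
    [2, 0, 0, 0, 0, 0, 0, 0, -2, -2, 0, 0, -2, -2, 0, 2, -2, 0, 0, 0, 0, 0, 0, -2],
    [1, -1, -1, -3, -1, 1, -1, 1, -1, -1, 1, -1, -1, -1, -1, 3, -1, -1, -1, -1, 1, 1, -1, -3],
    [2, 0, 0, -2, 0, -2, 0, -2, 0, 0, -2, 0, 0, 0, 0, -4, 0, 0, 0, 0, -2, -2, 0, -2],
    [-1, 1, 1, -3, 1, 1, 1, 1, -1, -1, 1, 1, -1, -1, 1, 3, -1, 1, 1, 1, 1, 1, 1, -5],
    [0, 0, 0, 2, 0, -2, 0, -2, 2, 2, -2, 0, 2, 2, 0, -2, 2, 0, 0, 0, -2, -2, 0, 0],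
    [3, -1, -1, -1, -1, -1, -1, -1, -1, -1, -1, -1, -1, -1, -1, 3, -1, -1, -1, -1, -1, -1, -1, -5],
    [0, 0, 0, -4, 0, 0, 0, 0, 0, 0, 0, 0, 0, 0, 0, -4, 0, 0, 0, 0, 0, 0, 0, 0],
    [-1, -1, -1, 1, -1, 1, -1, 1, 1, 1, 1, -1, 1, 1, -1, 5, 1, -1, -1, -1, 1, 1, -1, -1]]

/-- Representatives of the codes. -/
noncomputable def repL : List (List ℤ) :=
  repL0 ++ repL1 ++ repL2 ++ repL3 ++ repL4 ++ repL5 ++ repL6 ++ repL7 ++ repL8 ++ repL9 ++ repL10 ++ repL11 ++ repL12 ++ repL13 ++ repL14 ++ repL15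

/-- The classes of squared length 64. -/
noncomputable def classes : List ℕ :=
  [203, 9, 12, 18, 20, 28, 29, 30, 33, 36, 38, 40, 46, 50, 51, 56, 65, 68, 70, 84, 85, 89, 90, 93, 98, 99, 103, 106, 111, 113, 115, 117, 119, 124, 125, 126, 129, 133, 142, 150, 153, 154, 156, 159, 161, 167, 168, 171, 175, 178, 181, 183, 185, 188, 189, 190, 194, 195, 196, 197, 200, 207, 214, 216, 218, 219, 223, 227, 231, 233, 234, 235, 246, 251, 253]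

/-- Half the difference to the standard vector. -/
noncomputable def tL : List ℤ :=
  [0, 0, 0, 0, 0, 0, 0, 0, 0, 0, 0, 0, 0, 0, 0, 0, 0, 0, 0, 0, 0, 0, 0, 0]

/-- A matrix commuting with the permutation. -/
noncomputable def mat : H15.Mat :=
  ⟨[
    [2, 2, 2, -4, 2, 0, 2, 0, 0, 0, 0, -2, 0, 0, -2, 0, 0, -2, 2, -2, 0, 0, -2, 2],
    [2, -2, 2, 0, 2, 0, -2, 0, 0, 0, 0, -2, 0, 0, -2, 0, -4, 2, 2, 2, 0, 0, 2, -2],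
    [2, 2, -2, 0, -2, 0, 2, 0, 0, 0, 0, 2, -4, 0, -2, 0, 0, 2, 2, -2, 0, 0, 2, -2],
    [2, -2, -2, 0, -2, 0, -2, 0, 0, 0, 0, -2, 0, 0, -2, 4, 0, -2, -2, -2, 0, 0, -2, -2],
    [2, 2, 2, 0, -2, 0, 2, 0, 0, -4, 0, -2, 0, 0, 2, 0, 0, 2, -2, 2, 0, 0, -2, -2],
    [0, 0, 0, 2, 0, -2, 0, -2, 2, -2, 2, 0, 2, -2, 0, 2, 2, 0, 4, 0, -2, 2, 0, 0],
    [2, 2, -2, 0, 2, 0, -2, 0, -4, 0, 0, 2, 0, 0, 2, 0, 0, -2, 2, 2, 0, 0, -2, -2],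
    [0, 4, 0, 2, 0, 2, 0, -2, 2, 2, -2, 0, 2, -2, 0, 2, -2, 0, 0, 0, 2, -2, 0, 0],
    [-2, 2, 2, 0, -2, 0, -2, 4, 0, 0, 0, -2, 0, 0, 2, 0, 0, -2, 2, -2, 0, 0, 2, -2],
    [-2, -2, 2, 0, -2, 0, 2, 0, 0, 0, 0, 2, 0, 0, -2, 0, 0, -2, 2, 2, 4, 0, -2, -2],
    [0, 0, 0, 2, 0, -2, 4, 2, -2, 2, -2, 0, 2, 2, 0, 2, -2, 0, 0, 0, -2, 2, 0, 0],
    [0, 0, 0, 2, 0, -2, 0, 2, 2, 2, 2, 0, -2, -2, 0, -2, -2, 0, 0, 0, -2, -2, -4, 0],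
    [-2, 2, -2, 0, 2, 0, 2, 0, 0, 0, 4, -2, 0, 0, -2, 0, 0, -2, -2, 2, 0, 0, 2, -2],
    [-2, 2, 2, 0, 2, 0, -2, 0, 0, 0, 0, 2, 0, 0, -2, 0, 0, 2, -2, -2, 0, 4, -2, -2],
    [0, 0, 0, 2, 0, -2, 0, -2, -2, 2, -2, -4, -2, -2, 0, -2, 2, 0, 0, 0, 2, 2, 0, 0],
    [4, 0, 0, 2, 0, 2, 0, 2, 2, 2, 2, 0, 2, 2, 0, -2, 2, 0, 0, 0, 2, 2, 0, 0],
    [-2, -2, -2, 0, 2, 4, 2, 0, 0, 0, 0, -2, 0, 0, 2, 0, 0, 2, 2, -2, 0, 0, -2, -2],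
    [0, 0, 0, 2, 0, -2, 0, -2, -2, -2, 2, 0, 2, 2, 0, -2, -2, 0, 0, -4, 2, -2, 0, 0],
    [2, -2, 2, 0, 2, 0, 2, 0, 0, 0, 0, 2, 0, -4, 2, 0, 0, -2, -2, -2, 0, 0, 2, -2],
    [0, 0, 0, 2, 0, 2, 0, 2, -2, -2, -2, 0, 2, -2, -4, -2, 2, 0, 0, 0, -2, -2, 0, 0],
    [0, 0, 4, 2, 0, 2, 0, -2, -2, 2, 2, 0, -2, 2, 0, 2, 2, 0, 0, 0, -2, -2, 0, 0],
    [0, 0, 0, 2, 4, -2, 0, 2, 2, -2, -2, 0, -2, 2, 0, 2, 2, 0, 0, 0, 2, -2, 0, 0],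
    [0, 0, 0, 2, 0, 2, 0, -2, 2, -2, -2, 0, -2, 2, 0, -2, -2, -4, 0, 0, -2, 2, 0, 0],
    [0, 0, 0, -2, 0, -2, 0, -2, 2, 2, -2, 0, 2, 2, 0, -2, 2, 0, 0, 0, -2, -2, 0, -4]],
   [
    [2, 2, 2, 2, 2, 0, 2, 0, -2, -2, 0, 0, -2, -2, 0, 4, -2, 0, 2, 0, 0, 0, 0, 0],
    [2, -2, 2, -2, 2, 0, 2, 4, 2, -2, 0, 0, 2, 2, 0, 0, -2, 0, -2, 0, 0, 0, 0, 0],
    [2, 2, -2, -2, 2, 0, -2, 0, 2, 2, 0, 0, -2, 2, 0, 0, -2, 0, 2, 0, 4, 0, 0, 0],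
    [-4, 0, 0, 0, 0, 2, 0, 2, 0, 0, 2, 2, 0, 0, 2, 2, 0, 2, 0, 2, 2, 2, 2, -2],
    [2, 2, -2, -2, -2, 0, 2, 0, -2, -2, 0, 0, 2, 2, 0, 0, 2, 0, 2, 0, 0, 4, 0, 0],
    [0, 0, 0, 0, 0, -2, 0, 2, 0, 0, -2, -2, 0, 0, -2, 2, 4, -2, 0, 2, 2, -2, 2, -2],
    [2, -2, 2, -2, 2, 0, -2, 0, -2, 2, 4, 0, 2, -2, 0, 0, 2, 0, 2, 0, 0, 0, 0, 0],
    [0, 0, 0, 0, 0, -2, 0, -2, 4, 0, 2, 2, 0, 0, -2, 2, 0, -2, 0, 2, -2, 2, -2, -2],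
    [0, 0, 0, 0, 0, 2, -4, 2, 0, 0, -2, 2, 0, 0, -2, 2, 0, -2, 0, -2, -2, 2, 2, 2],
    [0, 0, 0, 0, -4, -2, 0, 2, 0, 0, 2, 2, 0, 0, 2, 2, 0, -2, 0, -2, 2, -2, -2, 2],
    [0, 0, 0, 0, 0, 2, 0, -2, 0, 0, -2, 2, 4, 0, -2, 2, 0, 2, 0, -2, 2, -2, -2, -2],
    [-2, -2, 2, -2, -2, 0, 2, 0, -2, 2, 0, 0, -2, 2, -4, 0, -2, 0, 2, 0, 0, 0, 0, 0],
    [0, 0, -4, 0, 0, 2, 0, 2, 0, 0, 2, -2, 0, 0, -2, 2, 0, 2, 0, 2, -2, -2, -2, 2],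
    [0, 0, 0, 0, 0, -2, 0, -2, 0, 0, 2, -2, 0, 0, -2, 2, 0, 2, -4, -2, 2, 2, 2, 2],
    [-2, -2, -2, -2, 2, 0, 2, 0, 2, -2, 0, 0, -2, -2, 0, 0, 2, 0, 2, -4, 0, 0, 0, 0],
    [0, 0, 0, 4, 0, 2, 0, 2, 0, 0, 2, -2, 0, 0, -2, -2, 0, -2, 0, -2, 2, 2, -2, -2],
    [0, -4, 0, 0, 0, 2, 0, -2, 0, 0, -2, -2, 0, 0, 2, 2, 0, -2, 0, 2, 2, 2, -2, 2],
    [-2, 2, 2, -2, 2, 0, -2, 0, -2, -2, 0, 0, -2, 2, 0, 0, 2, 0, -2, 0, 0, 0, -4, 0],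
    [2, 2, 2, -2, -2, 4, 2, 0, 2, 2, 0, 0, -2, -2, 0, 0, 2, 0, -2, 0, 0, 0, 0, 0],
    [-2, 2, -2, -2, 2, 0, 2, 0, -2, 2, 0, 0, 2, -2, 0, 0, -2, -4, -2, 0, 0, 0, 0, 0],
    [0, 0, 0, 0, 0, -2, 0, 2, 0, 4, -2, -2, 0, 0, 2, 2, 0, 2, 0, -2, -2, 2, -2, -2],
    [0, 0, 0, 0, 0, 2, 0, -2, 0, 0, 2, -2, 0, 4, 2, 2, 0, -2, 0, -2, -2, -2, 2, -2],
    [-2, 2, 2, -2, -2, 0, -2, 0, 2, -2, 0, -4, 2, -2, 0, 0, -2, 0, 2, 0, 0, 0, 0, 0],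
    [2, -2, -2, -2, -2, 0, -2, 0, -2, -2, 0, 0, -2, -2, 0, 0, -2, 0, -2, 0, 0, 0, 0, -4]]⟩

/-- Code permutations commuting with the permutation. (part 0) -/
noncomputable def tauL0 : List (List ℕ) :=
  [
    [0, 1, 2, 3, 4, 5, 6, 7, 8, 9, 10, 11, 12, 13, 14, 15, 16, 17, 18, 19, 20, 21, 22, 23],
    [0, 1, 2, 15, 4, 19, 6, 11, 20, 5, 17, 13, 21, 7, 8, 23, 10, 16, 18, 9, 14, 22, 12, 3],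
    [0, 1, 2, 23, 4, 9, 6, 13, 14, 19, 16, 7, 22, 11, 20, 3, 17, 10, 18, 5, 8, 12, 21, 15],
    [3, 8, 9, 0, 13, 22, 12, 19, 4, 1, 11, 5, 18, 6, 10, 23, 2, 7, 16, 21, 17, 14, 20, 15],
    [3, 8, 9, 15, 13, 1, 12, 6, 10, 21, 2, 19, 20, 5, 17, 0, 7, 11, 16, 22, 4, 18, 14, 23],
    [3, 8, 9, 23, 13, 21, 12, 5, 17, 22, 7, 6, 14, 19, 4, 15, 11, 2, 16, 1, 10, 20, 18, 0],
    [15, 5, 10, 0, 20, 13, 7, 16, 1, 2, 8, 17, 6, 4, 22, 3, 18, 14, 21, 11, 12, 9, 19, 23],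
    [15, 5, 10, 3, 20, 11, 7, 17, 12, 13, 14, 4, 9, 16, 1, 23, 8, 18, 21, 2, 22, 19, 6, 0],
    [15, 5, 10, 23, 20, 2, 7, 4, 22, 11, 18, 16, 19, 17, 12, 0, 14, 8, 21, 13, 1, 6, 9, 3],
    [23, 11, 14, 0, 22, 10, 17, 20, 6, 4, 21, 8, 2, 18, 9, 15, 1, 12, 19, 16, 5, 7, 13, 3],
    [23, 11, 14, 3, 22, 4, 17, 18, 9, 16, 1, 20, 13, 8, 5, 0, 12, 21, 19, 10, 6, 2, 7, 15],
    [23, 11, 14, 15, 22, 16, 17, 8, 5, 10, 12, 18, 7, 20, 6, 3, 21, 1, 19, 4, 9, 13, 2, 0]]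

/-- Code permutations commuting with the permutation. -/
noncomputable def tauL : List (List ℕ) :=
  tauL0

/-- Their inverses. (part 0) -/
noncomputable def tauI0 : List (List ℕ) :=
  [
    [0, 1, 2, 3, 4, 5, 6, 7, 8, 9, 10, 11, 12, 13, 14, 15, 16, 17, 18, 19, 20, 21, 22, 23],
    [0, 1, 2, 23, 4, 9, 6, 13, 14, 19, 16, 7, 22, 11, 20, 3, 17, 10, 18, 5, 8, 12, 21, 15],
    [0, 1, 2, 15, 4, 19, 6, 11, 20, 5, 17, 13, 21, 7, 8, 23, 10, 16, 18, 9, 14, 22, 12, 3],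
    [3, 9, 16, 0, 8, 11, 13, 17, 1, 2, 14, 10, 6, 4, 21, 23, 18, 20, 12, 7, 22, 19, 5, 15],
    [15, 5, 10, 0, 20, 13, 7, 16, 1, 2, 8, 17, 6, 4, 22, 3, 18, 14, 21, 11, 12, 9, 19, 23],
    [23, 19, 17, 0, 14, 7, 11, 10, 1, 2, 20, 16, 6, 4, 12, 15, 18, 8, 22, 13, 21, 5, 9, 3],
    [3, 8, 9, 15, 13, 1, 12, 6, 10, 21, 2, 19, 20, 5, 17, 0, 7, 11, 16, 22, 4, 18, 14, 23],
    [23, 14, 19, 3, 11, 1, 22, 6, 16, 12, 2, 5, 8, 9, 10, 0, 13, 7, 17, 21, 4, 18, 20, 15],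
    [15, 20, 5, 23, 7, 1, 21, 6, 17, 22, 2, 9, 14, 19, 16, 0, 11, 13, 10, 12, 4, 18, 8, 3],
    [3, 16, 12, 23, 9, 20, 8, 21, 11, 14, 5, 1, 17, 22, 2, 15, 19, 6, 13, 18, 7, 10, 4, 0],
    [15, 10, 21, 3, 5, 14, 20, 22, 13, 8, 19, 1, 16, 12, 2, 23, 9, 6, 7, 18, 11, 17, 4, 0],
    [23, 17, 22, 15, 19, 8, 14, 12, 7, 20, 9, 1, 10, 21, 2, 3, 5, 6, 11, 18, 13, 16, 4, 0]]

/-- Their inverses. -/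
noncomputable def tauI : List (List ℕ) :=
  tauI0

/-- The fixed code words. -/
noncomputable def fwL : List ℕ :=
  [0, 340831, 3258280, 3441911, 4900873, 5241686, 8093601, 8277246, 8499969, 8683614, 11535529, 11876342, 13335304, 13518935, 16436384, 16777215]

/-- Sets for the search. -/
noncomputable def levels : List (List (List ℕ)) :=
  [
    [],
    [],
    [],
    [],
    [[1, 2, 3, 4, 6, 15, 18, 23]],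
    [[0, 3, 5, 7, 10, 20, 21, 23]],
    [[0, 1, 2, 3, 13, 18, 20, 21], [0, 2, 5, 15, 16, 18, 21, 23], [1, 3, 5, 13, 15, 16, 20, 23], [0, 4, 6, 13, 15, 20, 21, 23], [2, 4, 5, 6, 13, 16, 18, 20], [0, 1, 3, 4, 5, 6, 16, 21], [1, 2, 4, 7, 8, 16, 18, 21], [0, 3, 4, 7, 8, 13, 16, 20], [0, 1, 4, 5, 7, 8, 15, 23], [3, 6, 7, 8, 15, 16, 21, 23], [1, 5, 6, 7, 8, 13, 20, 21], [0, 2, 3, 5, 6, 7, 8, 18], [2, 7, 9, 13, 16, 20, 21, 23], [0, 1, 3, 7, 9, 16, 18, 23], [0, 5, 7, 9, 13, 15, 18, 20], [1, 2, 3, 5, 7, 9, 15, 21], [0, 2, 4, 6, 7, 9, 15, 16], [4, 5, 6, 7, 9, 18, 21, 23], [1, 4, 8, 9, 13, 18, 20, 23], [0, 2, 3, 4, 8, 9, 21, 23], [3, 4, 5, 8, 9, 15, 16, 18], [0, 1, 6, 8, 9, 15, 18, 21], [2, 3, 6, 8, 9, 13, 15, 20], [1, 2, 5, 6, 8, 9, 16, 23], [0, 1, 7, 10, 13, 15, 16, 21], [2,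 3, 7, 10, 15, 16, 18, 20], [1, 2, 5, 7, 10, 13, 18, 23], [1, 4, 6, 7, 10, 16, 20, 23], [3, 4, 5, 6, 7, 10, 13, 15], [0, 2, 4, 8, 10, 13, 15, 18], [1, 3, 4, 8, 10, 15, 20, 21], [4, 5, 8, 10, 13, 16, 21, 23], [2, 6, 8, 10, 18, 20, 21, 23], [0, 1, 3, 6, 8, 10, 13, 23], [0, 5, 6, 8, 10, 15, 16, 20], [0, 1, 2, 9, 10, 15, 20, 23], [3, 9, 10, 13, 15, 18, 21, 23], [1, 5, 9, 10, 16, 18, 20, 21], [0, 2, 3, 5, 9, 10, 13, 16], [1, 2, 4, 6, 9, 10, 13, 21], [0, 3, 4, 6, 9, 10, 18, 20], [2, 4, 5, 7, 8, 9, 10, 20], [6, 7, 8, 9, 10, 13, 16, 18], [0, 1, 4, 12, 15, 16, 18, 20], [2, 3, 4, 12, 13, 15, 16, 21], [1, 2, 4, 5, 12, 20, 21, 23], [0, 3, 4, 5, 12, 13, 18, 23], [1, 6, 12, 13, 16, 18, 21, 23], [0, 2, 3, 6, 12, 16, 20, 23], [0, 1, 2, 5, 6, 12, 13, 15], [3, 5, 6, 12, 15, 18, 20, 21],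 [0, 2, 7, 8, 12, 15, 20, 21], [1, 3, 7, 8, 12, 13, 15, 18], [5, 7, 8, 12, 16, 18, 20, 23], [2, 4, 6, 7, 8, 12, 13, 23], [3, 4, 7, 9, 12, 15, 20, 23], [1, 4, 5, 7, 9, 12, 13, 16], [1, 2, 6, 7, 9, 12, 18, 20], [0, 3, 6, 7, 9, 12, 13, 21], [0, 8, 9, 12, 13, 15, 16, 23], [2, 5, 8, 9, 12, 13, 18, 21], [0, 1, 3, 5, 8, 9, 12, 20], [4, 6, 8, 9, 12, 16, 20, 21], [4, 7, 10, 12, 13, 18, 20, 21], [0, 1, 2, 3, 4, 7, 10, 12], [0, 6, 7, 10, 12, 15, 18, 23], [2, 5, 6, 7, 10, 12, 16, 21], [1, 2, 8, 10, 12, 13, 16, 20], [0, 3, 8, 10, 12, 16, 18, 21], [2, 3, 5, 8, 10, 12, 15, 23], [1, 4, 5, 6, 8, 10, 12, 18], [2, 4, 9, 10, 12, 16, 18, 23], [0, 4, 5, 9, 10, 12, 15, 21], [1, 3, 6, 9, 10, 12, 15, 16], [5, 6, 9, 10, 12, 13, 20, 23], [1, 7, 8, 9, 10, 12, 21, 23]],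
    [[11, 13, 15, 16, 17, 21, 22, 23], [10, 12, 14, 15, 16, 20, 21, 23], [9, 14, 16, 17, 19, 20, 21, 22], [8, 13, 15, 16, 18, 19, 20, 21], [7, 12, 14, 15, 17, 18, 19, 20], [6, 14, 15, 18, 19, 21, 22, 23], [5, 13, 14, 17, 18, 20, 21, 23], [4, 12, 13, 16, 17, 19, 20, 23], [3, 12, 13, 17, 18, 19, 21, 22], [2, 12, 13, 15, 18, 20, 22, 23], [1, 12, 13, 14, 15, 16, 19, 22], [0, 12, 14, 16, 17, 18, 22, 23]]]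

/-- The images of the representatives. (part 0) -/
noncomputable def targets0 : List (List ℕ) :=
  [
    [0, 3, 15, 23, 11, 16, 5, 18],
    [0, 3, 15, 23, 14, 12, 10, 6],
    [0, 3, 15, 23, 17, 8, 7, 1],
    [0, 3, 15, 23, 19, 13, 21, 4],
    [0, 3, 15, 23, 22, 9, 20, 2],
    [0, 15, 23, 3, 8, 21, 17, 6],
    [0, 15, 23, 3, 9, 7, 22, 4],
    [0, 15, 23, 3, 12, 5, 14, 2],
    [0, 15, 23, 3, 13, 10, 19, 18],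
    [0, 15, 23, 3, 16, 20, 11, 1],
    [0, 23, 3, 15, 5, 11, 12, 4],
    [0, 23, 3, 15, 7, 17, 9, 18],
    [0, 23, 3, 15, 10, 14, 13, 1],
    [0, 23, 3, 15, 20, 22, 16, 6],
    [0, 23, 3, 15, 21, 19, 8, 2],
    [3, 0, 23, 15, 5, 2, 22, 16]]

/-- The images of the representatives. (part 1) -/
noncomputable def targets1 : List (List ℕ) :=
  [
    [3, 0, 23, 15, 7, 4, 19, 8],
    [3, 0, 23, 15, 10, 18, 11, 12],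
    [3, 0, 23, 15, 20, 1, 17, 9],
    [3, 0, 23, 15, 21, 6, 14, 13],
    [3, 15, 0, 23, 11, 10, 6, 8],
    [3, 15, 0, 23, 14, 21, 4, 9],
    [3, 15, 0, 23, 17, 20, 2, 12],
    [3, 15, 0, 23, 19, 7, 1, 16],
    [3, 15, 0, 23, 22, 5, 18, 13],
    [3, 23, 15, 0, 1, 19, 20, 13],
    [3, 23, 15, 0, 2, 17, 5, 8],
    [3, 23, 15, 0, 4, 14, 7, 12],
    [3, 23, 15, 0, 6, 11, 21, 16],
    [3, 23, 15, 0, 18, 22, 10, 9],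
    [15, 0, 3, 23, 11, 4, 9, 20],
    [15, 0, 3, 23, 14, 1, 16, 5]]

/-- The images of the representatives. (part 2) -/
noncomputable def targets2 : List (List ℕ) :=
  [
    [15, 0, 3, 23, 17, 18, 13, 21],
    [15, 0, 3, 23, 19, 2, 12, 10],
    [15, 0, 3, 23, 22, 6, 8, 7],
    [15, 3, 23, 0, 1, 9, 14, 7],
    [15, 3, 23, 0, 2, 16, 19, 20],
    [15, 3, 23, 0, 4, 8, 11, 21],
    [15, 3, 23, 0, 6, 13, 22, 10],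
    [15, 3, 23, 0, 18, 12, 17, 5],
    [15, 23, 0, 3, 8, 22, 4, 5],
    [15, 23, 0, 3, 9, 11, 1, 10],
    [15, 23, 0, 3, 12, 19, 18, 7],
    [15, 23, 0, 3, 13, 17, 6, 20],
    [15, 23, 0, 3, 16, 14, 2, 21],
    [23, 0, 15, 3, 8, 1, 10, 19],
    [23, 0, 15, 3, 9, 2, 21, 17],
    [23, 0, 15, 3, 12, 6, 20, 11]]

/-- The images of the representatives. (part 3) -/
noncomputable def targets3 : List (List ℕ) :=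
  [
    [23, 0, 15, 3, 13, 4, 5, 14],
    [23, 0, 15, 3, 16, 18, 7, 22],
    [23, 3, 0, 15, 5, 13, 1, 17],
    [23, 3, 0, 15, 7, 16, 6, 14],
    [23, 3, 0, 15, 10, 8, 2, 22],
    [23, 3, 0, 15, 20, 12, 4, 19],
    [23, 3, 0, 15, 21, 9, 18, 11],
    [23, 15, 3, 0, 1, 5, 8, 11],
    [23, 15, 3, 0, 2, 10, 9, 14],
    [23, 15, 3, 0, 4, 20, 13, 22],
    [23, 15, 3, 0, 6, 7, 12, 17],
    [23, 15, 3, 0, 18, 21, 16, 19]]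

/-- The images of the representatives. -/
noncomputable def targets : List (List ℕ) :=
  targets0 ++ targets1 ++ targets2 ++ targets3

/-- The maps on codes of the generators. (part 0) -/
noncomputable def muG0 : List (List ℕ) :=
  [
    [41, 205, 45, 74, 140, 130, 206, 182],
    [1, 2, 4, 8, 16, 32, 64, 128],
    [151, 64, 186, 158, 217, 32, 137, 11],
    [191, 137, 44, 182, 82, 32, 2, 73],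
    [220, 11, 143, 213, 146, 54, 64, 137],
    [160, 128, 108, 169, 217, 54, 11, 73],
    [67, 64, 243, 74, 82, 54, 128, 2],
    [127, 73, 248, 118, 146, 3, 137, 2],
    [94, 137, 172, 87, 16, 3, 11, 64],
    [43, 11, 141, 34, 82, 3, 73, 128],
    [131, 128, 229, 138, 146, 215, 2, 64],
    [105, 73, 184, 96, 16, 215, 128, 11],
    [52, 2, 15, 61, 217, 215, 73, 137],
    [1, 2, 4, 8, 16, 32, 64, 128],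
    [94, 192, 217, 87, 15, 118, 64, 66],
    [63, 2, 243, 54, 44, 213, 130, 66]]

/-- The maps on codes of the generators. (part 1) -/
noncomputable def muG1 : List (List ℕ) :=
  [
    [105, 192, 229, 96, 248, 138, 130, 128],
    [102, 55, 217, 164, 248, 114, 157, 163],
    [47, 62, 4, 237, 44, 249, 157, 170],
    [166, 55, 229, 100, 15, 121, 148, 170],
    [45, 62, 243, 239, 16, 48, 148, 163],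
    [45, 62, 243, 239, 16, 48, 148, 163],
    [166, 55, 229, 100, 15, 121, 148, 170],
    [47, 62, 4, 237, 44, 249, 157, 170],
    [102, 55, 217, 164, 248, 114, 157, 163],
    [105, 192, 229, 96, 248, 138, 130, 128],
    [63, 2, 243, 54, 44, 213, 130, 66],
    [94, 192, 217, 87, 15, 118, 64, 66],
    [1, 2, 4, 8, 16, 32, 64, 128]]

/-- The maps on codes of the generators. -/
noncomputable def muG : List (List ℕ) :=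
  muG0 ++ muG1

/-- Words for the classes. (part 0) -/
noncomputable def words0 : List (List ℕ) :=
  [
    [],
    [0, 5, 0],
    [0, 19, 3, 0],
    [0, 20, 2, 0],
    [0, 0],
    [2, 0, 17, 0],
    [9, 0],
    [0, 19, 0],
    [18, 0],
    [17, 0, 18, 0],
    [19, 0, 18, 0],
    [17, 0],
    [11, 0, 17, 2, 0],
    [0, 0, 17, 0],
    [9, 0, 17, 2, 0],
    [4, 0, 17, 2, 0]]

/-- Words for the classes. (part 1) -/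
noncomputable def words1 : List (List ℕ) :=
  [
    [7, 0, 18, 0],
    [5, 0, 17, 2, 0],
    [8, 0, 17, 2, 0],
    [17, 3, 0],
    [14, 0, 17, 0],
    [15, 0, 18, 2, 0],
    [19, 0, 17, 0],
    [19, 3, 0],
    [16, 0, 17, 0],
    [6, 0],
    [7, 0, 17, 2, 0],
    [11, 0],
    [0, 17, 3, 0],
    [0, 17, 2, 0],
    [12, 0, 17, 2, 0],
    [19, 2, 0]]

/-- Words for the classes. (part 2) -/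
noncomputable def words2 : List (List ℕ) :=
  [
    [5, 0],
    [18, 2, 0],
    [0, 20, 0],
    [8, 0],
    [9, 0, 18, 0],
    [20, 0, 20, 0],
    [0, 0, 20, 0],
    [18, 3, 0],
    [16, 0, 17, 2, 0],
    [17, 0, 17, 0],
    [11, 0, 18, 0],
    [20, 3, 0],
    [2, 0],
    [0, 18, 2, 0],
    [7, 0],
    [0, 18, 0]]

/-- Words for the classes. (part 3) -/
noncomputable def words3 : List (List ℕ) :=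
  [
    [18, 0, 18, 0],
    [17, 0, 19, 0],
    [10, 0],
    [17, 2, 0],
    [0, 20, 3, 0],
    [3, 0],
    [4, 0, 18, 0],
    [20, 2, 0],
    [0, 9, 0],
    [8, 0, 18, 0],
    [0, 19, 2, 0],
    [19, 0, 20, 0],
    [0, 17, 0],
    [3, 0, 17, 2, 0],
    [0],
    [20, 0, 17, 0]]

/-- Words for the classes. (part 4) -/
noncomputable def words4 : List (List ℕ) :=
  [
    [0, 18, 3, 0],
    [14, 0, 19, 2, 0],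
    [4, 0],
    [19, 0],
    [2, 0, 17, 2, 0],
    [3, 0, 18, 0],
    [20, 0],
    [5, 0, 17, 0],
    [15, 0, 17, 0],
    [18, 0, 19, 0],
    [3, 0, 17, 0]]

/-- Words for the classes. -/
noncomputable def words : List (List ℕ) :=
  words0 ++ words1 ++ words2 ++ words3 ++ words4

/-- Bases of the ten subspaces. (part 0) -/
noncomputable def bas0 : List (List ℕ) :=
  [
    [28, 36, 70, 133],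
    [20, 38, 65, 142],
    [29, 46, 68, 129],
    [9, 33, 84, 150],
    [12, 18, 99, 167],
    [28, 46, 65, 133],
    [18, 33, 70, 142],
    [30, 38, 68, 129],
    [9, 20, 99, 161],
    [12, 36, 85, 150]]

/-- Bases of the ten subspaces. -/
noncomputable def bas : List (List ℕ) :=
  bas0

/-- The permutations of the generators. (part 0) -/
noncomputable def permG0 : List (List ℕ) :=
  [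
    [2, 0, 3, 4, 1, 9, 5, 7, 8, 6],
    [0, 1, 2, 3, 4, 5, 6, 7, 8, 9],
    [1, 4, 2, 3, 0, 7, 5, 6, 8, 9],
    [4, 0, 2, 3, 1, 6, 7, 5, 8, 9],
    [4, 2, 1, 3, 0, 6, 5, 9, 8, 7],
    [0, 4, 1, 3, 2, 5, 9, 6, 8, 7],
    [2, 0, 1, 3, 4, 9, 6, 5, 8, 7],
    [0, 2, 4, 3, 1, 5, 7, 9, 8, 6],
    [2, 1, 4, 3, 0, 9, 5, 7, 8, 6],
    [1, 0, 4, 3, 2, 7, 9, 5, 8, 6],
    [1, 2, 0, 3, 4, 7, 6, 9, 8, 5],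
    [4, 1, 0, 3, 2, 6, 9, 7, 8, 5],
    [2, 4, 0, 3, 1, 9, 7, 6, 8, 5],
    [0, 1, 2, 3, 4, 5, 6, 7, 8, 9],
    [2, 4, 0, 3, 1, 7, 9, 5, 8, 6],
    [1, 0, 4, 3, 2, 6, 5, 9, 8, 7]]

/-- The permutations of the generators. (part 1) -/
noncomputable def permG1 : List (List ℕ) :=
  [
    [4, 2, 1, 3, 0, 9, 7, 6, 8, 5],
    [5, 6, 7, 8, 9, 0, 1, 2, 3, 4],
    [7, 9, 5, 8, 6, 2, 4, 0, 3, 1],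
    [6, 5, 9, 8, 7, 1, 0, 4, 3, 2],
    [9, 7, 6, 8, 5, 4, 2, 1, 3, 0],
    [9, 7, 6, 8, 5, 4, 2, 1, 3, 0],
    [6, 5, 9, 8, 7, 1, 0, 4, 3, 2],
    [7, 9, 5, 8, 6, 2, 4, 0, 3, 1],
    [5, 6, 7, 8, 9, 0, 1, 2, 3, 4],
    [4, 2, 1, 3, 0, 9, 7, 6, 8, 5],
    [1, 0, 4, 3, 2, 6, 5, 9, 8, 7],
    [2, 4, 0, 3, 1, 7, 9, 5, 8, 6],
    [0, 1, 2, 3, 4, 5, 6, 7, 8, 9]]

/-- The permutations of the generators. -/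
noncomputable def permG : List (List ℕ) :=
  permG0 ++ permG1

/-- The permutations of the words. (part 0) -/
noncomputable def permC0 : List (List ℕ) :=
  [
    [0, 1, 2, 3, 4, 5, 6, 7, 8, 9],
    [0, 2, 4, 3, 1, 7, 9, 5, 8, 6],
    [6, 7, 8, 9, 5, 3, 2, 0, 4, 1],
    [5, 7, 8, 6, 9, 2, 0, 3, 4, 1],
    [3, 2, 4, 1, 0, 6, 9, 7, 8, 5],
    [6, 9, 8, 5, 7, 4, 2, 3, 0, 1],
    [4, 1, 3, 2, 0, 6, 7, 5, 8, 9],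
    [6, 5, 8, 7, 9, 3, 0, 1, 4, 2],
    [5, 7, 8, 6, 9, 1, 2, 0, 3, 4],
    [4, 2, 3, 0, 1, 5, 8, 7, 9, 6],
    [2, 4, 3, 1, 0, 6, 8, 9, 7, 5],
    [7, 5, 8, 9, 6, 4, 0, 2, 3, 1],
    [7, 6, 8, 5, 9, 1, 3, 4, 2, 0],
    [7, 6, 8, 5, 9, 0, 3, 4, 1, 2],
    [5, 7, 8, 6, 9, 0, 3, 1, 2, 4],
    [9, 6, 8, 7, 5, 2, 3, 4, 0, 1]]

/-- The permutations of the words. (part 1) -/
noncomputable def permC1 : List (List ℕ) :=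
  [
    [6, 9, 8, 5, 7, 0, 3, 4, 1, 2],
    [6, 5, 8, 7, 9, 4, 3, 0, 2, 1],
    [7, 9, 8, 6, 5, 1, 3, 2, 0, 4],
    [7, 9, 8, 6, 5, 4, 1, 0, 3, 2],
    [5, 6, 8, 9, 7, 4, 0, 3, 1, 2],
    [7, 5, 8, 9, 6, 1, 4, 0, 2, 3],
    [4, 2, 3, 0, 1, 5, 9, 8, 7, 6],
    [9, 7, 8, 5, 6, 2, 0, 1, 3, 4],
    [6, 5, 8, 7, 9, 2, 1, 3, 0, 4],
    [1, 2, 3, 4, 0, 7, 9, 5, 8, 6],
    [9, 5, 8, 6, 7, 2, 3, 0, 1, 4],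
    [0, 4, 3, 2, 1, 5, 6, 7, 8, 9],
    [7, 6, 8, 5, 9, 1, 0, 2, 4, 3],
    [7, 5, 8, 9, 6, 1, 3, 0, 4, 2],
    [6, 9, 8, 5, 7, 4, 3, 2, 1, 0],
    [9, 5, 8, 6, 7, 2, 4, 0, 3, 1]]

/-- The permutations of the words. (part 2) -/
noncomputable def permC2 : List (List ℕ) :=
  [
    [1, 0, 3, 2, 4, 7, 5, 6, 8, 9],
    [5, 9, 8, 7, 6, 1, 0, 4, 3, 2],
    [5, 6, 8, 9, 7, 2, 1, 0, 4, 3],
    [4, 2, 3, 0, 1, 6, 9, 7, 8, 5],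
    [6, 5, 8, 7, 9, 1, 3, 4, 2, 0],
    [4, 2, 3, 0, 1, 6, 7, 9, 5, 8],
    [9, 5, 8, 6, 7, 3, 0, 2, 1, 4],
    [5, 6, 8, 9, 7, 1, 4, 2, 3, 0],
    [6, 9, 8, 5, 7, 2, 3, 4, 0, 1],
    [2, 4, 3, 1, 0, 6, 7, 8, 9, 5],
    [5, 7, 8, 6, 9, 4, 3, 0, 2, 1],
    [6, 5, 8, 7, 9, 0, 2, 4, 3, 1],
    [2, 1, 3, 0, 4, 9, 7, 6, 8, 5],
    [9, 6, 8, 7, 5, 0, 2, 1, 4, 3],
    [4, 0, 3, 1, 2, 6, 5, 9, 8, 7],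
    [9, 7, 8, 5, 6, 0, 3, 2, 4, 1]]

/-- The permutations of the words. (part 3) -/
noncomputable def permC3 : List (List ℕ) :=
  [
    [1, 0, 3, 2, 4, 7, 8, 5, 6, 9],
    [1, 0, 3, 2, 4, 8, 5, 6, 9, 7],
    [0, 1, 3, 4, 2, 5, 7, 9, 8, 6],
    [7, 6, 8, 5, 9, 4, 2, 1, 3, 0],
    [5, 9, 8, 7, 6, 2, 3, 1, 4, 0],
    [2, 4, 3, 1, 0, 9, 6, 5, 8, 7],
    [7, 9, 8, 6, 5, 4, 3, 1, 0, 2],
    [6, 7, 8, 9, 5, 0, 1, 2, 3, 4],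
    [1, 0, 4, 3, 2, 5, 7, 9, 8, 6],
    [6, 7, 8, 9, 5, 2, 3, 4, 0, 1],
    [6, 9, 8, 5, 7, 3, 1, 2, 4, 0],
    [1, 0, 3, 2, 4, 9, 5, 6, 7, 8],
    [7, 9, 8, 6, 5, 1, 2, 3, 4, 0],
    [5, 6, 8, 9, 7, 0, 3, 4, 1, 2],
    [2, 0, 3, 4, 1, 9, 5, 7, 8, 6],
    [1, 0, 3, 2, 4, 7, 6, 8, 5, 9]]

/-- The permutations of the words. (part 4) -/
noncomputable def permC4 : List (List ℕ) :=
  [
    [9, 5, 8, 6, 7, 0, 1, 3, 4, 2],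
    [9, 6, 8, 7, 5, 3, 4, 0, 1, 2],
    [1, 4, 3, 0, 2, 7, 6, 9, 8, 5],
    [9, 6, 8, 7, 5, 2, 1, 4, 3, 0],
    [6, 7, 8, 9, 5, 4, 3, 1, 0, 2],
    [9, 5, 8, 6, 7, 4, 3, 2, 1, 0],
    [6, 9, 8, 5, 7, 0, 4, 1, 3, 2],
    [6, 7, 8, 9, 5, 4, 1, 3, 2, 0],
    [9, 7, 8, 5, 6, 0, 4, 3, 2, 1],
    [4, 2, 3, 0, 1, 8, 7, 9, 6, 5],
    [5, 9, 8, 7, 6, 0, 2, 3, 1, 4]]

/-- The permutations of the words. -/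
noncomputable def permC : List (List ℕ) :=
  permC0 ++ permC1 ++ permC2 ++ permC3 ++ permC4

/-- Transpositions on the first five. (part 0) -/
noncomputable def genA0 : List (List (Fin 5 × Fin 5)) :=
  [
    [(0, 2), (1, 2), (2, 3), (3, 4)],
    [],
    [(0, 1), (1, 4)],
    [(0, 4), (1, 4)],
    [(0, 4), (1, 2)],
    [(1, 4), (2, 4)],
    [(0, 2), (1, 2)],
    [(1, 2), (2, 4)],
    [(0, 2), (2, 4)],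
    [(0, 1), (2, 4)],
    [(0, 1), (1, 2)],
    [(0, 4), (2, 4)],
    [(0, 2), (1, 4)],
    [],
    [(0, 2), (1, 4)],
    [(0, 1), (2, 4)]]

/-- Transpositions on the first five. (part 1) -/
noncomputable def genA1 : List (List (Fin 5 × Fin 5)) :=
  [
    [(0, 4), (1, 2)],
    [],
    [(0, 2), (1, 4)],
    [(0, 1), (2, 4)],
    [(0, 4), (1, 2)],
    [(0, 4), (1, 2)],
    [(0, 1), (2, 4)],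
    [(0, 2), (1, 4)],
    [],
    [(0, 4), (1, 2)],
    [(0, 1), (2, 4)],
    [(0, 2), (1, 4)],
    []]

/-- Transpositions on the first five. -/
noncomputable def genA : List (List (Fin 5 × Fin 5)) :=
  genA0 ++ genA1

/-- Transpositions on the last five. (part 0) -/
noncomputable def genB0 : List (List (Fin 5 × Fin 5)) :=
  [
    [(0, 4), (1, 4)],
    [],
    [(0, 2), (1, 2)],
    [(0, 1), (1, 2)],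
    [(0, 1), (2, 4)],
    [(1, 4), (2, 4)],
    [(0, 4), (2, 4)],
    [(1, 2), (2, 4)],
    [(0, 4), (1, 4)],
    [(0, 2), (1, 4)],
    [(0, 2), (2, 4)],
    [(0, 1), (1, 4)],
    [(0, 4), (1, 2)],
    [],
    [(0, 2), (1, 4)],
    [(0, 1), (2, 4)]]

/-- Transpositions on the last five. (part 1) -/
noncomputable def genB1 : List (List (Fin 5 × Fin 5)) :=
  [
    [(0, 4), (1, 2)],
    [],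
    [(0, 2), (1, 4)],
    [(0, 1), (2, 4)],
    [(0, 4), (1, 2)],
    [(0, 4), (1, 2)],
    [(0, 1), (2, 4)],
    [(0, 2), (1, 4)],
    [],
    [(0, 4), (1, 2)],
    [(0, 1), (2, 4)],
    [(0, 2), (1, 4)],
    []]

/-- Transpositions on the last five. -/
noncomputable def genB : List (List (Fin 5 × Fin 5)) :=
  genB0 ++ genB1

/-- Interchange of the two halves. -/
noncomputable def genS : List Bool :=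
  [false, false, false, false, false, false, false, false, false, false, false, false, false, false, false, false, false, true, true, true, true, true, true, true, true, false, false, false, false]

/-- The alternating group of degree five. (part 0) -/
noncomputable def altL0 : List (List ℕ) :=
  [
    [0, 1, 2, 3, 4],
    [0, 1, 3, 4, 2],
    [0, 1, 4, 2, 3],
    [0, 2, 1, 4, 3],
    [0, 2, 3, 1, 4],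
    [0, 2, 4, 3, 1],
    [0, 3, 1, 2, 4],
    [0, 3, 2, 4, 1],
    [0, 3, 4, 1, 2],
    [0, 4, 1, 3, 2],
    [0, 4, 2, 1, 3],
    [0, 4, 3, 2, 1],
    [1, 0, 2, 4, 3],
    [1, 0, 3, 2, 4],
    [1, 0, 4, 3, 2],
    [1, 2, 0, 3, 4]]

/-- The alternating group of degree five. (part 1) -/
noncomputable def altL1 : List (List ℕ) :=
  [
    [1, 2, 3, 4, 0],
    [1, 2, 4, 0, 3],
    [1, 3, 0, 4, 2],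
    [1, 3, 2, 0, 4],
    [1, 3, 4, 2, 0],
    [1, 4, 0, 2, 3],
    [1, 4, 2, 3, 0],
    [1, 4, 3, 0, 2],
    [2, 0, 1, 3, 4],
    [2, 0, 3, 4, 1],
    [2, 0, 4, 1, 3],
    [2, 1, 0, 4, 3],
    [2, 1, 3, 0, 4],
    [2, 1, 4, 3, 0],
    [2, 3, 0, 1, 4],
    [2, 3, 1, 4, 0]]

/-- The alternating group of degree five. (part 2) -/
noncomputable def altL2 : List (List ℕ) :=
  [
    [2, 3, 4, 0, 1],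
    [2, 4, 0, 3, 1],
    [2, 4, 1, 0, 3],
    [2, 4, 3, 1, 0],
    [3, 0, 1, 4, 2],
    [3, 0, 2, 1, 4],
    [3, 0, 4, 2, 1],
    [3, 1, 0, 2, 4],
    [3, 1, 2, 4, 0],
    [3, 1, 4, 0, 2],
    [3, 2, 0, 4, 1],
    [3, 2, 1, 0, 4],
    [3, 2, 4, 1, 0],
    [3, 4, 0, 1, 2],
    [3, 4, 1, 2, 0],
    [3, 4, 2, 0, 1]]

/-- The alternating group of degree five. (part 3) -/
noncomputable def altL3 : List (List ℕ) :=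
  [
    [4, 0, 1, 2, 3],
    [4, 0, 2, 3, 1],
    [4, 0, 3, 1, 2],
    [4, 1, 0, 3, 2],
    [4, 1, 2, 0, 3],
    [4, 1, 3, 2, 0],
    [4, 2, 0, 1, 3],
    [4, 2, 1, 3, 0],
    [4, 2, 3, 0, 1],
    [4, 3, 0, 2, 1],
    [4, 3, 1, 0, 2],
    [4, 3, 2, 1, 0]]

/-- The alternating group of degree five. -/
noncomputable def altL : List (List ℕ) :=
  altL0 ++ altL1 ++ altL2 ++ altL3

/-- Elements inducing them on the first five. (part 0) -/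
noncomputable def altD0 : List (List ℕ) :=
  [
    [0, 0, 0],
    [62, 2, 6],
    [6, 2, 5],
    [50, 0, 4],
    [53, 2, 7],
    [1, 3, 3],
    [32, 2, 4],
    [25, 2, 11],
    [4, 3, 4],
    [56, 3, 7],
    [46, 2, 0],
    [27, 0, 0],
    [62, 0, 10],
    [6, 0, 1],
    [0, 3, 11],
    [56, 0, 4]]

/-- Elements inducing them on the first five. (part 1) -/
noncomputable def altD1 : List (List ℕ) :=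
  [
    [25, 3, 3],
    [44, 1, 3],
    [50, 3, 7],
    [66, 2, 1],
    [27, 1, 8],
    [32, 1, 7],
    [1, 2, 11],
    [35, 3, 4],
    [1, 0, 8],
    [50, 1, 9],
    [53, 3, 2],
    [25, 0, 8],
    [44, 2, 8],
    [56, 1, 9],
    [46, 0, 3],
    [62, 1, 5]]

/-- Elements inducing them on the first five. (part 2) -/
noncomputable def altD2 : List (List ℕ) :=
  [
    [35, 1, 2],
    [0, 2, 3],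
    [66, 3, 6],
    [4, 1, 2],
    [25, 1, 0],
    [4, 2, 9],
    [32, 3, 9],
    [27, 2, 3],
    [50, 2, 2],
    [66, 0, 5],
    [62, 3, 1],
    [35, 0, 7],
    [46, 3, 8],
    [53, 1, 4],
    [6, 1, 6],
    [44, 0, 11]]

/-- Elements inducing them on the first five. (part 3) -/
noncomputable def altD3 : List (List ℕ) :=
  [
    [27, 3, 11],
    [56, 2, 2],
    [46, 1, 11],
    [1, 1, 0],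
    [35, 2, 9],
    [32, 0, 2],
    [4, 0, 7],
    [0, 1, 8],
    [66, 1, 10],
    [6, 3, 10],
    [44, 3, 0],
    [53, 0, 9]]

/-- Elements inducing them on the first five. -/
noncomputable def altD : List (List ℕ) :=
  altD0 ++ altD1 ++ altD2 ++ altD3

/-- An element interchanging the halves. -/
noncomputable def swapD : List ℕ :=
  [0, 4, 0]

end Cfsg.Agent.H18.Monster.Prime.FiveData
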