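import Cfsg.Agent.H18.Monster.Prime.Frame

/-!
Tables for a code permutation of cycle type `3^8`.
-/

set_option autoImplicit false

namespace Cfsg.Agent.H18.Monster.Prime.ThreeData

/-- The permutation. -/
noncomputable def img : List ℕ :=
  [20, 13, 8, 16, 18, 1, 7, 15, 14, 4, 19, 0, 21, 5, 2, 6, 22, 12, 9, 23, 11, 17, 3, 10]

/-- Its inverse. -/
noncomputable def imgI : List ℕ :=
  [11, 5, 14, 22, 9, 13, 15, 6, 2, 18, 23, 20, 17, 1, 8, 7, 3, 21, 4, 10, 0, 12, 16, 19]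

/-- The orbit numbers. -/
noncomputable def lab : List ℕ :=
  [0, 1, 2, 4, 5, 1, 6, 6, 2, 5, 3, 0, 7, 1, 2, 6, 4, 7, 5, 3, 0, 7, 4, 3]

/-- The positions in the orbits. -/
noncomputable def pos : List ℕ :=
  [0, 0, 0, 0, 0, 2, 0, 1, 1, 2, 0, 2, 0, 1, 2, 2, 1, 2, 1, 1, 1, 1, 2, 2]

/-- The representatives of the orbits. -/
noncomputable def orbRep : List ℕ :=
  [0, 1, 2, 10, 3, 4, 6, 12]

/-- A basis of the fixed sublattice. (part 0) -/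
noncomputable def fL0 : List (List ℤ) :=
  [
    [1, 1, -1, 3, 3, 1, 1, 1, -1, 3, 1, 1, 3, 1, -1, 1, 3, 3, 3, 1, 1, 3, 3, 1],
    [1, -1, -1, -3, -1, -1, -1, -1, -1, -1, -3, 1, -3, -1, -1, -1, -3, -3, -1, -3, 1, -3, -3, -3],
    [4, 0, 0, 2, 2, 0, -2, -2, 0, 2, 2, 4, 0, 0, 0, -2, 2, 0, 2, 2, 4, 0, 2, 2],
    [1, 3, -1, -1, 1, 3, 1, 1, -1, 1, 3, 1, -3, 3, -1, 1, -1, -3, 1, 3, 1, -3, -1, 3],
    [-2, -2, 0, 2, -2, -2, 0, 0, 0, -2, 0, -2, 4, -2, 0, 0, 2, 4, -2, 0, -2, 4, 2, 0],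
    [0, 4, -2, 0, 0, 4, -2, -2, -2, 0, -2, 0, 2, 4, -2, -2, 0, 2, 0, -2, 0, 2, 0, -2],
    [-3, -1, 3, 1, -1, -1, 3, 3, 3, -1, 1, -3, 1, -1, 3, 3, 1, 1, -1, 1, -3, 1, 1, 1],
    [0, 2, 2, 0, 2, 2, 2, 2, 2, 2, 0, 0, 0, 2, 2, 2, 0, 0, 2, 0, 0, 0, 0, 0]]

/-- A basis of the fixed sublattice. -/
noncomputable def fL : List (List ℤ) :=
  fL0

/-- Dual vectors. (part 0) -/
noncomputable def yL0 : List (List ℤ) :=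
  [
    [0, 0, -2, 0, -2, 0, 0, 0, 0, 0, 0, 0, 0, 0, 0, 2, 2, -2, 2, -2, 0, 0, 2, 0],
    [5, -1, 1, 1, -3, 1, 1, 1, -1, -1, -1, 1, 1, 1, -1, 3, 1, -1, -1, -1, -1, -1, 1, -1],
    [1, 1, 1, 1, -3, 1, -1, 1, -1, -1, 1, 1, 1, -1, 1, 1, 1, -1, 1, -1, 1, -1, 1, -1],
    [1, -1, -1, -1, -1, 1, 1, 1, 1, -3, 1, 1, 1, 1, -1, 1, 1, 1, 1, -1, 1, -1, -1, 1],
    [2, 0, 0, -2, -2, 0, 0, 2, 0, 0, 0, 0, 0, 0, 0, 2, -4, 4, -2, 2, 4, 2, 0, 0],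
    [0, 2, -2, 2, -2, 0, 0, 0, 0, 0, 0, 0, 0, 0, 2, 0, 0, 0, 0, -2, 0, -2, 2, 0],
    [0, 0, 0, 4, -2, 0, 2, 0, 0, 0, -2, 0, 0, 2, 0, 0, 4, -2, -2, 0, 0, -4, 2, -2],
    [2, 0, 0, -6, 0, 0, 2, 0, 2, 0, 0, 0, 4, 0, 0, 0, 0, 0, 0, 2, 2, 2, -2, 0]]

/-- Dual vectors. -/
noncomputable def yL : List (List ℤ) :=
  yL0

/-- The inverse of the sums over the orbits, cleared of denominators. (part 0) -/
noncomputable def U0 : List (List ℤ) :=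
  [
    [1, 1, 4, 1, -2, 0, -3, 0],
    [1, -1, 0, 3, -2, 4, -1, 2],
    [-1, -1, 0, -1, 0, -2, 3, 2],
    [1, -3, 2, 3, 0, -2, 1, 0],
    [3, -3, 2, -1, 2, 0, 1, 0],
    [3, -1, 2, 1, -2, 0, -1, 2],
    [1, -1, -2, 1, 0, -2, 3, 2],
    [3, -3, 0, -3, 4, 2, 1, 0]]

/-- The inverse of the sums over the orbits, cleared of denominators. -/
noncomputable def U : List (List ℤ) :=
  U0

/-- The denominator. -/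
noncomputable def den : ℤ :=
  8

/-- Representatives of the codes. (part 0) -/
noncomputable def repL0 : List (List ℤ) :=
  [
    [0, 0, 0, 0, 0, 0, 0, 0, 0, 0, 0, 0, 0, 0, 0, 0, 0, 0, 0, 0, 0, 0, 0, 0],
    [-3, -3, -1, -1, -1, -3, 1, 1, -1, -1, 1, -3, 3, -3, -1, 1, -1, 3, -1, 1, -3, 3, -1, 1],
    [-5, 1, 1, -1, 1, 1, 1, 1, 1, 1, -1, -5, -1, 1, 1, 1, -1, -1, 1, -1, -5, -1, -1, -1],
    [-2, 0, 2, 0, -2, 0, 0, 0, 2, -2, 2, -2, 0, 0, 2, 0, 0, 0, -2, 2, -2, 0, 0, 2],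
    [-4, 0, 0, -2, -2, 0, 2, 2, 0, -2, -2, -4, 0, 0, 0, 2, -2, 0, -2, -2, -4, 0, -2, -2],
    [-3, -3, -1, -3, 1, -3, -1, -1, -1, 1, -1, -3, -1, -3, -1, -1, -3, -1, 1, -1, -3, -1, -3, -1],
    [-1, 1, 1, 1, 3, 1, -1, -1, 1, 3, 1, -1, -1, 1, 1, -1, 1, -1, 3, 1, -1, -1, 1, 1],
    [-4, -2, 0, 0, 2, -2, 0, 0, 0, 2, 2, -4, 2, -2, 0, 0, 0, 2, 2, 2, -4, 2, 0, 2],
    [-3, -1, -1, -1, 1, -1, -3, -3, -1, 1, -1, -3, -3, -1, -1, -3, -1, -3, 1, -1, -3, -3, -1, -1],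
    [-4, 2, 0, 0, -2, 2, 0, 0, 0, -2, -2, -4, -2, 2, 0, 0, 0, -2, -2, -2, -4, -2, 0, -2],
    [-4, 0, 0, 2, 2, 0, -2, -2, 0, 2, 2, -4, 0, 0, 0, -2, 2, 0, 2, 2, -4, 0, 2, 2],
    [-1, -1, 1, -1, 3, -1, 1, 1, 1, 3, 1, -1, 1, -1, 1, 1, -1, 1, 3, 1, -1, 1, -1, 1],
    [-3, -1, -1, 1, -1, -1, -1, -1, -1, -1, 1, -3, 1, -1, -1, -1, 1, 1, -1, 1, -3, 1, 1, 1],
    [0, -2, 0, -2, 0, -2, 2, 2, 0, 0, 0, 0, 2, -2, 0, 2, -2, 2, 0, 0, 0, 2, -2, 0],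
    [-2, -2, -2, -2, -2, -2, -2, -2, -2, -2, -2, -2, -2, -2, -2, -2, -2, -2, -2, -2, -2, -2, -2, -2],
    [-1, -1, -3, 1, 1, -1, -1, -1, -3, 1, -1, -1, 1, -1, -3, -1, 1, 1, 1, -1, -1, 1, 1, -1]]

/-- Representatives of the codes. (part 1) -/
noncomputable def repL1 : List (List ℤ) :=
  [
    [-4, 0, -2, 0, 0, 0, -2, -2, -2, 0, 2, -4, -2, 0, -2, -2, 0, -2, 0, 2, -4, -2, 0, 2],
    [-1, -1, -1, -3, 1, -1, 1, 1, -1, 1, 1, -1, -1, -1, -1, 1, -3, -1, 1, 1, -1, -1, -3, 1],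
    [-3, -1, 1, -3, -1, -1, 1, 1, 1, -1, 3, -3, -1, -1, 1, 1, -3, -1, -1, 3, -3, -1, -3, 3],
    [-4, 2, 2, 2, 0, 2, 0, 0, 2, 0, -2, -4, 0, 2, 2, 0, 2, 0, 0, -2, -4, 0, 2, -2],
    [-2, -2, 0, 0, 0, -2, -2, -2, 0, 0, -2, -2, 0, -2, 0, -2, 0, 0, 0, -2, -2, 0, 0, -2],
    [-3, -3, 1, 1, 1, -3, 1, 1, 1, 1, 1, -3, -3, -3, 1, 1, 1, -3, 1, 1, -3, -3, 1, 1],
    [-3, -1, -3, -1, -3, -1, -1, -1, -3, -3, 1, -3, -1, -1, -3, -1, -1, -1, -3, 1, -3, -1, -1, 1],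
    [-4, -2, 2, 0, -2, -2, -2, -2, 2, -2, 0, -4, 0, -2, 2, -2, 0, 0, -2, 0, -4, 0, 0, 0],
    [-1, 1, -1, 1, -1, 1, 1, 1, -1, -1, 3, -1, 1, 1, -1, 1, 1, 1, -1, 3, -1, 1, 1, 3],
    [-4, 2, -2, 0, 2, 2, 2, 2, -2, 2, 0, -4, 0, 2, -2, 2, 0, 0, 2, 0, -4, 0, 0, 0],
    [0, 0, -2, -2, -2, 0, 0, 0, -2, -2, 0, 0, -2, 0, -2, 0, -2, -2, -2, 0, 0, -2, -2, 0],
    [-1, -1, 3, -1, -1, -1, -1, -1, 3, -1, -1, -1, -1, -1, 3, -1, -1, -1, -1, -1, -1, -1, -1, -1],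
    [-1, 1, -1, -1, 1, 1, -1, -1, -1, 1, 1, -1, -3, 1, -1, -1, -1, -3, 1, 1, -1, -3, -1, 1],
    [-4, -2, -2, -2, 0, -2, 0, 0, -2, 0, 2, -4, 0, -2, -2, 0, -2, 0, 0, 2, -4, 0, -2, 2],
    [-4, 0, 2, 0, 0, 0, 2, 2, 2, 0, -2, -4, 2, 0, 2, 2, 0, 2, 0, -2, -4, 2, 0, -2],
    [-3, -3, 1, -1, 3, -3, -1, -1, 1, 3, -1, -3, 1, -3, 1, -1, -1, 1, 3, -1, -3, 1, -1, -1]]

/-- Representatives of the codes. (part 2) -/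
noncomputable def repL2 : List (List ℤ) :=
  [
    [-4, 0, -2, 0, 0, 0, 2, 2, -2, 0, 2, -4, 2, 0, -2, 2, 0, 2, 0, 2, -4, 2, 0, 2],
    [-1, 3, -1, 1, 1, 3, 1, 1, -1, 1, 1, -1, -1, 3, -1, 1, 1, -1, 1, 1, -1, -1, 1, 1],
    [-3, -1, -3, -3, -1, -1, 1, 1, -3, -1, -1, -3, -1, -1, -3, 1, -3, -1, -1, -1, -3, -1, -3, -1],
    [-4, -2, 2, -2, 0, -2, 0, 0, 2, 0, -2, -4, 0, -2, 2, 0, -2, 0, 0, -2, -4, 0, -2, -2],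
    [-4, 0, -2, -2, 2, 0, 0, 0, -2, 2, 0, -4, -2, 0, -2, 0, -2, -2, 2, 0, -4, -2, -2, 0],
    [-1, -1, -1, -1, -1, -1, -1, -1, -1, -1, 3, -1, -1, -1, -1, -1, -1, -1, -1, 3, -1, -1, -1, 3],
    [-1, 1, 3, 1, -1, 1, 1, 1, 3, -1, -1, -1, 1, 1, 3, 1, 1, 1, -1, -1, -1, 1, 1, -1],
    [0, -2, 2, 0, 2, -2, -2, -2, 2, 2, 0, 0, 0, -2, 2, -2, 0, 0, 2, 0, 0, 0, 0, 0],
    [-3, -1, 1, -1, -3, -1, -1, -1, 1, -3, -3, -3, -1, -1, 1, -1, -1, -1, -3, -3, -3, -1, -1, -3],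
    [-2, 0, 0, 2, 0, 0, 0, 0, 0, 0, -2, -2, 2, 0, 0, 0, 2, 2, 0, -2, -2, 2, 2, -2],
    [-4, 0, 2, 2, -2, 0, 0, 0, 2, -2, 0, -4, 2, 0, 2, 0, 2, 2, -2, 0, -4, 2, 2, 0],
    [-3, -3, 1, 1, 1, -3, -3, -3, 1, 1, 1, -3, 1, -3, 1, -3, 1, 1, 1, 1, -3, 1, 1, 1],
    [-1, 1, -1, -1, 1, 1, 3, 3, -1, 1, 1, -1, 1, 1, -1, 3, -1, 1, 1, 1, -1, 1, -1, 1],
    [-4, 2, -2, 2, 0, 2, 0, 0, -2, 0, 2, -4, 0, 2, -2, 0, 2, 0, 0, 2, -4, 0, 2, 2],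
    [-4, 0, 2, 0, 0, 0, -2, -2, 2, 0, -2, -4, -2, 0, 2, -2, 0, -2, 0, -2, -4, -2, 0, -2],
    [-3, 1, -3, -1, -1, 1, -1, -1, -3, -1, -1, -3, -3, 1, -3, -1, -1, -3, -1, -1, -3, -3, -1, -1]]

/-- Representatives of the codes. (part 3) -/
noncomputable def repL3 : List (List ℤ) :=
  [
    [-4, 0, 0, 0, -4, 0, 0, 0, 0, -4, 0, -4, 0, 0, 0, 0, 0, 0, -4, 0, -4, 0, 0, 0],
    [-3, -3, -1, -1, -1, -3, -3, -3, -1, -1, 1, -3, -1, -3, -1, -3, -1, -1, -1, 1, -3, -1, -1, 1],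
    [-3, -1, -1, 1, -1, -1, 3, 3, -1, -1, 1, -3, -3, -1, -1, 3, 1, -3, -1, 1, -3, -3, 1, 1],
    [-2, 0, -2, 0, -2, 0, 0, 0, -2, -2, -2, -2, 0, 0, -2, 0, 0, 0, -2, -2, -2, 0, 0, -2],
    [0, 0, 0, -2, 2, 0, 2, 2, 0, 2, -2, 0, 0, 0, 0, 2, -2, 0, 2, -2, 0, 0, -2, -2],
    [-3, 1, -1, 1, 1, 1, -1, -1, -1, 1, -1, -3, -1, 1, -1, -1, 1, -1, 1, -1, -3, -1, 1, -1],
    [-5, 1, 1, 1, -1, 1, -1, -1, 1, -1, 1, -5, -1, 1, 1, -1, 1, -1, -1, 1, -5, -1, 1, 1],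
    [-2, 0, 2, -2, 0, 0, 2, 2, 2, 0, 0, -2, 0, 0, 2, 2, -2, 0, 0, 0, -2, 0, -2, 0],
    [-3, -1, -1, -1, 1, -1, 1, 1, -1, 1, -1, -3, 1, -1, -1, 1, -1, 1, 1, -1, -3, 1, -1, -1],
    [0, -2, 0, 0, -2, -2, 0, 0, 0, -2, 2, 0, 2, -2, 0, 0, 0, 2, -2, 2, 0, 2, 0, 2],
    [-2, 2, 2, 0, 0, 2, 0, 0, 2, 0, 0, -2, -2, 2, 2, 0, 0, -2, 0, 0, -2, -2, 0, 0],
    [-5, -1, 1, -1, -1, -1, 1, 1, 1, -1, 1, -5, 1, -1, 1, 1, -1, 1, -1, 1, -5, 1, -1, 1],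
    [-1, 1, 1, -1, -3, 1, 1, 1, 1, -3, -1, -1, -1, 1, 1, 1, -1, -1, -3, -1, -1, -1, -1, -1],
    [0, -2, 0, -2, 0, -2, -2, -2, 0, 0, 0, 0, -2, -2, 0, -2, -2, -2, 0, 0, 0, -2, -2, 0],
    [-4, 0, 0, 0, 4, 0, 0, 0, 0, 4, 0, -4, 0, 0, 0, 0, 0, 0, 4, 0, -4, 0, 0, 0],
    [-1, -1, 1, 1, 1, -1, -1, -1, 1, 1, 3, -1, 1, -1, 1, -1, 1, 1, 1, 3, -1, 1, 1, 3]]

/-- Representatives of the codes. (part 4) -/
noncomputable def repL4 : List (List ℤ) :=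
  [
    [-3, -1, -1, 1, -1, -1, -1, -1, -1, -1, -3, -3, -3, -1, -1, -1, 1, -3, -1, -3, -3, -3, 1, -3],
    [-4, 2, 0, -2, 0, 2, -2, -2, 0, 0, 0, -4, -2, 2, 0, -2, -2, -2, 0, 0, -4, -2, -2, 0],
    [-4, 0, 0, 4, 0, 0, 0, 0, 0, 0, 0, -4, 0, 0, 0, 0, 4, 0, 0, 0, -4, 0, 4, 0],
    [-1, -1, 1, 1, 1, -1, 3, 3, 1, 1, -1, -1, 1, -1, 1, 3, 1, 1, 1, -1, -1, 1, 1, -1],
    [-3, -1, -1, -1, 1, -1, -3, -3, -1, 1, 3, -3, 1, -1, -1, -3, -1, 1, 1, 3, -3, 1, -1, 3],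
    [-4, 2, 0, 0, -2, 2, 0, 0, 0, -2, 2, -4, 2, 2, 0, 0, 0, 2, -2, 2, -4, 2, 0, 2],
    [-2, 2, -2, 0, 0, 2, 0, 0, -2, 0, 0, -2, 2, 2, -2, 0, 0, 2, 0, 0, -2, 2, 0, 0],
    [-3, 1, -1, -3, -3, 1, -1, -1, -1, -3, -1, -3, -1, 1, -1, -1, -3, -1, -3, -1, -3, -1, -3, -1],
    [0, 0, 0, -2, 2, 0, -2, -2, 0, 2, 2, 0, 0, 0, 0, -2, -2, 0, 2, 2, 0, 0, -2, 2],
    [-1, 3, 1, -1, -1, 3, 1, 1, 1, -1, 1, -1, 1, 3, 1, 1, -1, 1, -1, 1, -1, 1, -1, 1],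
    [-1, -3, 1, 1, -1, -3, -1, -1, 1, -1, 1, -1, -1, -3, 1, -1, 1, -1, -1, 1, -1, -1, 1, 1],
    [-4, -2, 0, 0, 2, -2, 0, 0, 0, 2, -2, -4, -2, -2, 0, 0, 0, -2, 2, -2, -4, -2, 0, -2],
    [-4, 0, 0, -4, 0, 0, 0, 0, 0, 0, 0, -4, 0, 0, 0, 0, -4, 0, 0, 0, -4, 0, -4, 0],
    [-3, -3, -1, -1, -1, -3, 1, 1, -1, -1, -3, -3, -1, -3, -1, 1, -1, -1, -1, -3, -3, -1, -1, -3],
    [-1, 1, 1, 3, 1, 1, 1, 1, 1, 1, -1, -1, -1, 1, 1, 1, 3, -1, 1, -1, -1, -1, 3, -1],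
    [-4, -2, 0, 2, 0, -2, 2, 2, 0, 0, 0, -4, 2, -2, 0, 2, 2, 2, 0, 0, -4, 2, 2, 0]]

/-- Representatives of the codes. (part 5) -/
noncomputable def repL5 : List (List ℤ) :=
  [
    [-3, -1, -3, 1, 3, -1, 1, 1, -3, 3, -1, -3, -1, -1, -3, 1, 1, -1, 3, -1, -3, -1, 1, -1],
    [0, -2, -2, 2, 0, -2, 0, 0, -2, 0, 2, 0, 0, -2, -2, 0, 2, 0, 0, 2, 0, 0, 2, 2],
    [-4, 0, -2, 0, 0, 0, -2, -2, -2, 0, -2, -4, 2, 0, -2, -2, 0, 2, 0, -2, -4, 2, 0, -2],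
    [-5, -1, -1, 1, 1, -1, 1, 1, -1, 1, 1, -5, -1, -1, -1, 1, 1, -1, 1, 1, -5, -1, 1, 1],
    [-1, 1, -1, 1, -1, 1, 1, 1, -1, -1, -1, -1, -3, 1, -1, 1, 1, -3, -1, -1, -1, -3, 1, -1],
    [-4, -2, -2, 0, -2, -2, 2, 2, -2, -2, 0, -4, 0, -2, -2, 2, 0, 0, -2, 0, -4, 0, 0, 0],
    [-4, 0, 2, -2, 2, 0, 0, 0, 2, 2, 0, -4, 2, 0, 2, 0, -2, 2, 2, 0, -4, 2, -2, 0],
    [-3, -3, 1, 1, 1, -3, 1, 1, 1, 1, -3, -3, 1, -3, 1, 1, 1, 1, 1, -3, -3, 1, 1, -3],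
    [-4, 0, -2, 2, -2, 0, 0, 0, -2, -2, 0, -4, -2, 0, -2, 0, 2, -2, -2, 0, -4, -2, 2, 0],
    [-1, -1, -1, -1, -1, -1, 3, 3, -1, -1, -1, -1, -1, -1, -1, 3, -1, -1, -1, -1, -1, -1, -1, -1],
    [-3, -1, 1, -1, -3, -1, 3, 3, 1, -3, 1, -3, -1, -1, 1, 3, -1, -1, -3, 1, -3, -1, -1, 1],
    [-4, 2, 2, 0, 2, 2, -2, -2, 2, 2, 0, -4, 0, 2, 2, -2, 0, 0, 2, 0, -4, 0, 0, 0],
    [-4, 0, 2, 0, 0, 0, 2, 2, 2, 0, 2, -4, -2, 0, 2, 2, 0, -2, 0, 2, -4, -2, 0, 2],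
    [-3, 1, 1, -1, -1, 1, -1, -1, 1, -1, -1, -3, 1, 1, 1, -1, -1, 1, -1, -1, -3, 1, -1, -1],
    [-1, 1, -1, -1, 1, 1, -1, -1, -1, 1, -3, -1, 1, 1, -1, -1, -1, 1, 1, -3, -1, 1, -1, -3],
    [-2, 0, 0, 0, 2, 0, 2, 2, 0, 2, 0, -2, -2, 0, 0, 2, 0, -2, 2, 0, -2, -2, 0, 0]]

/-- Representatives of the codes. (part 6) -/
noncomputable def repL6 : List (List ℤ) :=
  [
    [-3, -1, 1, -3, -1, -1, -3, -3, 1, -1, -1, -3, -1, -1, 1, -3, -3, -1, -1, -1, -3, -1, -3, -1],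
    [-2, 0, 0, 0, 2, 0, -2, -2, 0, 2, 0, -2, 2, 0, 0, -2, 0, 2, 2, 0, -2, 2, 0, 0],
    [-4, 0, 2, 0, 0, 0, -2, -2, 2, 0, 2, -4, 2, 0, 2, -2, 0, 2, 0, 2, -4, 2, 0, 2],
    [-3, -3, 1, 3, -1, -3, -1, -1, 1, -1, -1, -3, 1, -3, 1, -1, 3, 1, -1, -1, -3, 1, 3, -1],
    [-3, -1, -3, 3, 1, -1, -1, -1, -3, 1, 1, -3, -1, -1, -3, -1, 3, -1, 1, 1, -3, -1, 3, 1],
    [0, -2, -2, 0, 2, -2, 2, 2, -2, 2, 0, 0, 0, -2, -2, 2, 0, 0, 2, 0, 0, 0, 0, 0],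
    [-2, -2, 0, 0, 0, -2, 2, 2, 0, 0, 2, -2, 0, -2, 0, 2, 0, 0, 0, 2, -2, 0, 0, 2],
    [-1, -1, -1, -1, -1, -1, -1, -1, -1, -1, -1, -1, 3, -1, -1, -1, -1, 3, -1, -1, -1, 3, -1, -1],
    [0, 0, -2, 2, 2, 0, 0, 0, -2, 2, 0, 0, -2, 0, -2, 0, 2, -2, 2, 0, 0, -2, 2, 0],
    [-3, -3, -3, 1, 1, -3, 1, 1, -3, 1, 1, -3, 1, -3, -3, 1, 1, 1, 1, 1, -3, 1, 1, 1],
    [-1, 1, -1, 1, -1, 1, -3, -3, -1, -1, -1, -1, 1, 1, -1, -3, 1, 1, -1, -1, -1, 1, 1, -1],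
    [-2, 0, 0, 2, 0, 0, 0, 0, 0, 0, 2, -2, -2, 0, 0, 0, 2, -2, 0, 2, -2, -2, 2, 2],
    [-4, 0, -2, 0, 0, 0, 2, 2, -2, 0, -2, -4, -2, 0, -2, 2, 0, -2, 0, -2, -4, -2, 0, -2],
    [-1, -1, -1, 1, -3, -1, 1, 1, -1, -3, 1, -1, -1, -1, -1, 1, 1, -1, -3, 1, -1, -1, 1, 1],
    [-1, 1, 3, -1, 1, 1, -1, -1, 3, 1, 1, -1, 1, 1, 3, -1, -1, 1, 1, 1, -1, 1, -1, 1],
    [0, -2, 2, 2, 0, -2, 0, 0, 2, 0, -2, 0, 0, -2, 2, 0, 2, 0, 0, -2, 0, 0, 2, -2]]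

/-- Representatives of the codes. (part 7) -/
noncomputable def repL7 : List (List ℤ) :=
  [
    [-3, -1, -1, -3, 3, -1, -1, -1, -1, 3, 1, -3, 1, -1, -1, -1, -3, 1, 3, 1, -3, 1, -3, 1],
    [-4, 2, 0, -2, 0, 2, 2, 2, 0, 0, 0, -4, 2, 2, 0, 2, -2, 2, 0, 0, -4, 2, -2, 0],
    [-4, -4, 0, 0, 0, -4, 0, 0, 0, 0, 0, -4, 0, -4, 0, 0, 0, 0, 0, 0, -4, 0, 0, 0],
    [-1, -1, 1, 1, 1, -1, -1, -1, 1, 1, -1, -1, -3, -1, 1, -1, 1, -3, 1, -1, -1, -3, 1, -1],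
    [-1, 1, 1, -3, -1, 1, -1, -1, 1, -1, 1, -1, -1, 1, 1, -1, -3, -1, -1, 1, -1, -1, -3, 1],
    [0, -2, 0, 0, -2, -2, 0, 0, 0, -2, -2, 0, -2, -2, 0, 0, 0, -2, -2, -2, 0, -2, 0, -2],
    [-4, 0, 0, 2, 2, 0, 2, 2, 0, 2, -2, -4, 0, 0, 0, 2, 2, 0, 2, -2, -4, 0, 2, -2],
    [-1, -1, 1, 3, -1, -1, 1, 1, 1, -1, 1, -1, 1, -1, 1, 1, 3, 1, -1, 1, -1, 1, 3, 1],
    [-4, 0, 0, -2, -2, 0, -2, -2, 0, -2, 2, -4, 0, 0, 0, -2, -2, 0, -2, 2, -4, 0, -2, 2],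
    [-3, -3, -1, 1, -3, -3, -1, -1, -1, -3, -1, -3, -1, -3, -1, -1, 1, -1, -3, -1, -3, -1, 1, -1],
    [-3, -1, -1, -1, 1, -1, 1, 1, -1, 1, 3, -3, -3, -1, -1, 1, -1, -3, 1, 3, -3, -3, -1, 3],
    [-2, 0, -2, -2, 0, 0, -2, -2, -2, 0, 0, -2, 0, 0, -2, -2, -2, 0, 0, 0, -2, 0, -2, 0],
    [-4, 4, 0, 0, 0, 4, 0, 0, 0, 0, 0, -4, 0, 4, 0, 0, 0, 0, 0, 0, -4, 0, 0, 0],
    [-3, -3, 3, -1, -1, -3, 1, 1, 3, -1, 1, -3, -1, -3, 3, 1, -1, -1, -1, 1, -3, -1, -1, 1],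
    [-1, -3, 1, -1, 1, -3, 1, 1, 1, 1, -1, -1, -1, -3, 1, 1, -1, -1, 1, -1, -1, -1, -1, -1],
    [-4, -2, 0, 2, 0, -2, -2, -2, 0, 0, 0, -4, -2, -2, 0, -2, 2, -2, 0, 0, -4, -2, 2, 0]]

/-- Representatives of the codes. (part 8) -/
noncomputable def repL8 : List (List ℤ) :=
  [
    [0, -2, -2, 0, -2, -2, -2, -2, -2, -2, 0, 0, 0, -2, -2, -2, 0, 0, -2, 0, 0, 0, 0, 0],
    [-3, -1, -3, -1, 1, -1, -1, -1, -3, 1, -3, -3, -1, -1, -3, -1, -1, -1, 1, -3, -3, -1, -1, -3],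
    [-5, -1, -1, -1, -1, -1, -1, -1, -1, -1, -1, -5, -1, -1, -1, -1, -1, -1, -1, -1, -5, -1, -1, -1],
    [-4, 0, -2, 2, 2, 0, 0, 0, -2, 2, 0, -4, 2, 0, -2, 0, 2, 2, 2, 0, -4, 2, 2, 0],
    [0, -2, 2, -2, 0, -2, 0, 0, 2, 0, 2, 0, 0, -2, 2, 0, -2, 0, 0, 2, 0, 0, -2, 2],
    [-3, -1, -3, 1, -1, -1, 1, 1, -3, -1, -1, -3, 3, -1, -3, 1, 1, 3, -1, -1, -3, 3, 1, -1],
    [-1, -1, -1, 1, 1, -1, -3, -3, -1, 1, 1, -1, -1, -1, -1, -3, 1, -1, 1, 1, -1, -1, 1, 1],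
    [-2, 2, 0, 2, -2, 2, 0, 0, 0, -2, 0, -2, 0, 2, 0, 0, 2, 0, -2, 0, -2, 0, 2, 0],
    [-3, -3, 1, -1, -1, -3, -1, -1, 1, -1, 3, -3, 1, -3, 1, -1, -1, 1, -1, 3, -3, 1, -1, 3],
    [0, 0, -2, 0, 0, 0, 2, 2, -2, 0, -2, 0, 2, 0, -2, 2, 0, 2, 0, -2, 0, 2, 0, -2],
    [-2, 0, 0, 0, -2, 0, 2, 2, 0, -2, 0, -2, 2, 0, 0, 2, 0, 2, -2, 0, -2, 2, 0, 0],
    [-1, -3, -1, -1, 1, -3, -1, -1, -1, 1, 1, -1, 1, -3, -1, -1, -1, 1, 1, 1, -1, 1, -1, 1],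
    [-3, 1, 1, 1, 1, 1, 1, 1, 1, 1, 1, -3, 1, 1, 1, 1, 1, 1, 1, 1, -3, 1, 1, 1],
    [-4, 0, 2, -2, -2, 0, 0, 0, 2, -2, 0, -4, -2, 0, 2, 0, -2, -2, -2, 0, -4, -2, -2, 0],
    [-2, 0, 0, -2, 0, 0, 0, 0, 0, 0, -2, -2, -2, 0, 0, 0, -2, -2, 0, -2, -2, -2, -2, -2],
    [-1, 1, -1, 1, 3, 1, 1, 1, -1, 3, -1, -1, 1, 1, -1, 1, 1, 1, 3, -1, -1, 1, 1, -1]]

/-- Representatives of the codes. (part 9) -/
noncomputable def repL9 : List (List ℤ) :=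
  [
    [-4, 2, 0, 0, 2, 2, 0, 0, 0, 2, 2, -4, -2, 2, 0, 0, 0, -2, 2, 2, -4, -2, 0, 2],
    [-3, -1, -1, 3, 1, -1, 1, 1, -1, 1, -1, -3, -3, -1, -1, 1, 3, -3, 1, -1, -3, -3, 3, -1],
    [-1, -1, 1, -1, -1, -1, 1, 1, 1, -1, -3, -1, 1, -1, 1, 1, -1, 1, -1, -3, -1, 1, -1, -3],
    [-4, 0, 0, 2, -2, 0, -2, -2, 0, -2, -2, -4, 0, 0, 0, -2, 2, 0, -2, -2, -4, 0, 2, -2],
    [-2, 0, 2, 0, 2, 0, 0, 0, 2, 2, -2, -2, 0, 0, 2, 0, 0, 0, 2, -2, -2, 0, 0, -2],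
    [-1, 1, -3, -1, 1, 1, 1, 1, -3, 1, -1, -1, -1, 1, -3, 1, -1, -1, 1, -1, -1, -1, -1, -1],
    [-3, 1, -1, -1, -1, 1, 1, 1, -1, -1, 1, -3, -1, 1, -1, 1, -1, -1, -1, 1, -3, -1, -1, 1],
    [-4, 0, 4, 0, 0, 0, 0, 0, 4, 0, 0, -4, 0, 0, 4, 0, 0, 0, 0, 0, -4, 0, 0, 0],
    [-5, -1, 1, 1, 1, -1, -1, -1, 1, 1, -1, -5, 1, -1, 1, -1, 1, 1, 1, -1, -5, 1, 1, -1],
    [-4, 0, -4, 0, 0, 0, 0, 0, -4, 0, 0, -4, 0, 0, -4, 0, 0, 0, 0, 0, -4, 0, 0, 0],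
    [0, -2, 0, 2, 0, -2, -2, -2, 0, 0, 0, 0, 2, -2, 0, -2, 2, 2, 0, 0, 0, 2, 2, 0],
    [-3, -1, -1, -3, -1, -1, 3, 3, -1, -1, 1, -3, 1, -1, -1, 3, -3, 1, -1, 1, -3, 1, -3, 1],
    [-3, -3, -1, 1, 1, -3, 3, 3, -1, 1, -1, -3, -1, -3, -1, 3, 1, -1, 1, -1, -3, -1, 1, -1],
    [-4, 0, 0, -2, 2, 0, 2, 2, 0, 2, 2, -4, 0, 0, 0, 2, -2, 0, 2, 2, -4, 0, -2, 2],
    [-4, -2, 0, 0, -2, -2, 0, 0, 0, -2, -2, -4, 2, -2, 0, 0, 0, 2, -2, -2, -4, 2, 0, -2],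
    [-1, 1, 1, 1, -1, 1, -1, -1, 1, -1, -3, -1, -1, 1, 1, -1, 1, -1, -1, -3, -1, -1, 1, -3]]

/-- Representatives of the codes. (part 10) -/
noncomputable def repL10 : List (List ℤ) :=
  [
    [-2, 0, 2, 2, 0, 0, -2, -2, 2, 0, 0, -2, 0, 0, 2, -2, 2, 0, 0, 0, -2, 0, 2, 0],
    [-1, 1, -3, 1, -1, 1, -1, -1, -3, -1, 1, -1, -1, 1, -3, -1, 1, -1, -1, 1, -1, -1, 1, 1],
    [-3, -3, -1, 1, 1, -3, -1, -1, -1, 1, -1, -3, 3, -3, -1, -1, 1, 3, 1, -1, -3, 3, 1, -1],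
    [0, 0, 0, -2, -2, 0, 2, 2, 0, -2, 2, 0, 0, 0, 0, 2, -2, 0, -2, 2, 0, 0, -2, 2],
    [0, -2, 0, 2, 0, -2, 2, 2, 0, 0, 0, 0, -2, -2, 0, 2, 2, -2, 0, 0, 0, -2, 2, 0],
    [-1, 1, 1, -1, 1, 1, 1, 1, 1, 1, 3, -1, -1, 1, 1, 1, -1, -1, 1, 3, -1, -1, -1, 3],
    [-1, -1, 1, 1, -3, -1, -1, -1, 1, -3, -1, -1, 1, -1, 1, -1, 1, 1, -3, -1, -1, 1, 1, -1],
    [-4, 0, 0, 0, 0, 0, 0, 0, 0, 0, -4, -4, 0, 0, 0, 0, 0, 0, 0, -4, -4, 0, 0, -4],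
    [-3, -3, -1, 3, -1, -3, 1, 1, -1, -1, 1, -3, -1, -3, -1, 1, 3, -1, -1, 1, -3, -1, 3, 1],
    [-4, 0, 0, 0, 0, 0, 0, 0, 0, 0, 4, -4, 0, 0, 0, 0, 0, 0, 0, 4, -4, 0, 0, 4],
    [-2, 0, -2, 0, 2, 0, 0, 0, -2, 2, 2, -2, 0, 0, -2, 0, 0, 0, 2, 2, -2, 0, 0, 2],
    [-3, -1, -1, -3, -1, -1, -1, -1, -1, -1, 1, -3, -3, -1, -1, -1, -3, -3, -1, 1, -3, -3, -3, 1],
    [-1, -1, -3, -1, -1, -1, 1, 1, -3, -1, 1, -1, 1, -1, -3, 1, -1, 1, -1, 1, -1, 1, -1, 1],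
    [-2, -2, 2, 0, 0, -2, 0, 0, 2, 0, 0, -2, 2, -2, 2, 0, 0, 2, 0, 0, -2, 2, 0, 0],
    [0, -2, 0, 0, 2, -2, 0, 0, 0, 2, -2, 0, 2, -2, 0, 0, 0, 2, 2, -2, 0, 2, 0, -2],
    [-3, -1, -1, -1, -3, -1, 1, 1, -1, -3, 3, -3, 1, -1, -1, 1, -1, 1, -3, 3, -3, 1, -1, 3]]

/-- Representatives of the codes. (part 11) -/
noncomputable def repL11 : List (List ℤ) :=
  [
    [-4, 2, 2, 0, -2, 2, 2, 2, 2, -2, 0, -4, 0, 2, 2, 2, 0, 0, -2, 0, -4, 0, 0, 0],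
    [-3, -1, 1, -1, 1, -1, -1, -1, 1, 1, 1, -3, -1, -1, 1, -1, -1, -1, 1, 1, -3, -1, -1, 1],
    [-1, -1, -1, -1, 3, -1, -1, -1, -1, 3, -1, -1, -1, -1, -1, -1, -1, -1, 3, -1, -1, -1, -1, -1],
    [-2, 2, 0, 0, 0, 2, 2, 2, 0, 0, -2, -2, 0, 2, 0, 2, 0, 0, 0, -2, -2, 0, 0, -2],
    [0, -2, -2, -2, 0, -2, 0, 0, -2, 0, -2, 0, 0, -2, -2, 0, -2, 0, 0, -2, 0, 0, -2, -2],
    [-3, -1, -3, 1, -1, -1, -3, -3, -3, -1, -1, -3, -1, -1, -3, -3, 1, -1, -1, -1, -3, -1, 1, -1],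
    [-1, -1, -1, 1, 1, -1, 1, 1, -1, 1, 1, -1, 3, -1, -1, 1, 1, 3, 1, 1, -1, 3, 1, 1],
    [-2, -2, 0, -2, -2, -2, 0, 0, 0, -2, 0, -2, 0, -2, 0, 0, -2, 0, -2, 0, -2, 0, -2, 0],
    [-3, -3, -3, -1, -1, -3, -1, -1, -3, -1, -1, -3, 1, -3, -3, -1, -1, 1, -1, -1, -3, 1, -1, -1],
    [0, 0, -2, 0, 0, 0, -2, -2, -2, 0, -2, 0, -2, 0, -2, -2, 0, -2, 0, -2, 0, -2, 0, -2],
    [-2, 0, 0, 0, -2, 0, -2, -2, 0, -2, 0, -2, -2, 0, 0, -2, 0, -2, -2, 0, -2, -2, 0, 0],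
    [-1, 1, -1, 3, 1, 1, -1, -1, -1, 1, 1, -1, 1, 1, -1, -1, 3, 1, 1, 1, -1, 1, 3, 1],
    [-3, -3, 1, -3, 1, -3, 1, 1, 1, 1, 1, -3, 1, -3, 1, 1, -3, 1, 1, 1, -3, 1, -3, 1],
    [0, 0, -2, 2, -2, 0, 0, 0, -2, -2, 0, 0, 2, 0, -2, 0, 2, 2, -2, 0, 0, 2, 2, 0],
    [-4, -2, -2, 0, 2, -2, -2, -2, -2, 2, 0, -4, 0, -2, -2, -2, 0, 0, 2, 0, -4, 0, 0, 0],
    [-5, 1, -1, 1, -1, 1, 1, 1, -1, -1, -1, -5, 1, 1, -1, 1, 1, 1, -1, -1, -5, 1, 1, -1]]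

/-- Representatives of the codes. (part 12) -/
noncomputable def repL12 : List (List ℤ) :=
  [
    [-3, -3, 1, 1, -3, -3, 1, 1, 1, -3, 1, -3, 1, -3, 1, 1, 1, 1, -3, 1, -3, 1, 1, 1],
    [0, 0, -2, -2, 2, 0, 0, 0, -2, 2, 0, 0, 2, 0, -2, 0, -2, 2, 2, 0, 0, 2, -2, 0],
    [-2, 0, 0, -2, 0, 0, 0, 0, 0, 0, 2, -2, 2, 0, 0, 0, -2, 2, 0, 2, -2, 2, -2, 2],
    [-1, -3, -1, 1, -1, -3, 1, 1, -1, -1, -1, -1, 1, -3, -1, 1, 1, 1, -1, -1, -1, 1, 1, -1],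
    [-3, -3, 1, -1, -1, -3, -1, -1, 1, -1, -1, -3, -3, -3, 1, -1, -1, -3, -1, -1, -3, -3, -1, -1],
    [-2, -2, 0, 2, 2, -2, 0, 0, 0, 2, 0, -2, 0, -2, 0, 0, 2, 0, 2, 0, -2, 0, 2, 0],
    [-4, -2, 2, 2, 0, -2, 0, 0, 2, 0, 2, -4, 0, -2, 2, 0, 2, 0, 0, 2, -4, 0, 2, 2],
    [-3, -1, -3, 1, -1, -1, 1, 1, -3, -1, 3, -3, -1, -1, -3, 1, 1, -1, -1, 3, -3, -1, 1, 3],
    [-4, 2, -2, -2, 0, 2, 0, 0, -2, 0, -2, -4, 0, 2, -2, 0, -2, 0, 0, -2, -4, 0, -2, -2],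
    [-1, 1, -1, -1, -3, 1, -1, -1, -1, -3, 1, -1, 1, 1, -1, -1, -1, 1, -3, 1, -1, 1, -1, 1],
    [-1, -1, 3, 1, 1, -1, 1, 1, 3, 1, 1, -1, -1, -1, 3, 1, 1, -1, 1, 1, -1, -1, 1, 1],
    [0, 0, -2, 0, 0, 0, 2, 2, -2, 0, 2, 0, -2, 0, -2, 2, 0, -2, 0, 2, 0, -2, 0, 2],
    [0, -2, 2, 0, -2, -2, 2, 2, 2, -2, 0, 0, 0, -2, 2, 2, 0, 0, -2, 0, 0, 0, 0, 0],
    [-3, -1, -3, -1, 1, -1, -1, -1, -3, 1, 1, -3, 3, -1, -3, -1, -1, 3, 1, 1, -3, 3, -1, 1],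
    [-1, -1, -1, 3, -1, -1, -1, -1, -1, -1, -1, -1, -1, -1, -1, -1, 3, -1, -1, -1, -1, -1, 3, -1],
    [-2, 2, 0, 0, 0, 2, -2, -2, 0, 0, 2, -2, 0, 2, 0, -2, 0, 0, 0, 2, -2, 0, 0, 2]]

/-- Representatives of the codes. (part 13) -/
noncomputable def repL13 : List (List ℤ) :=
  [
    [-1, -1, 1, -1, -1, -1, 1, 1, 1, -1, 1, -1, -3, -1, 1, 1, -1, -3, -1, 1, -1, -3, -1, 1],
    [0, 0, 0, -2, -2, 0, -2, -2, 0, -2, -2, 0, 0, 0, 0, -2, -2, 0, -2, -2, 0, 0, -2, -2],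
    [-4, 2, 0, 0, 2, 2, 0, 0, 0, 2, -2, -4, 2, 2, 0, 0, 0, 2, 2, -2, -4, 2, 0, -2],
    [-1, 1, 1, 1, -1, 1, -1, -1, 1, -1, 1, -1, 3, 1, 1, -1, 1, 3, -1, 1, -1, 3, 1, 1],
    [-3, -3, -1, -1, 3, -3, 1, 1, -1, 3, 1, -3, -1, -3, -1, 1, -1, -1, 3, 1, -3, -1, -1, 1],
    [-4, 0, 0, 0, 0, 0, 4, 4, 0, 0, 0, -4, 0, 0, 0, 4, 0, 0, 0, 0, -4, 0, 0, 0],
    [-4, -2, 0, -2, 0, -2, -2, -2, 0, 0, 0, -4, 2, -2, 0, -2, -2, 2, 0, 0, -4, 2, -2, 0],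
    [-1, 1, 1, -1, 1, 1, -3, -3, 1, 1, -1, -1, -1, 1, 1, -3, -1, -1, 1, -1, -1, -1, -1, -1],
    [-4, 2, 0, 2, 0, 2, 2, 2, 0, 0, 0, -4, -2, 2, 0, 2, 2, -2, 0, 0, -4, -2, 2, 0],
    [-3, -1, -1, 1, 3, -1, -1, -1, -1, 3, 1, -3, -3, -1, -1, -1, 1, -3, 3, 1, -3, -3, 1, 1],
    [-1, -1, 1, -3, 1, -1, -1, -1, 1, 1, -1, -1, 1, -1, 1, -1, -3, 1, 1, -1, -1, 1, -3, -1],
    [-4, 0, 0, 0, 0, 0, -4, -4, 0, 0, 0, -4, 0, 0, 0, -4, 0, 0, 0, 0, -4, 0, 0, 0],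
    [-4, -2, 0, 0, -2, -2, 0, 0, 0, -2, 2, -4, -2, -2, 0, 0, 0, -2, -2, 2, -4, -2, 0, 2],
    [-3, -1, -1, -1, -3, -1, -3, -3, -1, -3, -1, -3, 1, -1, -1, -3, -1, 1, -3, -1, -3, 1, -1, -1],
    [-3, -3, 3, 1, 1, -3, -1, -1, 3, 1, -1, -3, -1, -3, 3, -1, 1, -1, 1, -1, -3, -1, 1, -1],
    [-2, -2, -2, 0, 0, -2, 0, 0, -2, 0, 0, -2, -2, -2, -2, 0, 0, -2, 0, 0, -2, -2, 0, 0]]

/-- Representatives of the codes. (part 14) -/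
noncomputable def repL14 : List (List ℤ) :=
  [
    [-3, -3, -1, 1, 1, -3, -1, -1, -1, 1, 3, -3, -1, -3, -1, -1, 1, -1, 1, 3, -3, -1, 1, 3],
    [-4, 0, 0, 2, -2, 0, 2, 2, 0, -2, 2, -4, 0, 0, 0, 2, 2, 0, -2, 2, -4, 0, 2, 2],
    [-2, 0, -2, 2, 0, 0, 2, 2, -2, 0, 0, -2, 0, 0, -2, 2, 2, 0, 0, 0, -2, 0, 2, 0],
    [-3, -1, -1, -1, -3, -1, 1, 1, -1, -3, -1, -3, -3, -1, -1, 1, -1, -3, -3, -1, -3, -3, -1, -1],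
    [-3, 1, -1, -1, -1, 1, -3, -3, -1, -1, -3, -3, -1, 1, -1, -3, -1, -1, -1, -3, -3, -1, -1, -3],
    [-4, 0, 0, 0, 0, 0, 0, 0, 0, 0, 0, -4, -4, 0, 0, 0, 0, -4, 0, 0, -4, -4, 0, 0],
    [-4, 2, 0, 2, 0, 2, -2, -2, 0, 0, 0, -4, 2, 2, 0, -2, 2, 2, 0, 0, -4, 2, 2, 0],
    [-1, 1, 1, -1, 1, 1, 1, 1, 1, 1, -1, -1, 3, 1, 1, 1, -1, 3, 1, -1, -1, 3, -1, -1],
    [-4, -2, 0, -2, 0, -2, 2, 2, 0, 0, 0, -4, -2, -2, 0, 2, -2, -2, 0, 0, -4, -2, -2, 0],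
    [-3, -1, -1, -3, -1, -1, -1, -1, -1, -1, -3, -3, 1, -1, -1, -1, -3, 1, -1, -3, -3, 1, -3, -3],
    [-1, 3, 1, 1, 1, 3, -1, -1, 1, 1, -1, -1, 1, 3, 1, -1, 1, 1, 1, -1, -1, 1, 1, -1],
    [-4, 0, 0, 0, 0, 0, 0, 0, 0, 0, 0, -4, 4, 0, 0, 0, 0, 4, 0, 0, -4, 4, 0, 0],
    [0, -2, 0, 0, 2, -2, 0, 0, 0, 2, 2, 0, -2, -2, 0, 0, 0, -2, 2, 2, 0, -2, 0, 2],
    [-1, 1, 1, 1, -1, 1, 3, 3, 1, -1, 1, -1, -1, 1, 1, 3, 1, -1, -1, 1, -1, -1, 1, 1],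
    [-1, -1, 1, -1, -1, -1, -3, -3, 1, -1, 1, -1, 1, -1, 1, -3, -1, 1, -1, 1, -1, 1, -1, 1],
    [-4, 0, 0, -2, 2, 0, -2, -2, 0, 2, -2, -4, 0, 0, 0, -2, -2, 0, 2, -2, -4, 0, -2, -2]]

/-- Representatives of the codes. (part 15) -/
noncomputable def repL15 : List (List ℤ) :=
  [
    [-1, 3, -1, -1, -1, 3, -1, -1, -1, -1, -1, -1, -1, 3, -1, -1, -1, -1, -1, -1, -1, -1, -1, -1],
    [-4, 0, -2, -2, -2, 0, 0, 0, -2, -2, 0, -4, 2, 0, -2, 0, -2, 2, -2, 0, -4, 2, -2, 0],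
    [-4, -2, 2, 0, 2, -2, 2, 2, 2, 2, 0, -4, 0, -2, 2, 2, 0, 0, 2, 0, -4, 0, 0, 0],
    [-3, -1, -3, -1, 1, -1, 3, 3, -3, 1, 1, -3, -1, -1, -3, 3, -1, -1, 1, 1, -3, -1, -1, 1],
    [-3, -3, 1, -1, -1, -3, 3, 3, 1, -1, -1, -3, 1, -3, 1, 3, -1, 1, -1, -1, -3, 1, -1, -1],
    [0, 0, -2, 0, 0, 0, -2, -2, -2, 0, 2, 0, 2, 0, -2, -2, 0, 2, 0, 2, 0, 2, 0, 2],
    [-4, -2, -2, 2, 0, -2, 0, 0, -2, 0, -2, -4, 0, -2, -2, 0, 2, 0, 0, -2, -4, 0, 2, -2],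
    [-5, 1, -1, -1, 1, 1, -1, -1, -1, 1, 1, -5, 1, 1, -1, -1, -1, 1, 1, 1, -5, 1, -1, 1],
    [-4, 2, 2, -2, 0, 2, 0, 0, 2, 0, 2, -4, 0, 2, 2, 0, -2, 0, 0, 2, -4, 0, -2, 2],
    [-3, -1, 1, 1, -1, -1, 1, 1, 1, -1, -1, -3, -1, -1, 1, 1, 1, -1, -1, -1, -3, -1, 1, -1],
    [-1, -1, -1, 1, 1, -1, 1, 1, -1, 1, -3, -1, -1, -1, -1, 1, 1, -1, 1, -3, -1, -1, 1, -3],
    [-2, 2, 0, -2, 2, 2, 0, 0, 0, 2, 0, -2, 0, 2, 0, 0, -2, 0, 2, 0, -2, 0, -2, 0],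
    [-4, 2, -2, 0, -2, 2, -2, -2, -2, -2, 0, -4, 0, 2, -2, -2, 0, 0, -2, 0, -4, 0, 0, 0],
    [-1, 1, -1, -3, -1, 1, 1, 1, -1, -1, -1, -1, 1, 1, -1, 1, -3, 1, -1, -1, -1, 1, -3, -1],
    [-3, 1, -3, 1, 1, 1, 1, 1, -3, 1, 1, -3, -3, 1, -3, 1, 1, -3, 1, 1, -3, -3, 1, 1],
    [-4, 0, 2, 2, 2, 0, 0, 0, 2, 2, 0, -4, -2, 0, 2, 0, 2, -2, 2, 0, -4, -2, 2, 0]]

/-- Representatives of the codes. -/
noncomputable def repL : List (List ℤ) :=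
  repL0 ++ repL1 ++ repL2 ++ repL3 ++ repL4 ++ repL5 ++ repL6 ++ repL7 ++ repL8 ++ repL9 ++ repL10 ++ repL11 ++ repL12 ++ repL13 ++ repL14 ++ repL15

/-- The classes of squared length 64. -/
noncomputable def classes : List ℕ :=
  [14, 1, 2, 4, 5, 7, 8, 9, 10, 16, 18, 19, 21, 22, 23, 25, 29, 30, 31, 32, 34, 35, 36, 40, 42, 43, 45, 46, 47, 48, 49, 50, 54, 59, 62, 64, 65, 66, 68, 69, 71, 75, 76, 77, 79, 80, 82, 83, 85, 86, 87, 88, 90, 91, 92, 96, 98, 99, 100, 105, 108, 112, 113, 114, 118, 120, 121, 122, 124, 125, 127, 129, 130, 131, 133, 136, 141, 144, 145, 147, 151, 152, 153, 155, 156, 157, 158, 162, 167, 168, 169, 171, 175, 176, 181, 184, 188, 190, 191, 192, 196, 198, 199, 200, 205, 210, 212, 213, 214, 216, 217, 219, 220, 221, 222, 224, 225, 227, 228, 229, 230, 232, 233, 235, 239, 241, 242, 243,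 244, 246, 247, 248, 252, 254, 255]

/-- Half the difference to the standard vector. -/
noncomputable def tL : List ℤ :=
  [1, 1, 1, 1, 1, 1, 1, 1, 1, 1, 1, 1, 1, 1, 1, 1, 1, 1, 1, 1, 1, 1, 1, 5]

/-- A matrix commuting with the permutation. -/
noncomputable def mat : H15.Mat :=
  ⟨[
    [3, -1, -1, -1, -1, -1, -1, -1, -1, -1, -1, 3, -1, -1, -1, -1, -1, -1, -1, -1, -5, -1, -1, -1],
    [-1, -1, 3, -1, -1, -1, 3, -1, -1, -1, -1, -1, -1, -1, -1, 3, -1, -1, 3, 3, -1, -1, -1, -1],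
    [-1, 3, -1, -1, -1, -1, -1, -1, 3, -1, -1, -1, -1, 3, -1, 3, -1, -1, -1, -1, -1, -1, 3, -1],
    [-1, -1, -1, -1, -1, -1, -1, 3, -1, -1, -1, -1, -1, 3, -1, -1, -1, 3, -1, 3, -1, 3, -1, -1],
    [-1, -1, -1, -1, -1, -1, -1, -1, 3, -1, -1, -1, 3, -1, 3, -1, 3, -1, -1, 3, -1, -1, -1, -1],
    [-1, -1, -1, -1, 3, -1, -1, 3, -1, -1, 3, -1, -1, -1, 3, 3, -1, -1, -1, -1, -1, -1, -1, -1],
    [-1, -1, -1, 3, -1, -1, -1, 3, -1, -1, -1, -1, 3, -1, -1, -1, -1, -1, 3, -1, -1, -1, 3, -1],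
    [-1, -1, -1, 3, -1, -1, -1, -1, -1, 3, -1, -1, -1, -1, -1, 3, 3, -1, -1, -1, -1, 3, -1, -1],
    [-1, -1, -1, 3, -1, 3, 3, -1, -1, -1, -1, -1, -1, 3, 3, -1, -1, -1, -1, -1, -1, -1, -1, -1],
    [-1, -1, 3, 3, -1, -1, -1, -1, 3, -1, 3, -1, -1, -1, -1, -1, -1, 3, -1, -1, -1, -1, -1, -1],
    [-1, -1, -1, -1, -1, -1, -1, -1, -1, -1, 3, -1, -1, 3, -1, -1, 3, -1, 3, -1, -1, -1, -1, 3],
    [-5, -1, -1, -1, -1, -1, -1, -1, -1, -1, -1, 3, -1, -1, -1, -1, -1, -1, -1, -1, 3, -1, -1, -1],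
    [-1, -1, -1, -1, 3, 3, -1, -1, 3, -1, -1, -1, -1, -1, -1, -1, -1, -1, 3, -1, -1, 3, -1, -1],
    [-1, -1, -1, -1, -1, -1, 3, 3, 3, 3, -1, -1, -1, -1, -1, -1, -1, -1, -1, -1, -1, -1, -1, 3],
    [-1, 3, 3, -1, -1, 3, -1, 3, -1, -1, -1, -1, -1, -1, -1, -1, 3, -1, -1, -1, -1, -1, -1, -1],
    [-1, -1, -1, -1, 3, -1, 3, -1, -1, -1, -1, -1, -1, -1, -1, -1, 3, 3, -1, -1, -1, -1, 3, -1],
    [-1, -1, -1, -1, -1, 3, -1, -1, -1, -1, -1, -1, 3, -1, -1, 3, -1, 3, -1, -1, -1, -1, -1, 3],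
    [-1, -1, 3, -1, 3, -1, -1, -1, -1, 3, -1, -1, 3, 3, -1, -1, -1, -1, -1, -1, -1, -1, -1, -1],
    [-1, -1, 3, -1, -1, -1, -1, -1, -1, -1, -1, -1, -1, -1, 3, -1, -1, -1, -1, -1, -1, 3, 3, 3],
    [-1, -1, -1, -1, -1, 3, -1, -1, -1, 3, 3, -1, -1, -1, -1, -1, -1, -1, -1, 3, -1, -1, 3, -1],
    [3, -1, -1, -1, -1, -1, -1, -1, -1, -1, -1, -5, -1, -1, -1, -1, -1, -1, -1, -1, 3, -1, -1, -1],
    [-1, 3, -1, -1, -1, -1, -1, -1, -1, 3, -1, -1, -1, -1, 3, -1, -1, 3, 3, -1, -1, -1, -1, -1],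
    [-1, 3, -1, -1, -1, -1, 3, -1, -1, -1, 3, -1, 3, -1, -1, -1, -1, -1, -1, -1, -1, 3, -1, -1],
    [-1, 3, -1, 3, 3, -1, -1, -1, -1, -1, -1, -1, -1, -1, -1, -1, -1, -1, -1, 3, -1, -1, -1, 3]],
   [
    [3, -1, -1, -1, -1, -1, -1, -1, -1, -1, -1, -5, -1, -1, -1, -1, -1, -1, -1, -1, 3, -1, -1, -1],
    [-1, -1, 3, -1, -1, -1, -1, -1, -1, -1, -1, -1, -1, -1, 3, -1, -1, -1, -1, -1, -1, 3, 3, 3],
    [-1, 3, -1, -1, -1, -1, -1, -1, -1, 3, -1, -1, -1, -1, 3, -1, -1, 3, 3, -1, -1, -1, -1, -1],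
    [-1, -1, -1, -1, -1, -1, 3, 3, 3, 3, -1, -1, -1, -1, -1, -1, -1, -1, -1, -1, -1, -1, -1, 3],
    [-1, -1, -1, -1, -1, 3, -1, -1, -1, -1, -1, -1, 3, -1, -1, 3, -1, 3, -1, -1, -1, -1, -1, 3],
    [-1, -1, -1, -1, -1, -1, -1, -1, 3, -1, -1, -1, 3, -1, 3, -1, 3, -1, -1, 3, -1, -1, -1, -1],
    [-1, 3, -1, -1, -1, -1, -1, -1, 3, -1, -1, -1, -1, 3, -1, 3, -1, -1, -1, -1, -1, -1, 3, -1],
    [-1, -1, -1, 3, -1, 3, 3, -1, -1, -1, -1, -1, -1, 3, 3, -1, -1, -1, -1, -1, -1, -1, -1, -1],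
    [-1, -1, 3, -1, 3, -1, -1, -1, -1, 3, -1, -1, 3, 3, -1, -1, -1, -1, -1, -1, -1, -1, -1, -1],
    [-1, -1, -1, -1, -1, -1, -1, 3, -1, -1, -1, -1, -1, 3, -1, -1, -1, 3, -1, 3, -1, 3, -1, -1],
    [-1, -1, -1, -1, -1, 3, -1, -1, -1, 3, 3, -1, -1, -1, -1, -1, -1, -1, -1, 3, -1, -1, 3, -1],
    [3, -1, -1, -1, -1, -1, -1, -1, -1, -1, -1, 3, -1, -1, -1, -1, -1, -1, -1, -1, -5, -1, -1, -1],
    [-1, -1, -1, -1, 3, -1, 3, -1, -1, -1, -1, -1, -1, -1, -1, -1, 3, 3, -1, -1, -1, -1, 3, -1],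
    [-1, -1, 3, 3, -1, -1, -1, -1, 3, -1, 3, -1, -1, -1, -1, -1, -1, 3, -1, -1, -1, -1, -1, -1],
    [-1, -1, -1, -1, 3, 3, -1, -1, 3, -1, -1, -1, -1, -1, -1, -1, -1, -1, 3, -1, -1, 3, -1, -1],
    [-1, 3, 3, -1, -1, 3, -1, 3, -1, -1, -1, -1, -1, -1, -1, -1, 3, -1, -1, -1, -1, -1, -1, -1],
    [-1, -1, -1, -1, 3, -1, -1, 3, -1, -1, 3, -1, -1, -1, 3, 3, -1, -1, -1, -1, -1, -1, -1, -1],
    [-1, -1, -1, 3, -1, -1, -1, -1, -1, 3, -1, -1, -1, -1, -1, 3, 3, -1, -1, -1, -1, 3, -1, -1],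
    [-1, 3, -1, -1, -1, -1, 3, -1, -1, -1, 3, -1, 3, -1, -1, -1, -1, -1, -1, -1, -1, 3, -1, -1],
    [-1, 3, -1, 3, 3, -1, -1, -1, -1, -1, -1, -1, -1, -1, -1, -1, -1, -1, -1, 3, -1, -1, -1, 3],
    [-5, -1, -1, -1, -1, -1, -1, -1, -1, -1, -1, 3, -1, -1, -1, -1, -1, -1, -1, -1, 3, -1, -1, -1],
    [-1, -1, -1, 3, -1, -1, -1, 3, -1, -1, -1, -1, 3, -1, -1, -1, -1, -1, 3, -1, -1, -1, 3, -1],
    [-1, -1, 3, -1, -1, -1, 3, -1, -1, -1, -1, -1, -1, -1, -1, 3, -1, -1, 3, 3, -1, -1, -1, -1],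
    [-1, -1, -1, -1, -1, -1, -1, -1, -1, -1, 3, -1, -1, 3, -1, -1, 3, -1, 3, -1, -1, -1, -1, 3]]⟩

/-- Code permutations commuting with the permutation. (part 0) -/
noncomputable def tauL0 : List (List ℕ) :=
  [
    [0, 1, 2, 3, 4, 5, 6, 7, 8, 9, 10, 11, 12, 13, 14, 15, 16, 17, 18, 19, 20, 21, 22, 23],
    [0, 1, 7, 14, 17, 5, 3, 16, 15, 21, 4, 11, 19, 13, 6, 22, 2, 10, 12, 18, 20, 23, 8, 9],
    [0, 1, 16, 6, 10, 5, 14, 2, 22, 23, 17, 11, 18, 13, 3, 8, 7, 4, 19, 12, 20, 9, 15, 21],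
    [0, 3, 7, 4, 1, 22, 17, 12, 15, 5, 10, 11, 2, 16, 6, 21, 18, 14, 13, 19, 20, 8, 9, 23],
    [0, 3, 12, 6, 14, 22, 4, 18, 21, 8, 1, 11, 19, 16, 17, 9, 7, 10, 2, 13, 20, 23, 15, 5],
    [0, 3, 18, 17, 10, 22, 6, 7, 9, 23, 14, 11, 13, 16, 4, 15, 12, 1, 19, 2, 20, 5, 21, 8],
    [0, 4, 2, 17, 6, 9, 1, 13, 8, 15, 3, 11, 19, 18, 14, 5, 12, 10, 7, 16, 20, 23, 21, 22],
    [0, 4, 12, 1, 3, 9, 14, 2, 21, 22, 10, 11, 7, 18, 17, 8, 13, 6, 16, 19, 20, 15, 5, 23],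
    [0, 4, 13, 14, 10, 9, 17, 12, 5, 23, 6, 11, 16, 18, 1, 21, 2, 3, 19, 7, 20, 22, 8, 15],
    [0, 6, 2, 10, 1, 15, 4, 18, 8, 5, 17, 11, 16, 7, 14, 9, 19, 3, 13, 12, 20, 22, 23, 21],
    [0, 6, 18, 14, 3, 15, 10, 19, 9, 22, 1, 11, 12, 7, 4, 23, 2, 17, 16, 13, 20, 21, 8, 5],
    [0, 6, 19, 4, 17, 15, 14, 2, 23, 21, 3, 11, 13, 7, 10, 8, 18, 1, 12, 16, 20, 5, 9, 22],
    [0, 10, 13, 3, 17, 23, 4, 18, 5, 21, 14, 11, 7, 19, 1, 9, 16, 6, 12, 2, 20, 15, 22, 8],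
    [0, 10, 16, 4, 14, 23, 1, 13, 22, 8, 6, 11, 12, 19, 3, 5, 18, 17, 2, 7, 20, 21, 9, 15],
    [0, 10, 18, 1, 6, 23, 3, 16, 9, 15, 17, 11, 2, 19, 4, 22, 13, 14, 7, 12, 20, 8, 5, 21],
    [0, 14, 12, 10, 4, 8, 3, 16, 21, 9, 6, 11, 13, 2, 17, 22, 19, 1, 18, 7, 20, 5, 23, 15]]

/-- Code permutations commuting with the permutation. (part 1) -/
noncomputable def tauL1 : List (List ℕ) :=
  [
    [0, 14, 16, 17, 1, 8, 10, 19, 22, 5, 4, 11, 7, 2, 3, 23, 12, 6, 13, 18, 20, 15, 21, 9],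
    [0, 14, 19, 3, 6, 8, 17, 12, 23, 15, 1, 11, 18, 2, 10, 21, 16, 4, 7, 13, 20, 9, 22, 5],
    [0, 17, 7, 10, 3, 21, 1, 13, 15, 22, 14, 11, 18, 12, 6, 5, 19, 4, 16, 2, 20, 9, 23, 8],
    [0, 17, 13, 6, 4, 21, 10, 19, 5, 9, 3, 11, 2, 12, 1, 23, 7, 14, 18, 16, 20, 8, 15, 22],
    [0, 17, 19, 1, 14, 21, 6, 7, 23, 8, 4, 11, 16, 12, 10, 15, 13, 3, 2, 18, 20, 22, 5, 9],
    [1, 8, 3, 20, 21, 2, 9, 4, 16, 12, 15, 5, 10, 14, 22, 18, 11, 23, 17, 6, 13, 19, 0, 7],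
    [1, 8, 4, 22, 23, 2, 20, 11, 18, 19, 21, 5, 6, 14, 9, 0, 3, 15, 10, 17, 13, 7, 16, 12],
    [1, 8, 11, 9, 15, 2, 22, 3, 0, 7, 23, 5, 17, 14, 20, 16, 4, 21, 6, 10, 13, 12, 18, 19],
    [1, 9, 3, 15, 8, 18, 21, 17, 16, 2, 23, 5, 11, 4, 22, 12, 6, 20, 14, 10, 13, 0, 7, 19],
    [1, 9, 6, 21, 23, 18, 22, 3, 7, 19, 20, 5, 14, 4, 15, 16, 17, 8, 10, 11, 13, 2, 12, 0],
    [1, 9, 17, 22, 20, 18, 15, 6, 12, 0, 8, 5, 10, 4, 21, 7, 3, 23, 11, 14, 13, 19, 16, 2],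
    [1, 15, 11, 21, 22, 7, 8, 14, 0, 16, 9, 5, 10, 6, 20, 2, 17, 23, 3, 4, 13, 19, 12, 18],
    [1, 15, 14, 20, 23, 7, 21, 17, 2, 19, 22, 5, 4, 6, 8, 12, 11, 9, 10, 3, 13, 18, 0, 16],
    [1, 15, 17, 8, 9, 7, 20, 11, 12, 18, 23, 5, 3, 6, 21, 0, 14, 22, 4, 10, 13, 16, 2, 19],
    [1, 20, 4, 21, 8, 0, 23, 10, 18, 2, 15, 5, 3, 11, 9, 19, 17, 22, 14, 6, 13, 16, 12, 7],
    [1, 20, 10, 9, 22, 0, 21, 17, 19, 16, 8, 5, 6, 11, 23, 12, 4, 15, 3, 14, 13, 7, 18, 2]]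

/-- Code permutations commuting with the permutation. (part 2) -/
noncomputable def tauL2 : List (List ℕ) :=
  [
    [1, 20, 17, 23, 15, 0, 9, 4, 12, 7, 22, 5, 14, 11, 21, 18, 10, 8, 6, 3, 13, 2, 19, 16],
    [1, 21, 3, 23, 9, 12, 8, 14, 16, 18, 20, 5, 6, 17, 22, 2, 10, 15, 4, 11, 13, 7, 19, 0],
    [1, 21, 10, 8, 20, 12, 22, 3, 19, 0, 15, 5, 4, 17, 23, 16, 14, 9, 11, 6, 13, 18, 2, 7],
    [1, 21, 14, 22, 15, 12, 23, 10, 2, 7, 9, 5, 11, 17, 8, 19, 3, 20, 6, 4, 13, 0, 16, 18],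
    [1, 22, 6, 20, 9, 16, 23, 10, 7, 18, 8, 5, 17, 3, 15, 19, 11, 21, 4, 14, 13, 12, 0, 2],
    [1, 22, 10, 15, 21, 16, 20, 11, 19, 12, 9, 5, 14, 3, 23, 0, 6, 8, 17, 4, 13, 2, 7, 18],
    [1, 22, 11, 23, 8, 16, 15, 6, 0, 2, 21, 5, 4, 3, 20, 7, 10, 9, 14, 17, 13, 18, 19, 12],
    [1, 23, 4, 15, 20, 19, 8, 14, 18, 0, 22, 5, 17, 10, 9, 2, 6, 21, 11, 3, 13, 12, 7, 16],
    [1, 23, 6, 8, 22, 19, 9, 4, 7, 16, 21, 5, 11, 10, 15, 18, 14, 20, 3, 17, 13, 0, 2, 12],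
    [1, 23, 14, 9, 21, 19, 15, 6, 2, 12, 20, 5, 3, 10, 8, 7, 4, 22, 17, 11, 13, 16, 18, 0],
    [2, 1, 7, 17, 11, 5, 10, 19, 15, 20, 3, 14, 18, 13, 6, 23, 12, 4, 0, 16, 8, 9, 21, 22],
    [2, 1, 12, 10, 3, 5, 6, 7, 21, 22, 4, 14, 0, 13, 17, 15, 19, 11, 16, 18, 8, 20, 23, 9],
    [2, 1, 19, 6, 4, 5, 17, 12, 23, 9, 11, 14, 16, 13, 10, 21, 7, 3, 18, 0, 8, 22, 15, 20],
    [2, 3, 0, 1, 10, 22, 17, 12, 20, 23, 4, 14, 7, 16, 11, 21, 13, 6, 19, 18, 8, 15, 5, 9],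
    [2, 3, 12, 11, 6, 22, 1, 13, 21, 15, 10, 14, 18, 16, 17, 5, 0, 4, 7, 19, 8, 9, 20, 23],
    [2, 3, 13, 17, 4, 22, 11, 0, 5, 9, 6, 14, 19, 16, 1, 20, 12, 10, 18, 7, 8, 23, 21, 15]]

/-- Code permutations commuting with the permutation. (part 3) -/
noncomputable def tauL3 : List (List ℕ) :=
  [
    [2, 4, 13, 10, 11, 9, 3, 16, 5, 20, 17, 14, 7, 18, 1, 22, 19, 6, 0, 12, 8, 15, 23, 21],
    [2, 4, 16, 1, 6, 9, 10, 19, 22, 15, 11, 14, 12, 18, 3, 23, 13, 17, 7, 0, 8, 21, 5, 20],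
    [2, 4, 19, 3, 17, 9, 1, 13, 23, 21, 6, 14, 0, 18, 10, 5, 16, 11, 12, 7, 8, 20, 22, 15],
    [2, 6, 12, 4, 1, 15, 3, 16, 21, 5, 11, 14, 19, 7, 17, 22, 18, 10, 13, 0, 8, 23, 9, 20],
    [2, 6, 16, 17, 10, 15, 4, 18, 22, 23, 1, 14, 0, 7, 3, 9, 12, 11, 19, 13, 8, 20, 21, 5],
    [2, 6, 18, 3, 11, 15, 17, 12, 9, 20, 10, 14, 13, 7, 4, 21, 16, 1, 0, 19, 8, 5, 22, 23],
    [2, 10, 0, 6, 17, 23, 3, 16, 20, 21, 1, 14, 18, 19, 11, 22, 7, 4, 12, 13, 8, 9, 15, 5],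
    [2, 10, 7, 3, 1, 23, 11, 0, 15, 5, 4, 14, 12, 19, 6, 20, 16, 17, 13, 18, 8, 21, 22, 9],
    [2, 10, 16, 11, 4, 23, 6, 7, 22, 9, 17, 14, 13, 19, 3, 15, 0, 1, 18, 12, 8, 5, 20, 21],
    [2, 11, 7, 4, 10, 20, 1, 13, 15, 23, 17, 14, 16, 0, 6, 5, 18, 3, 19, 12, 8, 22, 9, 21],
    [2, 11, 13, 6, 3, 20, 4, 18, 5, 22, 10, 14, 12, 0, 1, 9, 7, 17, 16, 19, 8, 21, 15, 23],
    [2, 11, 18, 1, 17, 20, 6, 7, 9, 21, 3, 14, 19, 0, 4, 15, 13, 10, 12, 16, 8, 23, 5, 22],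
    [2, 17, 0, 4, 3, 21, 10, 19, 20, 22, 6, 14, 13, 12, 11, 23, 18, 1, 16, 7, 8, 5, 9, 15],
    [2, 17, 18, 10, 6, 21, 11, 0, 9, 15, 1, 14, 16, 12, 4, 20, 19, 3, 7, 13, 8, 22, 23, 5],
    [2, 17, 19, 11, 1, 21, 4, 18, 23, 5, 3, 14, 7, 12, 10, 9, 0, 6, 13, 16, 8, 15, 20, 22],
    [3, 5, 4, 21, 15, 13, 8, 14, 18, 7, 23, 22, 11, 1, 9, 2, 17, 20, 6, 10, 16, 0, 12, 19]]

/-- Code permutations commuting with the permutation. (part 4) -/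
noncomputable def tauL4 : List (List ℕ) :=
  [
    [3, 5, 14, 9, 20, 13, 21, 17, 2, 0, 15, 22, 10, 1, 8, 12, 4, 23, 11, 6, 16, 19, 18, 7],
    [3, 5, 17, 8, 23, 13, 9, 4, 12, 19, 20, 22, 6, 1, 21, 18, 14, 15, 10, 11, 16, 7, 2, 0],
    [3, 8, 4, 23, 5, 2, 15, 6, 18, 13, 20, 22, 17, 14, 9, 7, 10, 21, 1, 11, 16, 12, 19, 0],
    [3, 8, 6, 9, 21, 2, 23, 10, 7, 12, 5, 22, 11, 14, 15, 19, 4, 20, 17, 1, 16, 0, 18, 13],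
    [3, 8, 10, 15, 20, 2, 9, 4, 19, 0, 21, 22, 1, 14, 23, 18, 6, 5, 11, 17, 16, 13, 7, 12],
    [3, 9, 10, 21, 8, 18, 20, 11, 19, 2, 5, 22, 6, 4, 23, 0, 17, 15, 14, 1, 16, 7, 12, 13],
    [3, 9, 11, 23, 15, 18, 21, 17, 0, 7, 8, 22, 1, 4, 20, 12, 10, 5, 6, 14, 16, 13, 19, 2],
    [3, 9, 17, 20, 5, 18, 23, 10, 12, 13, 15, 22, 14, 4, 21, 19, 11, 8, 1, 6, 16, 2, 0, 7],
    [3, 15, 1, 9, 23, 7, 20, 11, 13, 19, 8, 22, 17, 6, 5, 0, 4, 21, 10, 14, 16, 12, 18, 2],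
    [3, 15, 4, 20, 8, 7, 5, 1, 18, 2, 21, 22, 10, 6, 9, 13, 11, 23, 14, 17, 16, 19, 0, 12],
    [3, 15, 11, 5, 21, 7, 9, 4, 0, 12, 23, 22, 14, 6, 20, 18, 1, 8, 17, 10, 16, 2, 13, 19],
    [3, 20, 1, 8, 15, 0, 23, 10, 13, 7, 21, 22, 4, 11, 5, 19, 14, 9, 6, 17, 16, 18, 2, 12],
    [3, 20, 10, 5, 9, 0, 8, 14, 19, 18, 15, 22, 17, 11, 23, 2, 1, 21, 4, 6, 16, 12, 13, 7],
    [3, 20, 14, 23, 21, 0, 5, 1, 2, 12, 9, 22, 6, 11, 8, 13, 10, 15, 17, 4, 16, 7, 19, 18],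
    [3, 21, 6, 20, 23, 12, 8, 14, 7, 19, 9, 22, 1, 17, 15, 2, 11, 5, 10, 4, 16, 13, 0, 18],
    [3, 21, 11, 8, 9, 12, 15, 6, 0, 18, 5, 22, 10, 17, 20, 7, 14, 23, 4, 1, 16, 19, 2, 13]]

/-- Code permutations commuting with the permutation. (part 5) -/
noncomputable def tauL5 : List (List ℕ) :=
  [
    [3, 21, 14, 15, 5, 12, 20, 11, 2, 13, 23, 22, 4, 17, 8, 0, 6, 9, 1, 10, 16, 18, 7, 19],
    [3, 23, 1, 21, 20, 19, 15, 6, 13, 0, 9, 22, 14, 10, 5, 7, 17, 8, 11, 4, 16, 2, 12, 18],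
    [3, 23, 6, 5, 8, 19, 21, 17, 7, 2, 20, 22, 4, 10, 15, 12, 1, 9, 14, 11, 16, 18, 13, 0],
    [3, 23, 17, 15, 9, 19, 5, 1, 12, 18, 8, 22, 11, 10, 21, 13, 6, 20, 4, 14, 16, 0, 7, 2],
    [4, 5, 10, 8, 15, 13, 20, 11, 19, 7, 22, 9, 17, 1, 23, 0, 14, 21, 6, 3, 18, 12, 2, 16],
    [4, 5, 11, 23, 21, 13, 8, 14, 0, 12, 15, 9, 3, 1, 20, 2, 10, 22, 17, 6, 18, 16, 19, 7],
    [4, 5, 14, 20, 22, 13, 23, 10, 2, 16, 21, 9, 6, 1, 8, 19, 11, 15, 3, 17, 18, 7, 0, 12],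
    [4, 8, 6, 21, 22, 2, 20, 11, 7, 16, 23, 9, 1, 14, 15, 0, 17, 5, 3, 10, 18, 13, 12, 19],
    [4, 8, 11, 15, 5, 2, 21, 17, 0, 13, 22, 9, 10, 14, 20, 12, 6, 23, 1, 3, 18, 19, 7, 16],
    [4, 8, 17, 20, 23, 2, 15, 6, 12, 19, 5, 9, 3, 14, 21, 7, 11, 22, 10, 1, 18, 16, 0, 13],
    [4, 15, 1, 23, 22, 7, 21, 17, 13, 16, 20, 9, 14, 6, 5, 12, 10, 8, 3, 11, 18, 2, 19, 0],
    [4, 15, 10, 21, 20, 7, 5, 1, 19, 0, 8, 9, 3, 6, 23, 13, 17, 22, 11, 14, 18, 16, 12, 2],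
    [4, 15, 17, 5, 8, 7, 23, 10, 12, 2, 22, 9, 11, 6, 21, 19, 1, 20, 14, 3, 18, 0, 13, 16],
    [4, 20, 3, 15, 21, 0, 23, 10, 16, 12, 8, 9, 1, 11, 22, 19, 6, 5, 17, 14, 18, 13, 7, 2],
    [4, 20, 6, 23, 8, 0, 22, 3, 7, 2, 5, 9, 17, 11, 15, 16, 10, 21, 14, 1, 18, 12, 19, 13],
    [4, 20, 10, 22, 5, 0, 15, 6, 19, 13, 21, 9, 14, 11, 23, 7, 3, 8, 1, 17, 18, 2, 16, 12]]

/-- Code permutations commuting with the permutation. (part 6) -/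
noncomputable def tauL6 : List (List ℕ) :=
  [
    [4, 21, 1, 20, 15, 12, 22, 3, 13, 7, 8, 9, 10, 17, 5, 16, 11, 23, 6, 14, 18, 19, 0, 2],
    [4, 21, 3, 5, 23, 12, 20, 11, 16, 19, 15, 9, 14, 17, 22, 0, 1, 8, 10, 6, 18, 2, 13, 7],
    [4, 21, 11, 22, 8, 12, 5, 1, 0, 2, 23, 9, 6, 17, 20, 13, 3, 15, 14, 10, 18, 7, 16, 19],
    [4, 22, 1, 8, 21, 16, 15, 6, 13, 12, 23, 9, 11, 3, 5, 7, 14, 20, 17, 10, 18, 0, 2, 19],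
    [4, 22, 6, 5, 20, 16, 8, 14, 7, 0, 21, 9, 10, 3, 15, 2, 1, 23, 11, 17, 18, 19, 13, 12],
    [4, 22, 14, 15, 23, 16, 5, 1, 2, 19, 20, 9, 17, 3, 8, 13, 6, 21, 10, 11, 18, 12, 7, 0],
    [4, 23, 3, 8, 20, 19, 21, 17, 16, 0, 5, 9, 6, 10, 22, 12, 14, 15, 11, 1, 18, 7, 2, 13],
    [4, 23, 14, 21, 5, 19, 22, 3, 2, 13, 15, 9, 11, 10, 8, 16, 17, 20, 1, 6, 18, 0, 12, 7],
    [4, 23, 17, 22, 15, 19, 8, 14, 12, 7, 20, 9, 1, 10, 21, 2, 3, 5, 6, 11, 18, 13, 16, 0],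
    [6, 5, 3, 23, 20, 13, 9, 4, 16, 0, 8, 15, 17, 1, 22, 18, 10, 21, 11, 14, 7, 12, 19, 2],
    [6, 5, 4, 22, 21, 13, 23, 10, 18, 12, 20, 15, 14, 1, 9, 19, 3, 8, 17, 11, 7, 2, 16, 0],
    [6, 5, 10, 9, 8, 13, 22, 3, 19, 2, 21, 15, 11, 1, 23, 16, 4, 20, 14, 17, 7, 0, 18, 12],
    [6, 8, 1, 23, 21, 2, 20, 11, 13, 12, 22, 15, 4, 14, 5, 0, 10, 9, 17, 3, 7, 18, 19, 16],
    [6, 8, 10, 20, 22, 2, 5, 1, 19, 16, 9, 15, 17, 14, 23, 13, 11, 21, 3, 4, 7, 12, 0, 18],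
    [6, 8, 11, 5, 9, 2, 23, 10, 0, 18, 21, 15, 3, 14, 20, 19, 1, 22, 4, 17, 7, 16, 13, 12],
    [6, 9, 3, 8, 5, 18, 20, 11, 16, 13, 21, 15, 10, 4, 22, 0, 14, 23, 1, 17, 7, 19, 2, 12]]

/-- Code permutations commuting with the permutation. (part 7) -/
noncomputable def tauL7 : List (List ℕ) :=
  [
    [6, 9, 11, 22, 23, 18, 8, 14, 0, 19, 5, 15, 17, 4, 20, 2, 3, 21, 10, 1, 7, 12, 16, 13],
    [6, 9, 14, 20, 21, 18, 22, 3, 2, 12, 23, 15, 1, 4, 8, 16, 11, 5, 17, 10, 7, 13, 0, 19],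
    [6, 20, 1, 22, 8, 0, 21, 17, 13, 2, 9, 15, 10, 11, 5, 12, 3, 23, 14, 4, 7, 19, 16, 18],
    [6, 20, 3, 21, 9, 0, 5, 1, 16, 18, 23, 15, 14, 11, 22, 13, 17, 8, 4, 10, 7, 2, 12, 19],
    [6, 20, 17, 5, 23, 0, 22, 3, 12, 19, 8, 15, 4, 11, 21, 16, 1, 9, 10, 14, 7, 18, 13, 2],
    [6, 21, 1, 9, 20, 12, 8, 14, 13, 0, 23, 15, 3, 17, 5, 2, 4, 22, 11, 10, 7, 16, 18, 19],
    [6, 21, 4, 8, 23, 12, 5, 1, 18, 19, 22, 15, 11, 17, 9, 13, 14, 20, 10, 3, 7, 0, 2, 16],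
    [6, 21, 14, 5, 22, 12, 9, 4, 2, 16, 20, 15, 10, 17, 8, 18, 1, 23, 3, 11, 7, 19, 13, 0],
    [6, 22, 10, 21, 5, 16, 8, 14, 19, 13, 20, 15, 4, 3, 23, 2, 17, 9, 1, 11, 7, 18, 12, 0],
    [6, 22, 14, 23, 9, 16, 21, 17, 2, 18, 5, 15, 11, 3, 8, 12, 10, 20, 4, 1, 7, 0, 19, 13],
    [6, 22, 17, 8, 20, 16, 23, 10, 12, 0, 9, 15, 1, 3, 21, 19, 14, 5, 11, 4, 7, 13, 2, 18],
    [6, 23, 4, 20, 5, 19, 21, 17, 18, 13, 8, 15, 3, 10, 9, 12, 11, 22, 1, 14, 7, 16, 0, 2],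
    [6, 23, 11, 21, 8, 19, 9, 4, 0, 2, 22, 15, 1, 10, 20, 18, 17, 5, 14, 3, 7, 13, 12, 16],
    [6, 23, 17, 9, 22, 19, 20, 11, 12, 16, 5, 15, 14, 10, 21, 0, 4, 8, 3, 1, 7, 2, 18, 13],
    [10, 5, 3, 20, 15, 13, 21, 17, 16, 7, 9, 23, 14, 1, 22, 12, 11, 8, 6, 4, 19, 2, 0, 18],
    [10, 5, 11, 21, 9, 13, 22, 3, 0, 18, 8, 23, 6, 1, 20, 16, 17, 15, 4, 14, 19, 7, 12, 2]]

/-- Code permutations commuting with the permutation. (part 8) -/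
noncomputable def tauL8 : List (List ℕ) :=
  [
    [10, 5, 17, 22, 8, 13, 20, 11, 12, 2, 15, 23, 4, 1, 21, 0, 3, 9, 14, 6, 19, 18, 16, 7],
    [10, 8, 1, 21, 15, 2, 9, 4, 13, 7, 20, 23, 3, 14, 5, 18, 17, 22, 6, 11, 19, 16, 12, 0],
    [10, 8, 4, 5, 22, 2, 21, 17, 18, 16, 15, 23, 11, 14, 9, 12, 1, 20, 3, 6, 19, 0, 13, 7],
    [10, 8, 17, 9, 20, 2, 5, 1, 12, 0, 22, 23, 6, 14, 21, 13, 4, 15, 11, 3, 19, 7, 18, 16],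
    [10, 9, 1, 20, 8, 18, 15, 6, 13, 2, 22, 23, 17, 4, 5, 7, 11, 21, 14, 3, 19, 12, 0, 16],
    [10, 9, 6, 5, 21, 18, 20, 11, 7, 12, 8, 23, 3, 4, 15, 0, 1, 22, 17, 14, 19, 16, 13, 2],
    [10, 9, 11, 15, 22, 18, 5, 1, 0, 16, 21, 23, 14, 4, 20, 13, 6, 8, 3, 17, 19, 2, 7, 12],
    [10, 15, 1, 22, 9, 7, 8, 14, 13, 18, 21, 23, 11, 6, 5, 2, 3, 20, 4, 17, 19, 0, 16, 12],
    [10, 15, 3, 8, 21, 7, 5, 1, 16, 12, 20, 23, 4, 6, 22, 13, 14, 9, 17, 11, 19, 18, 2, 0],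
    [10, 15, 14, 5, 20, 7, 22, 3, 2, 0, 9, 23, 17, 6, 8, 16, 1, 21, 11, 4, 19, 12, 13, 18],
    [10, 20, 6, 8, 9, 0, 21, 17, 7, 18, 22, 23, 1, 11, 15, 12, 14, 5, 4, 3, 19, 13, 2, 16],
    [10, 20, 14, 21, 22, 0, 15, 6, 2, 16, 5, 23, 4, 11, 8, 7, 17, 9, 3, 1, 19, 18, 12, 13],
    [10, 20, 17, 15, 5, 0, 8, 14, 12, 13, 9, 23, 3, 11, 21, 2, 6, 22, 1, 4, 19, 16, 7, 18],
    [10, 21, 3, 9, 5, 12, 15, 6, 16, 13, 8, 23, 11, 17, 22, 7, 4, 20, 1, 14, 19, 0, 18, 2],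
    [10, 21, 4, 15, 8, 12, 22, 3, 18, 2, 20, 23, 1, 17, 9, 16, 6, 5, 14, 11, 19, 13, 7, 0],
    [10, 21, 6, 22, 20, 12, 9, 4, 7, 0, 5, 23, 14, 17, 15, 18, 3, 8, 11, 1, 19, 2, 16, 13]]

/-- Code permutations commuting with the permutation. (part 9) -/
noncomputable def tauL9 : List (List ℕ) :=
  [
    [10, 22, 4, 20, 21, 16, 8, 14, 18, 12, 5, 23, 6, 3, 9, 2, 11, 15, 17, 1, 19, 7, 0, 13],
    [10, 22, 11, 8, 5, 16, 9, 4, 0, 13, 15, 23, 17, 3, 20, 18, 14, 21, 1, 6, 19, 12, 2, 7],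
    [10, 22, 14, 9, 15, 16, 20, 11, 2, 7, 21, 23, 1, 3, 8, 0, 4, 5, 6, 17, 19, 13, 18, 12],
    [12, 1, 0, 4, 10, 5, 6, 7, 20, 23, 3, 17, 2, 13, 11, 15, 18, 14, 19, 16, 21, 8, 9, 22],
    [12, 1, 7, 11, 14, 5, 4, 18, 15, 8, 10, 17, 16, 13, 6, 9, 0, 3, 2, 19, 21, 22, 20, 23],
    [12, 1, 18, 6, 3, 5, 11, 0, 9, 22, 14, 17, 19, 13, 4, 20, 7, 10, 16, 2, 21, 23, 15, 8],
    [12, 3, 13, 4, 14, 22, 10, 19, 5, 8, 11, 17, 7, 16, 1, 23, 18, 6, 2, 0, 21, 15, 9, 20],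
    [12, 3, 18, 10, 11, 22, 1, 13, 9, 20, 6, 17, 2, 16, 4, 5, 19, 14, 0, 7, 21, 8, 23, 15],
    [12, 3, 19, 1, 6, 22, 4, 18, 23, 15, 14, 17, 0, 16, 10, 9, 13, 11, 7, 2, 21, 20, 5, 8],
    [12, 4, 2, 6, 11, 9, 10, 19, 8, 20, 1, 17, 16, 18, 14, 23, 7, 3, 0, 13, 21, 22, 15, 5],
    [12, 4, 7, 10, 1, 9, 14, 2, 15, 5, 3, 17, 0, 18, 6, 8, 19, 11, 13, 16, 21, 20, 23, 22],
    [12, 4, 19, 14, 3, 9, 6, 7, 23, 22, 11, 17, 13, 18, 10, 15, 2, 1, 16, 0, 21, 5, 8, 20],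
    [12, 6, 0, 3, 1, 15, 10, 19, 20, 5, 14, 17, 18, 7, 11, 23, 16, 4, 13, 2, 21, 9, 22, 8],
    [12, 6, 16, 10, 14, 15, 11, 0, 22, 8, 4, 17, 13, 7, 3, 20, 19, 1, 2, 18, 21, 5, 23, 9],
    [12, 6, 19, 11, 4, 15, 3, 16, 23, 9, 1, 17, 2, 7, 10, 22, 0, 14, 18, 13, 21, 8, 20, 5],
    [12, 10, 0, 14, 6, 23, 1, 13, 20, 15, 4, 17, 16, 19, 11, 5, 2, 3, 7, 18, 21, 22, 8, 9]]

/-- Code permutations commuting with the permutation. (part 10) -/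
noncomputable def tauL10 : List (List ℕ) :=
  [
    [12, 10, 2, 1, 4, 23, 11, 0, 8, 9, 3, 17, 7, 19, 14, 20, 13, 6, 18, 16, 21, 15, 5, 22],
    [12, 10, 13, 11, 3, 23, 14, 2, 5, 22, 6, 17, 18, 19, 1, 8, 0, 4, 16, 7, 21, 9, 20, 15],
    [12, 11, 2, 3, 10, 20, 4, 18, 8, 23, 6, 17, 13, 0, 14, 9, 16, 1, 19, 7, 21, 5, 22, 15],
    [12, 11, 16, 4, 6, 20, 14, 2, 22, 15, 1, 17, 19, 0, 3, 8, 18, 10, 7, 13, 21, 23, 9, 5],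
    [12, 11, 18, 14, 1, 20, 3, 16, 9, 5, 10, 17, 7, 0, 4, 22, 2, 6, 13, 19, 21, 15, 8, 23],
    [12, 14, 7, 3, 4, 8, 1, 13, 15, 9, 11, 17, 19, 2, 6, 5, 16, 10, 18, 0, 21, 23, 22, 20],
    [12, 14, 13, 6, 10, 8, 3, 16, 5, 23, 4, 17, 0, 2, 1, 22, 7, 11, 19, 18, 21, 20, 15, 9],
    [12, 14, 16, 1, 11, 8, 6, 7, 22, 20, 10, 17, 18, 2, 3, 15, 13, 4, 0, 19, 21, 9, 5, 23]]

/-- Code permutations commuting with the permutation. -/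
noncomputable def tauL : List (List ℕ) :=
  tauL0 ++ tauL1 ++ tauL2 ++ tauL3 ++ tauL4 ++ tauL5 ++ tauL6 ++ tauL7 ++ tauL8 ++ tauL9 ++ tauL10

/-- Their inverses. (part 0) -/
noncomputable def tauI0 : List (List ℕ) :=
  [
    [0, 1, 2, 3, 4, 5, 6, 7, 8, 9, 10, 11, 12, 13, 14, 15, 16, 17, 18, 19, 20, 21, 22, 23],
    [0, 1, 16, 6, 10, 5, 14, 2, 22, 23, 17, 11, 18, 13, 3, 8, 7, 4, 19, 12, 20, 9, 15, 21],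
    [0, 1, 7, 14, 17, 5, 3, 16, 15, 21, 4, 11, 19, 13, 6, 22, 2, 10, 12, 18, 20, 23, 8, 9],
    [0, 4, 12, 1, 3, 9, 14, 2, 21, 22, 10, 11, 7, 18, 17, 8, 13, 6, 16, 19, 20, 15, 5, 23],
    [0, 10, 18, 1, 6, 23, 3, 16, 9, 15, 17, 11, 2, 19, 4, 22, 13, 14, 7, 12, 20, 8, 5, 21],
    [0, 17, 19, 1, 14, 21, 6, 7, 23, 8, 4, 11, 16, 12, 10, 15, 13, 3, 2, 18, 20, 22, 5, 9],
    [0, 6, 2, 10, 1, 15, 4, 18, 8, 5, 17, 11, 16, 7, 14, 9, 19, 3, 13, 12, 20, 22, 23, 21],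
    [0, 3, 7, 4, 1, 22, 17, 12, 15, 5, 10, 11, 2, 16, 6, 21, 18, 14, 13, 19, 20, 8, 9, 23],
    [0, 14, 16, 17, 1, 8, 10, 19, 22, 5, 4, 11, 7, 2, 3, 23, 12, 6, 13, 18, 20, 15, 21, 9],
    [0, 4, 2, 17, 6, 9, 1, 13, 8, 15, 3, 11, 19, 18, 14, 5, 12, 10, 7, 16, 20, 23, 21, 22],
    [0, 10, 16, 4, 14, 23, 1, 13, 22, 8, 6, 11, 12, 19, 3, 5, 18, 17, 2, 7, 20, 21, 9, 15],
    [0, 17, 7, 10, 3, 21, 1, 13, 15, 22, 14, 11, 18, 12, 6, 5, 19, 4, 16, 2, 20, 9, 23, 8],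
    [0, 14, 19, 3, 6, 8, 17, 12, 23, 15, 1, 11, 18, 2, 10, 21, 16, 4, 7, 13, 20, 9, 22, 5],
    [0, 6, 18, 14, 3, 15, 10, 19, 9, 22, 1, 11, 12, 7, 4, 23, 2, 17, 16, 13, 20, 21, 8, 5],
    [0, 3, 12, 6, 14, 22, 4, 18, 21, 8, 1, 11, 19, 16, 17, 9, 7, 10, 2, 13, 20, 23, 15, 5],
    [0, 17, 13, 6, 4, 21, 10, 19, 5, 9, 3, 11, 2, 12, 1, 23, 7, 14, 18, 16, 20, 8, 15, 22]]

/-- Their inverses. (part 1) -/
noncomputable def tauI1 : List (List ℕ) :=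
  [
    [0, 4, 13, 14, 10, 9, 17, 12, 5, 23, 6, 11, 16, 18, 1, 21, 2, 3, 19, 7, 20, 22, 8, 15],
    [0, 10, 13, 3, 17, 23, 4, 18, 5, 21, 14, 11, 7, 19, 1, 9, 16, 6, 12, 2, 20, 15, 22, 8],
    [0, 6, 19, 4, 17, 15, 14, 2, 23, 21, 3, 11, 13, 7, 10, 8, 18, 1, 12, 16, 20, 5, 9, 22],
    [0, 14, 12, 10, 4, 8, 3, 16, 21, 9, 6, 11, 13, 2, 17, 22, 19, 1, 18, 7, 20, 5, 23, 15],
    [0, 3, 18, 17, 10, 22, 6, 7, 9, 23, 14, 11, 13, 16, 4, 15, 12, 1, 19, 2, 20, 5, 21, 8],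
    [22, 0, 5, 2, 7, 11, 19, 23, 1, 6, 12, 16, 9, 20, 13, 10, 8, 18, 15, 21, 3, 4, 14, 17],
    [15, 0, 5, 16, 2, 11, 12, 21, 1, 14, 18, 7, 23, 20, 13, 17, 22, 19, 8, 9, 6, 10, 3, 4],
    [8, 0, 5, 7, 16, 11, 18, 9, 1, 3, 19, 2, 21, 20, 13, 4, 15, 12, 22, 23, 14, 17, 6, 10],
    [21, 0, 9, 2, 13, 11, 16, 22, 4, 1, 19, 12, 15, 20, 18, 3, 8, 7, 5, 23, 17, 6, 14, 10],
    [23, 0, 21, 7, 13, 11, 2, 8, 17, 1, 18, 19, 22, 20, 12, 14, 15, 16, 5, 9, 10, 3, 6, 4],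
    [9, 0, 23, 16, 13, 11, 7, 15, 10, 1, 12, 18, 8, 20, 19, 6, 22, 2, 5, 21, 4, 14, 3, 17],
    [8, 0, 15, 18, 19, 11, 13, 5, 6, 10, 12, 2, 22, 20, 7, 1, 9, 16, 23, 21, 14, 3, 4, 17],
    [22, 0, 8, 19, 12, 11, 13, 5, 14, 17, 18, 16, 15, 20, 2, 1, 23, 7, 21, 9, 3, 6, 10, 4],
    [15, 0, 22, 12, 18, 11, 13, 5, 3, 4, 19, 7, 8, 20, 16, 1, 21, 2, 9, 23, 6, 14, 17, 10],
    [5, 0, 9, 12, 2, 11, 19, 23, 4, 14, 7, 13, 22, 20, 18, 10, 21, 16, 8, 15, 1, 3, 17, 6],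
    [5, 0, 23, 18, 16, 11, 12, 21, 10, 3, 2, 13, 15, 20, 19, 17, 9, 7, 22, 8, 1, 6, 4, 14]]

/-- Their inverses. (part 2) -/
noncomputable def tauI2 : List (List ℕ) :=
  [
    [5, 0, 21, 19, 7, 11, 18, 9, 17, 6, 16, 13, 8, 20, 12, 4, 23, 2, 15, 22, 1, 14, 10, 3],
    [23, 0, 15, 2, 18, 11, 12, 21, 6, 4, 16, 19, 5, 20, 7, 17, 8, 13, 9, 22, 10, 1, 14, 3],
    [9, 0, 22, 7, 12, 11, 19, 23, 3, 17, 2, 18, 5, 20, 16, 10, 15, 13, 21, 8, 4, 1, 6, 14],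
    [21, 0, 8, 16, 19, 11, 18, 9, 14, 10, 7, 12, 5, 20, 2, 4, 22, 13, 23, 15, 17, 1, 3, 6],
    [22, 0, 23, 13, 18, 11, 2, 8, 10, 4, 7, 16, 21, 20, 19, 14, 5, 12, 9, 15, 3, 17, 1, 6],
    [15, 0, 21, 13, 19, 11, 16, 22, 17, 10, 2, 7, 9, 20, 12, 3, 5, 18, 23, 8, 6, 4, 1, 14],
    [8, 0, 9, 13, 12, 11, 7, 15, 4, 17, 16, 2, 23, 20, 18, 6, 5, 19, 21, 22, 14, 10, 1, 3],
    [9, 0, 15, 19, 2, 11, 16, 22, 6, 14, 13, 18, 21, 20, 7, 3, 23, 12, 8, 5, 4, 17, 10, 1],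
    [21, 0, 22, 18, 7, 11, 2, 8, 3, 6, 13, 12, 23, 20, 16, 14, 9, 19, 15, 5, 17, 10, 4, 1],
    [23, 0, 8, 12, 16, 11, 7, 15, 14, 3, 13, 19, 9, 20, 2, 6, 21, 18, 22, 5, 10, 4, 17, 1],
    [18, 1, 0, 10, 17, 5, 14, 2, 20, 21, 6, 4, 16, 13, 11, 8, 19, 3, 12, 7, 9, 22, 23, 15],
    [12, 1, 0, 4, 10, 5, 6, 7, 20, 23, 3, 17, 2, 13, 11, 15, 18, 14, 19, 16, 21, 8, 9, 22],
    [19, 1, 0, 17, 4, 5, 3, 16, 20, 9, 14, 10, 7, 13, 11, 22, 12, 6, 18, 2, 23, 15, 21, 8],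
    [2, 3, 0, 1, 10, 22, 17, 12, 20, 23, 4, 14, 7, 16, 11, 21, 13, 6, 19, 18, 8, 15, 5, 9],
    [16, 6, 0, 1, 17, 15, 4, 18, 20, 21, 10, 3, 2, 7, 11, 9, 13, 14, 12, 19, 22, 8, 5, 23],
    [7, 14, 0, 1, 4, 8, 10, 19, 20, 9, 17, 6, 16, 2, 11, 23, 13, 3, 18, 12, 15, 22, 5, 21]]

/-- Their inverses. (part 3) -/
noncomputable def tauI3 : List (List ℕ) :=
  [
    [18, 14, 0, 6, 1, 8, 17, 12, 20, 5, 3, 4, 19, 2, 11, 21, 7, 10, 13, 16, 9, 23, 15, 22],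
    [19, 3, 0, 14, 1, 22, 4, 18, 20, 5, 6, 10, 12, 16, 11, 9, 2, 17, 13, 7, 23, 21, 8, 15],
    [12, 6, 0, 3, 1, 15, 10, 19, 20, 5, 14, 17, 18, 7, 11, 23, 16, 4, 13, 2, 21, 9, 22, 8],
    [19, 4, 0, 6, 3, 9, 1, 13, 20, 22, 17, 10, 2, 18, 11, 5, 7, 14, 16, 12, 23, 8, 15, 21],
    [12, 10, 0, 14, 6, 23, 1, 13, 20, 15, 4, 17, 16, 19, 11, 5, 2, 3, 7, 18, 21, 22, 8, 9],
    [18, 17, 0, 3, 14, 21, 1, 13, 20, 8, 10, 4, 7, 12, 11, 5, 16, 6, 2, 19, 9, 15, 22, 23],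
    [2, 10, 0, 6, 17, 23, 3, 16, 20, 21, 1, 14, 18, 19, 11, 22, 7, 4, 12, 13, 8, 9, 15, 5],
    [7, 4, 0, 3, 10, 9, 14, 2, 20, 23, 1, 6, 12, 18, 11, 8, 16, 17, 19, 13, 15, 21, 22, 5],
    [16, 17, 0, 14, 4, 21, 6, 7, 20, 9, 1, 3, 19, 12, 11, 15, 2, 10, 18, 13, 22, 23, 8, 5],
    [13, 6, 0, 17, 3, 15, 14, 2, 20, 22, 4, 1, 19, 7, 11, 8, 12, 10, 16, 18, 5, 23, 21, 9],
    [13, 14, 0, 4, 6, 8, 3, 16, 20, 15, 10, 1, 12, 2, 11, 22, 18, 17, 7, 19, 5, 21, 9, 23],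
    [13, 3, 0, 10, 14, 22, 6, 7, 20, 8, 17, 1, 18, 16, 11, 15, 19, 4, 2, 12, 5, 9, 23, 21],
    [2, 17, 0, 4, 3, 21, 10, 19, 20, 22, 6, 14, 13, 12, 11, 23, 18, 1, 16, 7, 8, 5, 9, 15],
    [7, 10, 0, 17, 14, 23, 4, 18, 20, 8, 3, 6, 13, 19, 11, 9, 12, 1, 2, 16, 15, 5, 21, 22],
    [16, 4, 0, 10, 6, 9, 17, 12, 20, 15, 14, 3, 13, 18, 11, 21, 19, 1, 7, 2, 22, 5, 23, 8],
    [21, 13, 15, 0, 2, 1, 18, 9, 6, 14, 19, 12, 22, 5, 7, 4, 20, 16, 8, 23, 17, 3, 11, 10]]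

/-- Their inverses. (part 4) -/
noncomputable def tauI4 : List (List ℕ) :=
  [
    [9, 13, 8, 0, 16, 1, 19, 23, 14, 3, 12, 18, 15, 5, 2, 10, 20, 7, 22, 21, 4, 6, 11, 17],
    [23, 13, 22, 0, 7, 1, 12, 21, 3, 6, 18, 19, 8, 5, 16, 17, 20, 2, 15, 9, 10, 14, 11, 4],
    [23, 18, 5, 0, 2, 4, 7, 15, 1, 14, 16, 19, 21, 9, 13, 6, 20, 12, 8, 22, 10, 17, 11, 3],
    [21, 19, 5, 0, 16, 10, 2, 8, 1, 3, 7, 12, 9, 23, 13, 14, 20, 18, 22, 15, 17, 4, 11, 6],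
    [9, 12, 5, 0, 7, 17, 16, 22, 1, 6, 2, 18, 23, 21, 13, 3, 20, 19, 15, 8, 4, 10, 11, 14],
    [15, 19, 9, 0, 13, 10, 12, 21, 4, 1, 2, 7, 22, 23, 18, 17, 20, 16, 5, 8, 6, 3, 11, 14],
    [8, 12, 23, 0, 13, 17, 18, 9, 10, 1, 16, 2, 15, 21, 19, 4, 20, 7, 5, 22, 14, 6, 11, 3],
    [22, 18, 21, 0, 13, 4, 19, 23, 17, 1, 7, 16, 8, 9, 12, 10, 20, 2, 5, 15, 3, 14, 11, 6],
    [15, 2, 23, 0, 16, 14, 13, 5, 10, 3, 18, 7, 21, 8, 19, 1, 20, 12, 22, 9, 6, 17, 11, 4],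
    [22, 7, 9, 0, 2, 6, 13, 5, 4, 14, 12, 16, 23, 15, 18, 1, 20, 19, 8, 21, 3, 10, 11, 17],
    [8, 16, 21, 0, 7, 3, 13, 5, 17, 6, 19, 2, 9, 22, 12, 1, 20, 18, 15, 23, 14, 4, 11, 10],
    [5, 2, 22, 0, 12, 14, 18, 9, 3, 17, 7, 13, 23, 8, 16, 4, 20, 19, 21, 15, 1, 10, 11, 6],
    [5, 16, 15, 0, 18, 3, 19, 23, 6, 4, 2, 13, 21, 22, 7, 10, 20, 12, 9, 8, 1, 17, 11, 14],
    [5, 7, 8, 0, 19, 6, 12, 21, 14, 10, 16, 13, 9, 15, 2, 17, 20, 18, 23, 22, 1, 4, 11, 3],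
    [22, 12, 15, 0, 19, 17, 2, 8, 6, 10, 18, 16, 5, 21, 7, 14, 20, 13, 23, 9, 3, 1, 11, 4],
    [8, 19, 22, 0, 18, 10, 7, 15, 3, 4, 12, 2, 5, 23, 16, 6, 20, 13, 9, 21, 14, 1, 11, 17]]

/-- Their inverses. (part 5) -/
noncomputable def tauI5 : List (List ℕ) :=
  [
    [15, 18, 8, 0, 12, 4, 16, 22, 14, 17, 19, 7, 5, 9, 2, 3, 20, 13, 21, 23, 6, 1, 11, 10],
    [9, 2, 21, 0, 19, 14, 7, 15, 17, 10, 13, 18, 22, 8, 12, 6, 20, 16, 23, 5, 4, 3, 11, 1],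
    [23, 16, 9, 0, 12, 3, 2, 8, 4, 17, 13, 19, 15, 22, 18, 14, 20, 7, 21, 5, 10, 6, 11, 1],
    [21, 7, 23, 0, 18, 6, 16, 22, 10, 4, 13, 12, 8, 15, 19, 3, 20, 2, 9, 5, 17, 14, 11, 1],
    [15, 13, 22, 19, 0, 1, 18, 9, 3, 11, 2, 7, 21, 5, 16, 4, 23, 12, 20, 8, 6, 17, 10, 14],
    [8, 13, 15, 12, 0, 1, 19, 23, 6, 11, 16, 2, 9, 5, 7, 10, 21, 18, 20, 22, 14, 4, 17, 3],
    [22, 13, 8, 18, 0, 1, 12, 21, 14, 11, 7, 16, 23, 5, 2, 17, 9, 19, 20, 15, 3, 10, 4, 6],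
    [15, 12, 5, 18, 0, 17, 2, 8, 1, 11, 19, 7, 22, 21, 13, 14, 9, 16, 20, 23, 6, 3, 4, 10],
    [8, 18, 5, 19, 0, 4, 16, 22, 1, 11, 12, 2, 15, 9, 13, 3, 23, 7, 20, 21, 14, 6, 10, 17],
    [22, 19, 5, 12, 0, 10, 7, 15, 1, 11, 18, 16, 8, 23, 13, 6, 21, 2, 20, 9, 3, 14, 17, 4],
    [23, 2, 21, 18, 0, 14, 13, 5, 17, 11, 16, 19, 15, 8, 12, 1, 9, 7, 20, 22, 10, 6, 4, 3],
    [9, 7, 23, 12, 0, 6, 13, 5, 10, 11, 2, 18, 22, 15, 19, 1, 21, 16, 20, 8, 4, 3, 17, 14],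
    [21, 16, 9, 19, 0, 3, 13, 5, 4, 11, 7, 12, 8, 22, 18, 1, 23, 2, 20, 15, 17, 14, 10, 6],
    [5, 12, 23, 2, 0, 17, 16, 22, 10, 11, 7, 13, 9, 21, 19, 3, 8, 18, 20, 15, 1, 4, 14, 6],
    [5, 19, 9, 7, 0, 10, 2, 8, 4, 11, 16, 13, 21, 23, 18, 14, 15, 12, 20, 22, 1, 17, 6, 3],
    [5, 18, 21, 16, 0, 4, 7, 15, 17, 11, 2, 13, 23, 9, 12, 6, 22, 19, 20, 8, 1, 10, 3, 14]]

/-- Their inverses. (part 6) -/
noncomputable def tauI6 : List (List ℕ) :=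
  [
    [22, 2, 23, 7, 0, 14, 18, 9, 10, 11, 12, 16, 5, 8, 19, 4, 15, 13, 20, 21, 3, 1, 6, 17],
    [15, 16, 21, 2, 0, 3, 19, 23, 17, 11, 18, 7, 5, 22, 12, 10, 8, 13, 20, 9, 6, 1, 14, 4],
    [8, 7, 9, 16, 0, 6, 12, 21, 4, 11, 19, 2, 5, 15, 18, 17, 22, 13, 20, 23, 14, 1, 3, 10],
    [21, 2, 22, 13, 0, 14, 7, 15, 3, 11, 19, 12, 9, 8, 16, 6, 5, 18, 20, 23, 17, 4, 1, 10],
    [9, 16, 15, 13, 0, 3, 2, 8, 6, 11, 12, 18, 23, 22, 7, 14, 5, 19, 20, 21, 4, 10, 1, 17],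
    [23, 7, 8, 13, 0, 6, 16, 22, 14, 11, 18, 19, 21, 15, 2, 3, 5, 12, 20, 9, 10, 17, 1, 4],
    [9, 19, 22, 2, 0, 10, 12, 21, 3, 11, 13, 18, 15, 23, 16, 17, 8, 7, 20, 5, 4, 6, 14, 1],
    [21, 18, 8, 7, 0, 4, 19, 23, 14, 11, 13, 12, 22, 9, 2, 10, 15, 16, 20, 5, 17, 3, 6, 1],
    [23, 12, 15, 16, 0, 17, 18, 9, 6, 11, 13, 19, 8, 21, 7, 4, 22, 2, 20, 5, 10, 14, 3, 1],
    [9, 13, 23, 2, 7, 1, 0, 20, 10, 6, 16, 18, 21, 5, 19, 11, 8, 12, 15, 22, 4, 17, 14, 3],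
    [23, 13, 21, 16, 2, 1, 0, 20, 17, 14, 7, 19, 9, 5, 12, 11, 22, 18, 8, 15, 10, 4, 3, 6],
    [21, 13, 9, 7, 16, 1, 0, 20, 4, 3, 2, 12, 23, 5, 18, 11, 15, 19, 22, 8, 17, 10, 6, 14],
    [15, 2, 5, 19, 12, 14, 0, 20, 1, 17, 16, 7, 9, 8, 13, 11, 23, 18, 21, 22, 6, 4, 10, 3],
    [22, 7, 5, 18, 19, 6, 0, 20, 1, 10, 2, 16, 21, 15, 13, 11, 9, 12, 23, 8, 3, 17, 4, 14],
    [8, 16, 5, 12, 18, 3, 0, 20, 1, 4, 7, 2, 23, 22, 13, 11, 21, 19, 9, 15, 14, 10, 17, 6],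
    [15, 18, 22, 2, 13, 4, 0, 20, 3, 1, 12, 7, 23, 9, 16, 11, 8, 19, 5, 21, 6, 10, 14, 17]]

/-- Their inverses. (part 7) -/
noncomputable def tauI7 : List (List ℕ) :=
  [
    [8, 19, 15, 16, 13, 10, 0, 20, 6, 1, 18, 2, 21, 23, 7, 11, 22, 12, 5, 9, 14, 17, 3, 4],
    [22, 12, 8, 7, 13, 17, 0, 20, 14, 1, 19, 16, 9, 21, 2, 11, 15, 18, 5, 23, 3, 4, 6, 10],
    [5, 2, 9, 16, 19, 14, 0, 20, 4, 10, 12, 13, 15, 8, 18, 11, 22, 7, 23, 21, 1, 6, 3, 17],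
    [5, 7, 21, 2, 18, 6, 0, 20, 17, 4, 19, 13, 22, 15, 12, 11, 8, 16, 9, 23, 1, 3, 14, 10],
    [5, 16, 23, 7, 12, 3, 0, 20, 10, 17, 18, 13, 8, 22, 19, 11, 15, 2, 21, 9, 1, 14, 6, 4],
    [9, 2, 15, 12, 16, 14, 0, 20, 6, 3, 19, 18, 5, 8, 7, 11, 21, 13, 22, 23, 4, 1, 17, 10],
    [21, 7, 22, 19, 2, 6, 0, 20, 3, 14, 18, 12, 5, 15, 16, 11, 23, 13, 8, 9, 17, 1, 10, 4],
    [23, 16, 8, 18, 7, 3, 0, 20, 14, 6, 12, 19, 5, 22, 2, 11, 9, 13, 15, 21, 10, 1, 4, 17],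
    [23, 18, 15, 13, 12, 4, 0, 20, 6, 17, 2, 19, 22, 9, 7, 11, 5, 16, 21, 8, 10, 3, 1, 14],
    [21, 19, 8, 13, 18, 10, 0, 20, 14, 4, 16, 12, 15, 23, 2, 11, 5, 7, 9, 22, 17, 6, 1, 3],
    [9, 12, 22, 13, 19, 17, 0, 20, 3, 10, 7, 18, 8, 21, 16, 11, 5, 2, 23, 15, 4, 14, 1, 6],
    [22, 18, 23, 12, 2, 4, 0, 20, 10, 14, 13, 16, 15, 9, 19, 11, 21, 7, 8, 5, 3, 6, 17, 1],
    [8, 12, 9, 19, 7, 17, 0, 20, 4, 6, 13, 2, 22, 21, 18, 11, 23, 16, 15, 5, 14, 3, 10, 1],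
    [15, 19, 21, 18, 16, 10, 0, 20, 17, 3, 13, 7, 8, 23, 12, 11, 9, 2, 22, 5, 6, 14, 4, 1],
    [22, 13, 21, 2, 19, 1, 18, 9, 17, 10, 0, 16, 15, 5, 12, 4, 8, 7, 23, 20, 3, 6, 14, 11],
    [8, 13, 23, 7, 18, 1, 12, 21, 10, 4, 0, 2, 22, 5, 19, 17, 15, 16, 9, 20, 14, 3, 6, 11]]

/-- Their inverses. (part 8) -/
noncomputable def tauI8 : List (List ℕ) :=
  [
    [15, 13, 9, 16, 12, 1, 19, 23, 4, 17, 0, 7, 8, 5, 18, 10, 22, 2, 21, 20, 6, 14, 3, 11],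
    [23, 2, 5, 12, 7, 14, 18, 9, 1, 6, 0, 19, 22, 8, 13, 4, 21, 16, 15, 20, 10, 3, 17, 11],
    [21, 16, 5, 18, 2, 3, 19, 23, 1, 14, 0, 12, 15, 22, 13, 10, 9, 7, 8, 20, 17, 6, 4, 11],
    [9, 7, 5, 19, 16, 6, 12, 21, 1, 3, 0, 18, 8, 15, 13, 17, 23, 2, 22, 20, 4, 14, 10, 11],
    [22, 2, 9, 19, 13, 14, 7, 15, 4, 1, 0, 16, 21, 8, 18, 6, 23, 12, 5, 20, 3, 17, 10, 11],
    [15, 16, 23, 12, 13, 3, 2, 8, 10, 1, 0, 7, 9, 22, 19, 14, 21, 18, 5, 20, 6, 4, 17, 11],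
    [8, 7, 21, 18, 13, 6, 16, 22, 17, 1, 0, 2, 23, 15, 12, 3, 9, 19, 5, 20, 14, 10, 4, 11],
    [21, 2, 15, 16, 18, 14, 13, 5, 6, 4, 0, 12, 23, 8, 7, 1, 22, 19, 9, 20, 17, 10, 3, 11],
    [23, 7, 22, 2, 12, 6, 13, 5, 3, 17, 0, 19, 9, 15, 16, 1, 8, 18, 21, 20, 10, 4, 14, 11],
    [9, 16, 8, 7, 19, 3, 13, 5, 14, 10, 0, 18, 21, 22, 2, 1, 15, 12, 23, 20, 4, 17, 6, 11],
    [5, 12, 22, 19, 18, 17, 2, 8, 3, 4, 0, 13, 15, 21, 16, 14, 23, 7, 9, 20, 1, 6, 10, 11],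
    [5, 19, 8, 18, 12, 10, 7, 15, 14, 17, 0, 13, 22, 23, 2, 6, 9, 16, 21, 20, 1, 3, 4, 11],
    [5, 18, 15, 12, 19, 4, 16, 22, 6, 10, 0, 13, 8, 9, 7, 3, 21, 2, 23, 20, 1, 14, 17, 11],
    [21, 18, 23, 2, 16, 4, 7, 15, 10, 3, 0, 12, 5, 9, 19, 6, 8, 13, 22, 20, 17, 1, 14, 11],
    [23, 12, 9, 7, 2, 17, 16, 22, 4, 14, 0, 19, 5, 21, 18, 3, 15, 13, 8, 20, 10, 1, 6, 11],
    [9, 19, 21, 16, 7, 10, 2, 8, 17, 6, 0, 18, 5, 23, 12, 14, 22, 13, 15, 20, 4, 1, 3, 11]]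

/-- Their inverses. (part 9) -/
noncomputable def tauI9 : List (List ℕ) :=
  [
    [22, 19, 15, 13, 2, 10, 12, 21, 6, 14, 0, 16, 9, 23, 7, 17, 5, 18, 8, 20, 3, 4, 1, 11],
    [8, 18, 22, 13, 7, 4, 19, 23, 3, 6, 0, 2, 21, 9, 16, 10, 5, 12, 15, 20, 14, 17, 1, 11],
    [15, 12, 8, 13, 16, 17, 18, 9, 14, 3, 0, 7, 23, 21, 2, 4, 5, 19, 22, 20, 6, 10, 1, 11],
    [2, 1, 12, 10, 3, 5, 6, 7, 21, 22, 4, 14, 0, 13, 17, 15, 19, 11, 16, 18, 8, 20, 23, 9],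
    [16, 1, 18, 17, 6, 5, 14, 2, 9, 15, 10, 3, 0, 13, 4, 8, 12, 11, 7, 19, 22, 20, 21, 23],
    [7, 1, 19, 4, 14, 5, 3, 16, 23, 8, 17, 6, 0, 13, 10, 22, 18, 11, 2, 12, 15, 20, 9, 21],
    [19, 14, 18, 1, 3, 8, 17, 12, 9, 22, 6, 10, 0, 2, 4, 21, 13, 11, 16, 7, 23, 20, 5, 15],
    [18, 6, 12, 1, 14, 15, 10, 19, 21, 8, 3, 4, 0, 7, 17, 23, 13, 11, 2, 16, 9, 20, 5, 22],
    [12, 3, 19, 1, 6, 22, 4, 18, 23, 15, 14, 17, 0, 16, 10, 9, 13, 11, 7, 2, 21, 20, 5, 8],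
    [18, 10, 2, 17, 1, 23, 3, 16, 8, 5, 6, 4, 0, 19, 14, 22, 12, 11, 13, 7, 9, 20, 21, 15],
    [12, 4, 7, 10, 1, 9, 14, 2, 15, 5, 3, 17, 0, 18, 6, 8, 19, 11, 13, 16, 21, 20, 23, 22],
    [19, 17, 16, 4, 1, 21, 6, 7, 22, 5, 14, 10, 0, 12, 3, 15, 18, 11, 13, 2, 23, 20, 9, 8],
    [2, 4, 19, 3, 17, 9, 1, 13, 23, 21, 6, 14, 0, 18, 10, 5, 16, 11, 12, 7, 8, 20, 22, 15],
    [7, 17, 18, 14, 10, 21, 1, 13, 9, 23, 3, 6, 0, 12, 4, 5, 2, 11, 19, 16, 15, 20, 8, 22],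
    [16, 10, 12, 6, 4, 23, 1, 13, 21, 9, 14, 3, 0, 19, 17, 5, 7, 11, 18, 2, 22, 20, 15, 8],
    [2, 6, 16, 17, 10, 15, 4, 18, 22, 23, 1, 14, 0, 7, 3, 9, 12, 11, 19, 13, 8, 20, 21, 5]]

/-- Their inverses. (part 10) -/
noncomputable def tauI10 : List (List ℕ) :=
  [
    [7, 3, 2, 10, 4, 22, 17, 12, 8, 9, 1, 6, 0, 16, 14, 21, 19, 11, 18, 13, 15, 20, 23, 5],
    [16, 14, 7, 4, 17, 8, 10, 19, 15, 21, 1, 3, 0, 2, 6, 23, 18, 11, 12, 13, 22, 20, 9, 5],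
    [13, 17, 2, 3, 6, 21, 10, 19, 8, 15, 4, 1, 0, 12, 14, 23, 16, 11, 7, 18, 5, 20, 22, 9],
    [13, 10, 7, 14, 3, 23, 4, 18, 15, 22, 17, 1, 0, 19, 6, 9, 2, 11, 16, 12, 5, 20, 8, 21],
    [13, 4, 16, 6, 14, 9, 17, 12, 22, 8, 10, 1, 0, 18, 3, 21, 7, 11, 2, 19, 5, 20, 15, 23],
    [19, 6, 13, 3, 4, 15, 14, 2, 5, 9, 17, 10, 0, 7, 1, 8, 16, 11, 18, 12, 23, 20, 22, 21],
    [12, 14, 13, 6, 10, 8, 3, 16, 5, 23, 4, 17, 0, 2, 1, 22, 7, 11, 19, 18, 21, 20, 15, 9],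
    [18, 3, 13, 14, 17, 22, 6, 7, 5, 21, 10, 4, 0, 16, 1, 15, 2, 11, 12, 19, 9, 20, 8, 23]]

/-- Their inverses. -/
noncomputable def tauI : List (List ℕ) :=
  tauI0 ++ tauI1 ++ tauI2 ++ tauI3 ++ tauI4 ++ tauI5 ++ tauI6 ++ tauI7 ++ tauI8 ++ tauI9 ++ tauI10

/-- The fixed code words. -/
noncomputable def fwL : List ℕ :=
  [0, 320502, 3307815, 3578577, 5360077, 5581371, 6533354, 6771484, 10005731, 10243861, 11195844, 11417138, 13198638, 13469400, 16456713, 16777215]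

/-- Sets for the search. -/
noncomputable def levels : List (List (List ℕ)) :=
  [
    [],
    [],
    [],
    [[0, 2, 5, 8, 13, 19, 20, 23], [0, 1, 2, 10, 11, 13, 14, 19], [1, 5, 8, 10, 11, 14, 20, 23]],
    [[0, 1, 3, 10, 14, 16, 20, 22], [2, 3, 11, 13, 16, 19, 20, 22], [0, 3, 5, 8, 11, 16, 22, 23]],
    [[1, 2, 14, 16, 18, 19, 20, 23], [0, 4, 13, 14, 18, 19, 20, 22], [0, 1, 2, 4, 13, 16, 22, 23], [0, 1, 5, 8, 13, 14, 16, 18], [1, 4, 5, 8, 16, 19, 20, 22], [2, 4, 5, 8, 14, 18, 22, 23], [5, 9, 13, 16, 18, 19, 22, 23], [1, 2, 5, 9, 13, 14, 20, 22], [0, 4, 5, 9, 14, 16, 20, 23], [0, 1, 2, 4, 5, 9, 18, 19], [0, 1, 8, 9, 14, 19, 22, 23], [0, 2, 8, 9, 16, 18, 20, 22], [1, 4, 8, 9, 13, 18, 20, 23], [2, 4, 8, 9, 13, 14, 16, 19], [0, 2, 3, 10, 18, 19, 22, 23], [1, 3, 4, 10, 13, 16, 18, 19], [2, 3,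 4, 10, 13, 14, 20, 23], [3, 5, 8, 10, 13, 18, 20, 22], [0, 3, 4, 5, 8, 10, 14, 19], [0, 2, 3, 5, 9, 10, 13, 16], [1, 3, 4, 5, 9, 10, 22, 23], [3, 8, 9, 10, 16, 19, 20, 23], [1, 2, 3, 8, 9, 10, 14, 18], [1, 3, 11, 13, 14, 18, 22, 23], [0, 1, 3, 4, 11, 19, 20, 23], [0, 2, 3, 4, 11, 14, 16, 18], [1, 2, 3, 4, 5, 8, 11, 13], [1, 3, 5, 9, 11, 14, 16, 19], [2, 3, 5, 9, 11, 18, 20, 23], [0, 3, 8, 9, 11, 13, 18, 19], [3, 4, 8, 9, 11, 14, 20, 22], [0, 10, 11, 13, 16, 18, 20, 23], [4, 10, 11, 14, 16, 19, 22, 23], [1, 2, 4, 10, 11, 18, 20, 22], [2, 5, 8, 10, 11, 16, 18, 19], [0, 5, 9, 10, 11, 19, 20, 22], [4, 5, 9, 10, 11, 13, 14, 18], [2, 8, 9, 10, 11, 13, 22, 23], [0, 1, 4, 8, 9, 10, 11, 16]],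
    [[1, 3, 5, 13, 15, 16, 20, 23], [2, 3, 5, 13, 14, 15, 18, 19], [0, 2, 3, 4, 5, 15, 20, 22], [0, 3, 6, 13, 15, 16, 18, 22], [3, 4, 6, 14, 15, 16, 19, 20], [1, 2, 3, 4, 6, 15, 18, 23], [0, 1, 5, 6, 18, 20, 22, 23], [0, 2, 5, 6, 14, 16, 19, 22], [1, 4, 5, 6, 13, 14, 19, 23], [2, 4, 5, 6, 13, 16, 18, 20], [0, 7, 15, 16, 19, 20, 22, 23], [0, 1, 2, 7, 14, 15, 18, 22], [4, 7, 13, 14, 15, 16, 18, 23], [1, 2, 4, 7, 13, 15, 19, 20], [0, 1, 3, 5, 7, 13, 19, 22], [1, 3, 4, 5, 7, 14, 18, 20], [2, 3, 4, 5, 7, 16, 19, 23], [3, 6, 7, 13, 18, 19, 20, 23], [1, 2, 3, 6, 7, 13, 14, 16], [0, 3, 4, 6, 7, 14, 22, 23], [1, 5, 6, 7, 15, 16, 18, 19], [2, 5, 6, 7, 14, 15, 20, 23], [0, 3, 8, 14, 15, 18, 20, 23], [0, 1, 2, 3, 8, 15, 16, 19], [3, 4, 8, 13, 15, 19, 22, 23], [6, 8, 13, 14, 16, 20, 22, 23], [1, 2, 6, 8,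 13, 18, 19, 22], [0, 4, 6, 8, 16, 18, 19, 23], [0, 1, 2, 4, 6, 8, 14, 20], [1, 3, 5, 6, 8, 14, 15, 22], [3, 7, 8, 14, 16, 18, 19, 22], [1, 2, 3, 7, 8, 20, 22, 23], [0, 3, 4, 7, 8, 13, 16, 20], [2, 5, 7, 8, 13, 15, 16, 22], [0, 1, 4, 5, 7, 8, 15, 23], [0, 6, 7, 8, 13, 14, 15, 19], [4, 6, 7, 8, 15, 18, 20, 22], [0, 2, 3, 5, 6, 7, 8, 18], [1, 3, 9, 15, 18, 19, 20, 22], [2, 3, 9, 14, 15, 16, 22, 23], [0, 1, 3, 4, 9, 13, 14, 15], [0, 1, 6, 9, 13, 16, 19, 20], [0, 2, 6, 9, 13, 14, 18, 23], [1, 4, 6, 9, 14, 16, 18, 22], [2, 4, 6, 9, 19, 20, 22, 23], [0, 3, 5, 6, 9, 15, 19, 23], [0, 1, 3, 7, 9, 16, 18, 23], [0, 2, 3, 7, 9, 14, 19, 20], [2, 3, 4, 7, 9, 13, 18, 22], [0, 5, 7, 9, 13, 15, 18, 20], [4, 5, 7, 9, 14, 15, 19, 22], [1, 6, 7, 9, 13, 15, 22, 23], [0, 2, 4, 6, 7, 9, 15, 16], [3, 5, 6, 7, 9, 16,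 20, 22], [3, 4, 5, 8, 9, 15, 16, 18], [2, 3, 6, 8, 9, 13, 15, 20], [5, 6, 8, 9, 14, 18, 19, 20], [1, 2, 5, 6, 8, 9, 16, 23], [0, 4, 5, 6, 8, 9, 13, 22], [1, 7, 8, 9, 14, 15, 16, 20], [2, 7, 8, 9, 15, 18, 19, 23], [3, 5, 7, 8, 9, 13, 14, 23], [1, 3, 4, 6, 7, 8, 9, 19], [0, 5, 10, 13, 14, 15, 22, 23], [4, 5, 10, 15, 18, 19, 20, 23], [1, 2, 4, 5, 10, 14, 15, 16], [1, 6, 10, 13, 14, 15, 18, 20], [2, 6, 10, 13, 15, 16, 19, 23], [0, 1, 4, 6, 10, 15, 19, 22], [3, 5, 6, 10, 14, 16, 18, 23], [1, 2, 3, 5, 6, 10, 19, 20], [1, 3, 7, 10, 14, 15, 19, 23], [2, 3, 7, 10, 15, 16, 18, 20], [5, 7, 10, 13, 14, 16, 19, 20], [1, 2, 5, 7, 10, 13, 18, 23], [0, 4, 5, 7, 10, 16, 18, 22], [0, 2, 6, 7, 10, 13, 20, 22], [1, 4, 6, 7, 10, 16, 20, 23], [2, 4, 6, 7, 10, 14, 18, 19], [3, 4, 5, 6, 7, 10, 13, 15], [1, 8, 10, 15,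 16, 18, 22, 23], [2, 8, 10, 14, 15, 19, 20, 22], [0, 2, 4, 8, 10, 13, 15, 18], [0, 1, 3, 6, 8, 10, 13, 23], [2, 3, 4, 6, 8, 10, 16, 22], [0, 5, 6, 8, 10, 15, 16, 20], [0, 1, 7, 8, 10, 18, 19, 20], [0, 2, 7, 8, 10, 14, 16, 23], [1, 4, 7, 8, 10, 13, 14, 22], [5, 6, 7, 8, 10, 19, 22, 23], [0, 9, 10, 14, 15, 16, 18, 19], [0, 1, 2, 9, 10, 15, 20, 23], [4, 9, 10, 13, 15, 16, 20, 22], [3, 6, 9, 10, 13, 14, 19, 22], [0, 3, 4, 6, 9, 10, 18, 20], [2, 5, 6, 9, 10, 15, 18, 22], [7, 9, 10, 14, 18, 20, 22, 23], [1, 2, 7, 9, 10, 16, 19, 22], [0, 4, 7, 9, 10, 13, 19, 23], [0, 1, 5, 6, 7, 9, 10, 14], [1, 5, 8, 9, 10, 13, 15, 19], [4, 6, 8, 9, 10, 14, 15, 23], [0, 3, 7, 8, 9, 10, 15, 22], [2, 4, 5, 7, 8, 9, 10, 20], [6, 7, 8, 9, 10, 13, 16, 18], [5, 11, 14, 15, 16, 18, 20, 22], [1, 2, 5, 11, 15, 19, 22, 23], [0,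 4, 5, 11, 13, 15, 16, 19], [0, 1, 6, 11, 14, 15, 16, 23], [0, 2, 6, 11, 15, 18, 19, 20], [2, 4, 6, 11, 13, 14, 15, 22], [0, 3, 5, 6, 11, 13, 14, 20], [3, 4, 5, 6, 11, 18, 19, 22], [0, 2, 3, 7, 11, 13, 15, 23], [1, 3, 4, 7, 11, 15, 16, 22], [0, 5, 7, 11, 14, 18, 19, 23], [0, 1, 2, 5, 7, 11, 16, 20], [4, 5, 7, 11, 13, 20, 22, 23], [1, 6, 7, 11, 14, 19, 20, 22], [2, 6, 7, 11, 16, 18, 22, 23], [0, 1, 4, 6, 7, 11, 13, 18], [0, 1, 8, 11, 13, 15, 20, 22], [1, 4, 8, 11, 14, 15, 18, 19], [2, 4, 8, 11, 15, 16, 20, 23], [1, 3, 6, 8, 11, 16, 18, 20], [2, 3, 6, 8, 11, 14, 19, 23], [5, 6, 8, 11, 13, 15, 18, 23], [1, 7, 8, 11, 13, 16, 19, 23], [2, 7, 8, 11, 13, 14, 18, 20], [0, 2, 4, 7, 8, 11, 19, 22], [3, 5, 7, 8, 11, 15, 19, 20], [4, 5, 6, 7, 8, 11, 14, 16], [9, 11, 13, 14, 15, 19, 20, 23], [1, 2, 9, 11,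 13, 15, 16, 18], [0, 4, 9, 11, 15, 18, 22, 23], [0, 1, 2, 3, 6, 9, 11, 22], [3, 4, 6, 9, 11, 13, 16, 23], [1, 4, 5, 6, 9, 11, 15, 20], [0, 7, 9, 11, 13, 14, 16, 22], [4, 7, 9, 11, 16, 18, 19, 20], [1, 2, 4, 7, 9, 11, 14, 23], [3, 6, 7, 9, 11, 14, 15, 18], [2, 5, 6, 7, 9, 11, 13, 19], [0, 2, 5, 8, 9, 11, 14, 15], [6, 8, 9, 11, 15, 16, 19, 22], [1, 5, 7, 8, 9, 11, 18, 22], [0, 6, 7, 8, 9, 11, 20, 23], [0, 1, 3, 5, 10, 11, 15, 18], [3, 6, 10, 11, 15, 20, 22, 23], [1, 5, 6, 10, 11, 13, 16, 22], [0, 2, 4, 5, 6, 10, 11, 23], [7, 10, 11, 13, 15, 18, 19, 22], [0, 4, 7, 10, 11, 14, 15, 20], [2, 3, 5, 7, 10, 11, 14, 22], [0, 3, 6, 7, 10, 11, 16, 19], [3, 8, 10, 11, 13, 14, 15, 16], [0, 6, 8, 10, 11, 14, 18, 22], [4, 6, 8, 10, 11, 13, 19, 20], [3, 4, 7, 8, 10, 11, 18, 23], [1, 2, 6, 7, 8, 10, 11, 15], [2,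 3, 4, 9, 10, 11, 15, 19], [1, 6, 9, 10, 11, 18, 19, 23], [2, 6, 9, 10, 11, 14, 16, 20], [1, 3, 7, 9, 10, 11, 13, 20], [5, 7, 9, 10, 11, 15, 16, 23]],
    [[11, 13, 15, 16, 17, 21, 22, 23], [10, 12, 14, 15, 16, 20, 21, 23], [9, 14, 16, 17, 19, 20, 21, 22], [8, 13, 15, 16, 18, 19, 20, 21], [7, 12, 14, 15, 17, 18, 19, 20], [6, 14, 15, 18, 19, 21, 22, 23], [5, 13, 14, 17, 18, 20, 21, 23], [4, 12, 13, 16, 17, 19, 20, 23], [3, 12, 13, 17, 18, 19, 21, 22], [2, 12, 13, 15, 18, 20, 22, 23], [1, 12, 13, 14, 15, 16, 19, 22], [0, 12, 14, 16, 17, 18, 22, 23]]]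

/-- The images of the representatives. (part 0) -/
noncomputable def targets0 : List (List ℕ) :=
  [
    [0, 1, 2, 10, 3, 4, 6, 12],
    [20, 13, 8, 19, 16, 18, 7, 21],
    [11, 5, 14, 23, 22, 9, 15, 17],
    [0, 1, 7, 4, 14, 17, 3, 19],
    [20, 13, 15, 18, 2, 12, 16, 23],
    [11, 5, 6, 9, 8, 21, 22, 10],
    [0, 1, 16, 17, 6, 10, 14, 18],
    [20, 13, 22, 12, 7, 19, 2, 9],
    [11, 5, 3, 21, 15, 23, 8, 4],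
    [0, 3, 7, 10, 4, 1, 17, 2],
    [20, 16, 15, 19, 18, 13, 12, 8],
    [11, 22, 6, 23, 9, 5, 21, 14],
    [0, 3, 12, 1, 6, 14, 4, 19],
    [20, 16, 21, 13, 7, 2, 18, 23],
    [11, 22, 17, 5, 15, 8, 9, 10],
    [0, 3, 18, 14, 17, 10, 6, 13]]

/-- The images of the representatives. (part 1) -/
noncomputable def targets1 : List (List ℕ) :=
  [
    [20, 16, 9, 2, 12, 19, 7, 5],
    [11, 22, 4, 8, 21, 23, 15, 1],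
    [0, 4, 2, 3, 17, 6, 1, 19],
    [20, 18, 8, 16, 12, 7, 13, 23],
    [11, 9, 14, 22, 21, 15, 5, 10],
    [0, 4, 12, 10, 1, 3, 14, 7],
    [20, 18, 21, 19, 13, 16, 2, 15],
    [11, 9, 17, 23, 5, 22, 8, 6],
    [0, 4, 13, 6, 14, 10, 17, 16],
    [20, 18, 5, 7, 2, 19, 12, 22],
    [11, 9, 1, 15, 8, 23, 21, 3],
    [0, 6, 2, 17, 10, 1, 4, 16],
    [20, 7, 8, 12, 19, 13, 18, 22],
    [11, 15, 14, 21, 23, 5, 9, 3],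
    [0, 6, 18, 1, 14, 3, 10, 12],
    [20, 7, 9, 13, 2, 16, 19, 21]]

/-- The images of the representatives. (part 2) -/
noncomputable def targets2 : List (List ℕ) :=
  [
    [11, 15, 4, 5, 8, 22, 23, 17],
    [0, 6, 19, 3, 4, 17, 14, 13],
    [20, 7, 23, 16, 18, 12, 2, 5],
    [11, 15, 10, 22, 9, 21, 8, 1],
    [0, 10, 13, 14, 3, 17, 4, 7],
    [20, 19, 5, 2, 16, 12, 18, 15],
    [11, 23, 1, 8, 22, 21, 9, 6],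
    [0, 10, 16, 6, 4, 14, 1, 12],
    [20, 19, 22, 7, 18, 2, 13, 21],
    [11, 23, 3, 15, 9, 8, 5, 17],
    [0, 10, 18, 17, 1, 6, 3, 2],
    [20, 19, 9, 12, 13, 7, 16, 8],
    [11, 23, 4, 21, 5, 15, 22, 14],
    [0, 14, 12, 6, 10, 4, 3, 13],
    [20, 2, 21, 7, 19, 18, 16, 5],
    [11, 8, 17, 15, 23, 9, 22, 1]]

/-- The images of the representatives. (part 3) -/
noncomputable def targets3 : List (List ℕ) :=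
  [
    [0, 14, 16, 4, 17, 1, 10, 7],
    [20, 2, 22, 18, 12, 13, 19, 15],
    [11, 8, 3, 9, 21, 5, 23, 6],
    [0, 14, 19, 1, 3, 6, 17, 18],
    [20, 2, 23, 13, 16, 7, 12, 9],
    [11, 8, 10, 5, 22, 15, 21, 4],
    [0, 17, 7, 14, 10, 3, 1, 18],
    [20, 12, 15, 2, 19, 16, 13, 9],
    [11, 21, 6, 8, 23, 22, 5, 4],
    [0, 17, 13, 3, 6, 4, 10, 2],
    [20, 12, 5, 16, 7, 18, 19, 8],
    [11, 21, 1, 22, 15, 9, 23, 14],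
    [0, 17, 19, 4, 1, 14, 6, 16],
    [20, 12, 23, 18, 13, 2, 7, 22],
    [11, 21, 10, 9, 5, 8, 15, 3],
    [1, 8, 3, 15, 20, 21, 9, 10]]

/-- The images of the representatives. (part 4) -/
noncomputable def targets4 : List (List ℕ) :=
  [
    [13, 14, 16, 6, 11, 17, 4, 19],
    [5, 2, 22, 7, 0, 12, 18, 23],
    [1, 8, 4, 21, 22, 23, 20, 6],
    [13, 14, 18, 17, 3, 10, 11, 7],
    [5, 2, 9, 12, 16, 19, 0, 15],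
    [1, 8, 11, 23, 9, 15, 22, 17],
    [13, 14, 0, 10, 4, 6, 3, 12],
    [5, 2, 20, 19, 18, 7, 16, 21],
    [1, 9, 3, 23, 15, 8, 21, 11],
    [13, 4, 16, 10, 6, 14, 17, 0],
    [5, 18, 22, 19, 7, 2, 12, 20],
    [1, 9, 6, 20, 21, 23, 22, 14],
    [13, 4, 7, 11, 17, 10, 3, 2],
    [5, 18, 15, 0, 12, 19, 16, 8],
    [1, 9, 17, 8, 22, 20, 15, 10],
    [13, 4, 12, 14, 3, 11, 6, 19]]

/-- The images of the representatives. (part 5) -/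
noncomputable def targets5 : List (List ℕ) :=
  [
    [5, 18, 21, 2, 16, 0, 7, 23],
    [1, 15, 11, 9, 21, 22, 8, 10],
    [13, 6, 0, 4, 17, 3, 14, 19],
    [5, 7, 20, 18, 12, 16, 2, 23],
    [1, 15, 14, 22, 20, 23, 21, 4],
    [13, 6, 2, 3, 11, 10, 17, 18],
    [5, 7, 8, 16, 0, 19, 12, 9],
    [1, 15, 17, 23, 8, 9, 20, 3],
    [13, 6, 12, 10, 14, 4, 11, 16],
    [5, 7, 21, 19, 2, 18, 0, 22],
    [1, 20, 4, 15, 21, 8, 23, 3],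
    [13, 11, 18, 6, 17, 14, 10, 16],
    [5, 0, 9, 7, 12, 2, 19, 22],
    [1, 20, 10, 8, 9, 22, 21, 6],
    [13, 11, 19, 14, 4, 3, 17, 7],
    [5, 0, 23, 2, 18, 16, 12, 15]]

/-- The images of the representatives. (part 6) -/
noncomputable def targets6 : List (List ℕ) :=
  [
    [1, 20, 17, 22, 23, 15, 9, 14],
    [13, 11, 12, 3, 10, 6, 4, 2],
    [5, 0, 21, 16, 19, 7, 18, 8],
    [1, 21, 3, 20, 23, 9, 8, 6],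
    [13, 17, 16, 11, 10, 4, 14, 7],
    [5, 12, 22, 0, 19, 18, 2, 15],
    [1, 21, 10, 15, 8, 20, 22, 4],
    [13, 17, 19, 6, 14, 11, 3, 18],
    [5, 12, 23, 7, 2, 0, 16, 9],
    [1, 21, 14, 9, 22, 15, 23, 11],
    [13, 17, 2, 4, 3, 6, 10, 0],
    [5, 12, 8, 18, 16, 7, 19, 20],
    [1, 22, 6, 8, 20, 9, 23, 17],
    [13, 3, 7, 14, 11, 4, 10, 12],
    [5, 16, 15, 2, 0, 18, 19, 21],
    [1, 22, 10, 9, 15, 21, 20, 14]]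

/-- The images of the representatives. (part 7) -/
noncomputable def targets7 : List (List ℕ) :=
  [
    [13, 3, 19, 4, 6, 17, 11, 2],
    [5, 16, 23, 18, 7, 12, 0, 8],
    [1, 22, 11, 21, 23, 8, 15, 4],
    [13, 3, 0, 17, 10, 14, 6, 18],
    [5, 16, 20, 12, 19, 2, 7, 9],
    [1, 23, 4, 22, 15, 20, 8, 17],
    [13, 10, 18, 3, 6, 11, 14, 12],
    [5, 19, 9, 16, 7, 0, 2, 21],
    [1, 23, 6, 21, 8, 22, 9, 11],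
    [13, 10, 7, 17, 14, 3, 4, 0],
    [5, 19, 15, 12, 2, 16, 18, 20],
    [1, 23, 14, 20, 9, 21, 15, 3],
    [13, 10, 2, 11, 4, 17, 6, 16],
    [5, 19, 8, 0, 18, 12, 7, 22],
    [2, 1, 7, 3, 17, 11, 10, 18],
    [8, 13, 15, 16, 12, 0, 19, 9]]

/-- The images of the representatives. (part 8) -/
noncomputable def targets8 : List (List ℕ) :=
  [
    [14, 5, 6, 22, 21, 20, 23, 4],
    [2, 1, 12, 4, 10, 3, 6, 0],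
    [8, 13, 21, 18, 19, 16, 7, 20],
    [14, 5, 17, 9, 23, 22, 15, 11],
    [2, 1, 19, 11, 6, 4, 17, 16],
    [8, 13, 23, 0, 7, 18, 12, 22],
    [14, 5, 10, 20, 15, 9, 21, 3],
    [2, 3, 0, 4, 1, 10, 17, 7],
    [8, 16, 20, 18, 13, 19, 12, 15],
    [14, 22, 11, 9, 5, 23, 21, 6],
    [2, 3, 12, 10, 11, 6, 1, 18],
    [8, 16, 21, 19, 0, 7, 13, 9],
    [14, 22, 17, 23, 20, 15, 5, 4],
    [2, 3, 13, 6, 17, 4, 11, 19],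
    [8, 16, 5, 7, 12, 18, 0, 23],
    [14, 22, 1, 15, 21, 9, 20, 10]]

/-- The images of the representatives. (part 9) -/
noncomputable def targets9 : List (List ℕ) :=
  [
    [2, 4, 13, 17, 10, 11, 3, 7],
    [8, 18, 5, 12, 19, 0, 16, 15],
    [14, 9, 1, 21, 23, 20, 22, 6],
    [2, 4, 16, 11, 1, 6, 10, 12],
    [8, 18, 22, 0, 13, 7, 19, 21],
    [14, 9, 3, 20, 5, 15, 23, 17],
    [2, 4, 19, 6, 3, 17, 1, 0],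
    [8, 18, 23, 7, 16, 12, 13, 20],
    [14, 9, 10, 15, 22, 21, 5, 11],
    [2, 6, 12, 11, 4, 1, 3, 19],
    [8, 7, 21, 0, 18, 13, 16, 23],
    [14, 15, 17, 20, 9, 5, 22, 10],
    [2, 6, 16, 1, 17, 10, 4, 0],
    [8, 7, 22, 13, 12, 19, 18, 20],
    [14, 15, 3, 5, 21, 23, 9, 11],
    [2, 6, 18, 10, 3, 11, 17, 13]]

/-- The images of the representatives. (part 10) -/
noncomputable def targets10 : List (List ℕ) :=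
  [
    [8, 7, 9, 19, 16, 0, 12, 5],
    [14, 15, 4, 23, 22, 20, 21, 1],
    [2, 10, 0, 1, 6, 17, 3, 18],
    [8, 19, 20, 13, 7, 12, 16, 9],
    [14, 23, 11, 5, 15, 21, 22, 4],
    [2, 10, 7, 4, 3, 1, 11, 12],
    [8, 19, 15, 18, 16, 13, 0, 21],
    [14, 23, 6, 9, 22, 5, 20, 17],
    [2, 10, 16, 17, 11, 4, 6, 13],
    [8, 19, 22, 12, 0, 18, 7, 5],
    [14, 23, 3, 21, 20, 9, 15, 1],
    [2, 11, 7, 17, 4, 10, 1, 16],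
    [8, 0, 15, 12, 18, 19, 13, 22],
    [14, 20, 6, 21, 9, 23, 5, 3],
    [2, 11, 13, 10, 6, 3, 4, 12],
    [8, 0, 5, 19, 7, 16, 18, 21]]

/-- The images of the representatives. (part 11) -/
noncomputable def targets11 : List (List ℕ) :=
  [
    [14, 20, 1, 23, 15, 22, 9, 17],
    [2, 11, 18, 3, 1, 17, 6, 19],
    [8, 0, 9, 16, 13, 12, 7, 23],
    [14, 20, 4, 22, 5, 21, 15, 10],
    [2, 17, 0, 6, 4, 3, 10, 13],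
    [8, 12, 20, 7, 18, 16, 19, 5],
    [14, 21, 11, 15, 9, 22, 23, 1],
    [2, 17, 18, 1, 10, 6, 11, 16],
    [8, 12, 9, 13, 19, 7, 0, 22],
    [14, 21, 4, 5, 23, 15, 20, 3],
    [2, 17, 19, 3, 11, 1, 4, 7],
    [8, 12, 23, 16, 0, 13, 18, 15],
    [14, 21, 10, 22, 20, 5, 9, 6],
    [3, 5, 4, 23, 21, 15, 8, 11],
    [16, 1, 18, 10, 17, 6, 14, 0],
    [22, 13, 9, 19, 12, 7, 2, 20]]

/-- The images of the representatives. (part 12) -/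
noncomputable def targets12 : List (List ℕ) :=
  [
    [3, 5, 14, 15, 9, 20, 21, 10],
    [16, 1, 2, 6, 4, 11, 17, 19],
    [22, 13, 8, 7, 18, 0, 12, 23],
    [3, 5, 17, 20, 8, 23, 9, 6],
    [16, 1, 12, 11, 14, 10, 4, 7],
    [22, 13, 21, 0, 2, 19, 18, 15],
    [3, 8, 4, 20, 23, 5, 15, 17],
    [16, 14, 18, 11, 10, 1, 6, 12],
    [22, 2, 9, 0, 19, 13, 7, 21],
    [3, 8, 6, 5, 9, 21, 23, 11],
    [16, 14, 7, 1, 4, 17, 10, 0],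
    [22, 2, 15, 13, 18, 12, 19, 20],
    [3, 8, 10, 21, 15, 20, 9, 1],
    [16, 14, 19, 17, 6, 11, 4, 13],
    [22, 2, 23, 12, 7, 0, 18, 5],
    [3, 9, 10, 5, 21, 8, 20, 6]]

/-- The images of the representatives. (part 13) -/
noncomputable def targets13 : List (List ℕ) :=
  [
    [16, 4, 19, 1, 17, 14, 11, 7],
    [22, 18, 23, 13, 12, 2, 0, 15],
    [3, 9, 11, 8, 23, 15, 21, 1],
    [16, 4, 0, 14, 10, 6, 17, 13],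
    [22, 18, 20, 2, 19, 7, 12, 5],
    [3, 9, 17, 15, 20, 5, 23, 14],
    [16, 4, 12, 6, 11, 1, 10, 2],
    [22, 18, 21, 7, 0, 13, 19, 8],
    [3, 15, 1, 8, 9, 23, 20, 17],
    [16, 6, 13, 14, 4, 10, 11, 12],
    [22, 7, 5, 2, 18, 19, 0, 21],
    [3, 15, 4, 21, 20, 8, 5, 10],
    [16, 6, 18, 17, 11, 14, 1, 19],
    [22, 7, 9, 12, 0, 2, 13, 23],
    [3, 15, 11, 23, 5, 21, 9, 14],
    [16, 6, 0, 10, 1, 17, 4, 2]]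

/-- The images of the representatives. (part 14) -/
noncomputable def targets14 : List (List ℕ) :=
  [
    [22, 7, 20, 19, 13, 12, 18, 8],
    [3, 20, 1, 21, 8, 15, 23, 4],
    [16, 11, 13, 17, 14, 6, 10, 18],
    [22, 0, 5, 12, 2, 7, 19, 9],
    [3, 20, 10, 15, 5, 9, 8, 17],
    [16, 11, 19, 6, 1, 4, 14, 12],
    [22, 0, 23, 7, 13, 18, 2, 21],
    [3, 20, 14, 9, 23, 21, 5, 6],
    [16, 11, 2, 4, 10, 17, 1, 7],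
    [22, 0, 8, 18, 19, 12, 13, 15],
    [3, 21, 6, 9, 20, 23, 8, 1],
    [16, 17, 7, 4, 11, 10, 14, 13],
    [22, 12, 15, 18, 0, 19, 2, 5],
    [3, 21, 11, 5, 8, 9, 15, 10],
    [16, 17, 0, 1, 14, 4, 6, 19],
    [22, 12, 20, 13, 2, 18, 7, 23]]

/-- The images of the representatives. (part 15) -/
noncomputable def targets15 : List (List ℕ) :=
  [
    [3, 21, 14, 23, 15, 5, 20, 4],
    [16, 17, 2, 10, 6, 1, 11, 18],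
    [22, 12, 8, 19, 7, 13, 0, 9],
    [3, 23, 1, 9, 21, 20, 15, 14],
    [16, 10, 13, 4, 17, 11, 6, 2],
    [22, 19, 5, 18, 12, 0, 7, 8],
    [3, 23, 6, 20, 5, 8, 21, 4],
    [16, 10, 7, 11, 1, 14, 17, 18],
    [22, 19, 15, 0, 13, 2, 12, 9],
    [3, 23, 17, 8, 15, 9, 5, 11],
    [16, 10, 12, 14, 6, 4, 1, 0],
    [22, 19, 21, 2, 7, 18, 13, 20],
    [4, 5, 10, 22, 8, 15, 20, 17],
    [18, 1, 19, 3, 14, 6, 11, 12],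
    [9, 13, 23, 16, 2, 7, 0, 21],
    [4, 5, 11, 15, 23, 21, 8, 3]]

/-- The images of the representatives. (part 16) -/
noncomputable def targets16 : List (List ℕ) :=
  [
    [18, 1, 0, 6, 10, 17, 14, 16],
    [9, 13, 20, 7, 19, 12, 2, 22],
    [4, 5, 14, 21, 20, 22, 23, 6],
    [18, 1, 2, 17, 11, 3, 10, 7],
    [9, 13, 8, 12, 0, 16, 19, 15],
    [4, 8, 6, 23, 21, 22, 20, 1],
    [18, 14, 7, 10, 17, 3, 11, 13],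
    [9, 2, 15, 19, 12, 16, 0, 5],
    [4, 8, 11, 22, 15, 5, 21, 10],
    [18, 14, 0, 3, 6, 1, 17, 19],
    [9, 2, 20, 16, 7, 13, 12, 23],
    [4, 8, 17, 5, 20, 23, 15, 3],
    [18, 14, 12, 1, 11, 10, 6, 16],
    [9, 2, 21, 13, 0, 19, 7, 22],
    [4, 15, 1, 20, 23, 22, 21, 14],
    [18, 6, 13, 11, 10, 3, 17, 2]]

/-- The images of the representatives. (part 17) -/
noncomputable def targets17 : List (List ℕ) :=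
  [
    [9, 7, 5, 0, 19, 16, 12, 8],
    [4, 15, 10, 8, 21, 20, 5, 3],
    [18, 6, 19, 14, 17, 11, 1, 16],
    [9, 7, 23, 2, 12, 0, 13, 22],
    [4, 15, 17, 22, 5, 8, 23, 11],
    [18, 6, 12, 3, 1, 14, 10, 0],
    [9, 7, 21, 16, 13, 2, 19, 20],
    [4, 20, 3, 8, 15, 21, 23, 1],
    [18, 11, 16, 14, 6, 17, 10, 13],
    [9, 0, 22, 2, 7, 12, 19, 5],
    [4, 20, 6, 5, 23, 8, 22, 17],
    [18, 11, 7, 1, 10, 14, 3, 12],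
    [9, 0, 15, 13, 19, 2, 16, 21],
    [4, 20, 10, 21, 22, 5, 15, 14],
    [18, 11, 19, 17, 3, 1, 6, 2],
    [9, 0, 23, 12, 16, 13, 7, 8]]

/-- The images of the representatives. (part 18) -/
noncomputable def targets18 : List (List ℕ) :=
  [
    [4, 21, 1, 8, 20, 15, 22, 10],
    [18, 17, 13, 14, 11, 6, 3, 19],
    [9, 12, 5, 2, 0, 7, 16, 23],
    [4, 21, 3, 15, 5, 23, 20, 14],
    [18, 17, 16, 6, 1, 10, 11, 2],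
    [9, 12, 22, 7, 13, 19, 0, 8],
    [4, 21, 11, 23, 22, 8, 5, 6],
    [18, 17, 0, 10, 3, 14, 1, 7],
    [9, 12, 20, 19, 16, 2, 13, 15],
    [4, 22, 1, 23, 8, 21, 15, 11],
    [18, 3, 13, 10, 14, 17, 6, 0],
    [9, 16, 5, 19, 2, 12, 7, 20],
    [4, 22, 6, 21, 5, 20, 8, 10],
    [18, 3, 7, 17, 1, 11, 14, 19],
    [9, 16, 15, 12, 13, 0, 2, 23],
    [4, 22, 14, 20, 15, 23, 5, 17]]

/-- The images of the representatives. (part 19) -/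
noncomputable def targets19 : List (List ℕ) :=
  [
    [18, 3, 2, 11, 6, 10, 1, 12],
    [9, 16, 8, 0, 7, 19, 13, 21],
    [4, 23, 3, 5, 8, 20, 21, 6],
    [18, 10, 16, 1, 14, 11, 17, 7],
    [9, 19, 22, 13, 2, 0, 12, 15],
    [4, 23, 14, 15, 21, 5, 22, 11],
    [18, 10, 2, 6, 17, 1, 3, 0],
    [9, 19, 8, 7, 12, 13, 16, 20],
    [4, 23, 17, 20, 22, 15, 8, 1],
    [18, 10, 12, 11, 3, 6, 14, 13],
    [9, 19, 21, 0, 16, 7, 2, 5],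
    [6, 5, 3, 8, 23, 20, 9, 17],
    [7, 1, 16, 14, 10, 11, 4, 12],
    [15, 13, 22, 2, 19, 0, 18, 21],
    [6, 5, 4, 20, 22, 21, 23, 14],
    [7, 1, 18, 11, 3, 17, 10, 2]]

/-- The images of the representatives. (part 20) -/
noncomputable def targets20 : List (List ℕ) :=
  [
    [15, 13, 9, 0, 16, 12, 19, 8],
    [6, 5, 10, 21, 9, 8, 22, 11],
    [7, 1, 19, 17, 4, 14, 3, 0],
    [15, 13, 23, 12, 18, 2, 16, 20],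
    [6, 8, 1, 22, 23, 21, 20, 4],
    [7, 14, 13, 3, 10, 17, 11, 18],
    [15, 2, 5, 16, 19, 12, 0, 9],
    [6, 8, 10, 9, 20, 22, 5, 17],
    [7, 14, 19, 4, 11, 3, 1, 12],
    [15, 2, 23, 18, 0, 16, 13, 21],
    [6, 8, 11, 21, 5, 9, 23, 3],
    [7, 14, 0, 17, 1, 4, 10, 16],
    [15, 2, 20, 12, 13, 18, 19, 22],
    [6, 9, 3, 21, 8, 5, 20, 10],
    [7, 4, 16, 17, 14, 1, 11, 19],
    [15, 18, 22, 12, 2, 13, 0, 23]]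

/-- The images of the representatives. (part 21) -/
noncomputable def targets21 : List (List ℕ) :=
  [
    [6, 9, 11, 5, 22, 23, 8, 17],
    [7, 4, 0, 1, 3, 10, 14, 12],
    [15, 18, 20, 13, 16, 19, 2, 21],
    [6, 9, 14, 23, 20, 21, 22, 1],
    [7, 4, 2, 10, 11, 17, 3, 13],
    [15, 18, 8, 19, 0, 12, 16, 5],
    [6, 20, 1, 9, 22, 8, 21, 10],
    [7, 11, 13, 4, 3, 14, 17, 19],
    [15, 0, 5, 18, 16, 2, 12, 23],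
    [6, 20, 3, 23, 21, 9, 5, 14],
    [7, 11, 16, 10, 17, 4, 1, 2],
    [15, 0, 22, 19, 12, 18, 13, 8],
    [6, 20, 17, 8, 5, 23, 22, 4],
    [7, 11, 12, 14, 1, 10, 3, 18],
    [15, 0, 21, 2, 13, 19, 16, 9],
    [6, 21, 1, 23, 9, 20, 8, 3]]

/-- The images of the representatives. (part 22) -/
noncomputable def targets22 : List (List ℕ) :=
  [
    [7, 17, 13, 10, 4, 11, 14, 16],
    [15, 12, 5, 19, 18, 0, 2, 22],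
    [6, 21, 4, 22, 8, 23, 5, 11],
    [7, 17, 18, 3, 14, 10, 1, 0],
    [15, 12, 9, 16, 2, 19, 13, 20],
    [6, 21, 14, 20, 5, 22, 9, 10],
    [7, 17, 2, 11, 1, 3, 4, 19],
    [15, 12, 8, 0, 13, 16, 18, 23],
    [6, 22, 10, 20, 21, 5, 8, 4],
    [7, 3, 19, 11, 17, 1, 14, 18],
    [15, 16, 23, 0, 12, 13, 2, 9],
    [6, 22, 14, 5, 23, 9, 21, 11],
    [7, 3, 2, 1, 10, 4, 17, 0],
    [15, 16, 8, 13, 19, 18, 12, 20],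
    [6, 22, 17, 9, 8, 20, 23, 1],
    [7, 3, 12, 4, 14, 11, 10, 13]]

/-- The images of the representatives. (part 23) -/
noncomputable def targets23 : List (List ℕ) :=
  [
    [15, 16, 21, 18, 2, 0, 19, 5],
    [6, 23, 4, 8, 20, 5, 21, 3],
    [7, 10, 18, 14, 11, 1, 17, 16],
    [15, 19, 9, 2, 0, 13, 12, 22],
    [6, 23, 11, 22, 21, 8, 9, 1],
    [7, 10, 0, 3, 17, 14, 4, 13],
    [15, 19, 20, 16, 12, 2, 18, 5],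
    [6, 23, 17, 5, 9, 22, 20, 14],
    [7, 10, 12, 1, 4, 3, 11, 2],
    [15, 19, 21, 13, 18, 16, 0, 8],
    [10, 5, 3, 9, 20, 15, 21, 14],
    [19, 1, 16, 4, 11, 6, 17, 2],
    [23, 13, 22, 18, 0, 7, 12, 8],
    [10, 5, 11, 8, 21, 9, 22, 6],
    [19, 1, 0, 14, 17, 4, 3, 7],
    [23, 13, 20, 2, 12, 18, 16, 15]]

/-- The images of the representatives. (part 24) -/
noncomputable def targets24 : List (List ℕ) :=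
  [
    [10, 5, 17, 15, 22, 8, 20, 4],
    [19, 1, 12, 6, 3, 14, 11, 18],
    [23, 13, 21, 7, 16, 2, 0, 9],
    [10, 8, 1, 20, 21, 15, 9, 3],
    [19, 14, 13, 11, 17, 6, 4, 16],
    [23, 2, 5, 0, 12, 7, 18, 22],
    [10, 8, 4, 15, 5, 22, 21, 11],
    [19, 14, 18, 6, 1, 3, 17, 0],
    [23, 2, 9, 7, 13, 16, 12, 20],
    [10, 8, 17, 22, 9, 20, 5, 6],
    [19, 14, 12, 3, 4, 11, 1, 7],
    [23, 2, 21, 16, 18, 0, 13, 15],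
    [10, 9, 1, 22, 20, 8, 15, 17],
    [19, 4, 13, 3, 11, 14, 6, 12],
    [23, 18, 5, 16, 0, 2, 7, 21],
    [10, 9, 6, 8, 5, 21, 20, 3]]

/-- The images of the representatives. (part 25) -/
noncomputable def targets25 : List (List ℕ) :=
  [
    [19, 4, 7, 14, 1, 17, 11, 16],
    [23, 18, 15, 2, 13, 12, 0, 22],
    [10, 9, 11, 21, 15, 22, 5, 14],
    [19, 4, 0, 17, 6, 3, 1, 2],
    [23, 18, 20, 12, 7, 16, 13, 8],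
    [10, 15, 1, 21, 22, 9, 8, 11],
    [19, 6, 13, 17, 3, 4, 14, 0],
    [23, 7, 5, 12, 16, 18, 2, 20],
    [10, 15, 3, 20, 8, 21, 5, 4],
    [19, 6, 16, 11, 14, 17, 1, 18],
    [23, 7, 22, 0, 2, 12, 13, 9],
    [10, 15, 14, 9, 5, 20, 22, 17],
    [19, 6, 2, 4, 1, 11, 3, 12],
    [23, 7, 8, 18, 13, 0, 16, 21],
    [10, 20, 6, 22, 8, 9, 21, 1],
    [19, 11, 7, 3, 14, 4, 17, 13]]

/-- The images of the representatives. (part 26) -/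
noncomputable def targets26 : List (List ℕ) :=
  [
    [23, 0, 15, 16, 2, 18, 12, 5],
    [10, 20, 14, 5, 21, 22, 15, 4],
    [19, 11, 2, 1, 17, 3, 6, 18],
    [23, 0, 8, 13, 12, 16, 7, 9],
    [10, 20, 17, 9, 15, 5, 8, 3],
    [19, 11, 12, 4, 6, 1, 14, 16],
    [23, 0, 21, 18, 7, 13, 2, 22],
    [10, 21, 3, 8, 9, 5, 15, 11],
    [19, 17, 16, 14, 4, 1, 6, 0],
    [23, 12, 22, 2, 18, 13, 7, 20],
    [10, 21, 4, 20, 15, 8, 22, 1],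
    [19, 17, 18, 11, 6, 14, 3, 13],
    [23, 12, 9, 0, 7, 2, 16, 5],
    [10, 21, 6, 5, 22, 20, 9, 14],
    [19, 17, 7, 1, 3, 11, 4, 2],
    [23, 12, 15, 13, 16, 0, 18, 8]]

/-- The images of the representatives. (part 27) -/
noncomputable def targets27 : List (List ℕ) :=
  [
    [10, 22, 4, 5, 20, 21, 8, 6],
    [19, 3, 18, 1, 11, 17, 14, 7],
    [23, 16, 9, 13, 0, 12, 2, 15],
    [10, 22, 11, 15, 8, 5, 9, 17],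
    [19, 3, 0, 6, 14, 1, 4, 12],
    [23, 16, 20, 7, 2, 13, 18, 21],
    [10, 22, 14, 21, 9, 15, 20, 1],
    [19, 3, 2, 17, 4, 6, 11, 13],
    [23, 16, 8, 12, 18, 7, 0, 5],
    [12, 1, 0, 3, 4, 10, 6, 2],
    [21, 13, 20, 16, 18, 19, 7, 8],
    [17, 5, 11, 22, 9, 23, 15, 14],
    [12, 1, 7, 10, 11, 14, 4, 16],
    [21, 13, 15, 19, 0, 2, 18, 22],
    [17, 5, 6, 23, 20, 8, 9, 3],
    [12, 1, 18, 14, 6, 3, 11, 19]]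

/-- The images of the representatives. (part 28) -/
noncomputable def targets28 : List (List ℕ) :=
  [
    [21, 13, 9, 2, 7, 16, 0, 23],
    [17, 5, 4, 8, 15, 22, 20, 10],
    [12, 3, 13, 11, 4, 14, 10, 7],
    [21, 16, 5, 0, 18, 2, 19, 15],
    [17, 22, 1, 20, 9, 8, 23, 6],
    [12, 3, 18, 6, 10, 11, 1, 2],
    [21, 16, 9, 7, 19, 0, 13, 8],
    [17, 22, 4, 15, 23, 20, 5, 14],
    [12, 3, 19, 14, 1, 6, 4, 0],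
    [21, 16, 23, 2, 13, 7, 18, 20],
    [17, 22, 10, 8, 5, 15, 9, 11],
    [12, 4, 2, 1, 6, 11, 10, 16],
    [21, 18, 8, 13, 7, 0, 19, 22],
    [17, 9, 14, 5, 15, 20, 23, 3],
    [12, 4, 7, 3, 10, 1, 14, 0],
    [21, 18, 15, 16, 19, 13, 2, 20]]

/-- The images of the representatives. (part 29) -/
noncomputable def targets29 : List (List ℕ) :=
  [
    [17, 9, 6, 22, 23, 5, 8, 11],
    [12, 4, 19, 11, 14, 3, 6, 13],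
    [21, 18, 23, 0, 2, 16, 7, 5],
    [17, 9, 10, 20, 8, 22, 15, 1],
    [12, 6, 0, 14, 3, 1, 10, 18],
    [21, 7, 20, 2, 16, 13, 19, 9],
    [17, 15, 11, 8, 22, 5, 23, 4],
    [12, 6, 16, 4, 10, 14, 11, 13],
    [21, 7, 22, 18, 19, 2, 0, 5],
    [17, 15, 3, 9, 23, 8, 20, 1],
    [12, 6, 19, 1, 11, 4, 3, 2],
    [21, 7, 23, 13, 0, 18, 16, 8],
    [17, 15, 10, 5, 20, 9, 22, 14],
    [12, 10, 0, 4, 14, 6, 1, 16],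
    [21, 19, 20, 18, 2, 7, 13, 22],
    [17, 23, 11, 9, 8, 15, 5, 3]]

/-- The images of the representatives. (part 30) -/
noncomputable def targets30 : List (List ℕ) :=
  [
    [12, 10, 2, 3, 1, 4, 11, 7],
    [21, 19, 8, 16, 13, 18, 0, 15],
    [17, 23, 14, 22, 5, 9, 20, 6],
    [12, 10, 13, 6, 11, 3, 14, 18],
    [21, 19, 5, 7, 0, 16, 2, 9],
    [17, 23, 1, 15, 20, 22, 8, 4],
    [12, 11, 2, 6, 3, 10, 4, 13],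
    [21, 0, 8, 7, 16, 19, 18, 5],
    [17, 20, 14, 15, 22, 23, 9, 1],
    [12, 11, 16, 1, 4, 6, 14, 19],
    [21, 0, 22, 13, 18, 7, 2, 23],
    [17, 20, 3, 5, 9, 15, 8, 10],
    [12, 11, 18, 10, 14, 1, 3, 7],
    [21, 0, 9, 19, 2, 13, 16, 15],
    [17, 20, 4, 23, 8, 5, 22, 6],
    [12, 14, 7, 11, 3, 4, 1, 19]]

/-- The images of the representatives. (part 31) -/
noncomputable def targets31 : List (List ℕ) :=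
  [
    [21, 2, 15, 0, 16, 18, 13, 23],
    [17, 8, 6, 20, 22, 9, 5, 10],
    [12, 14, 13, 4, 6, 10, 3, 0],
    [21, 2, 5, 18, 7, 19, 16, 20],
    [17, 8, 1, 9, 15, 23, 22, 11],
    [12, 14, 16, 10, 1, 11, 6, 18],
    [21, 2, 22, 19, 13, 0, 7, 9],
    [17, 8, 3, 23, 5, 20, 15, 4]]

/-- The images of the representatives. -/
noncomputable def targets : List (List ℕ) :=
  targets0 ++ targets1 ++ targets2 ++ targets3 ++ targets4 ++ targets5 ++ targets6 ++ targets7 ++ targets8 ++ targets9 ++ targets10 ++ targets11 ++ targets12 ++ targets13 ++ targets14 ++ targets15 ++ targets16 ++ targets17 ++ targets18 ++ targets19 ++ targets20 ++ targets21 ++ targets22 ++ targets23 ++ targets24 ++ targets25 ++ targets26 ++ targets27 ++ targets28 ++ targets29 ++ targets30 ++ targets31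

/-- The maps on codes of the generators. (part 0) -/
noncomputable def muG0 : List (List ℕ) :=
  [
    [214, 247, 244, 129, 43, 176, 8, 249],
    [1, 2, 4, 8, 16, 32, 64, 128],
    [224, 191, 88, 233, 239, 10, 40, 61],
    [31, 54, 46, 22, 241, 86, 227, 180],
    [217, 191, 158, 47, 16, 98, 129, 61],
    [222, 152, 190, 40, 9, 144, 77, 26],
    [199, 83, 108, 49, 23, 176, 184, 209],
    [162, 2, 65, 77, 246, 45, 233, 128],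
    [90, 152, 35, 181, 16, 92, 228, 26],
    [68, 247, 82, 171, 232, 79, 96, 117],
    [175, 2, 75, 71, 241, 131, 171, 128],
    [168, 83, 29, 64, 9, 69, 196, 209],
    [80, 59, 141, 184, 246, 19, 5, 185],
    [205, 247, 36, 221, 23, 242, 181, 117],
    [212, 54, 252, 196, 232, 113, 8, 180],
    [50, 83, 127, 34, 241, 42, 47, 209]]

/-- The maps on codes of the generators. (part 1) -/
noncomputable def muG1 : List (List ℕ) :=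
  [
    [18, 152, 147, 5, 232, 216, 49, 26],
    [243, 54, 220, 228, 239, 157, 221, 180],
    [244, 59, 214, 227, 9, 210, 121, 185],
    [136, 191, 200, 121, 23, 91, 22, 61],
    [112, 247, 120, 129, 246, 198, 34, 117],
    [145, 59, 85, 96, 239, 118, 71, 185],
    [64, 228, 248, 18, 120, 225, 152, 26],
    [99, 205, 242, 49, 45, 246, 243, 51],
    [54, 133, 239, 100, 91, 252, 199, 123],
    [181, 228, 46, 196, 91, 190, 77, 26],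
    [224, 47, 176, 145, 7, 220, 184, 209],
    [233, 68, 210, 152, 82, 32, 122, 186],
    [2, 133, 241, 122, 113, 65, 18, 123],
    [40, 71, 25, 80, 36, 255, 59, 185],
    [125, 68, 79, 5, 91, 23, 175, 186],
    [168, 205, 108, 175, 120, 157, 90, 51]]

/-- The maps on codes of the generators. (part 2) -/
noncomputable def muG2 : List (List ℕ) :=
  [
    [244, 112, 141, 243, 82, 98, 50, 142],
    [222, 68, 147, 217, 36, 131, 145, 186],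
    [31, 228, 216, 50, 7, 75, 49, 26],
    [22, 112, 69, 59, 120, 10, 155, 142],
    [96, 71, 4, 77, 113, 214, 121, 185],
    [227, 47, 230, 199, 82, 30, 83, 209],
    [156, 112, 198, 184, 113, 232, 217, 142],
    [191, 133, 16, 155, 45, 200, 80, 123],
    [8, 205, 144, 83, 36, 86, 100, 51],
    [34, 47, 88, 121, 45, 29, 196, 209],
    [1, 71, 19, 90, 7, 158, 5, 185],
    [227, 1, 176, 191, 4, 157, 125, 20],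
    [233, 40, 147, 181, 19, 200, 22, 61],
    [244, 96, 198, 168, 25, 190, 34, 117],
    [152, 155, 9, 156, 19, 35, 112, 142],
    [221, 40, 255, 217, 75, 7, 191, 61]]

/-- The maps on codes of the generators. (part 3) -/
noncomputable def muG3 : List (List ℕ) :=
  [
    [133, 162, 45, 129, 86, 241, 222, 183],
    [228, 162, 91, 247, 65, 216, 156, 183],
    [243, 196, 42, 224, 25, 85, 47, 209],
    [171, 96, 214, 184, 86, 36, 181, 117],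
    [18, 40, 98, 68, 25, 252, 129, 61],
    [64, 196, 220, 22, 92, 108, 184, 209],
    [5, 175, 242, 83, 75, 210, 122, 186],
    [54, 155, 232, 125, 92, 46, 217, 142],
    [100, 1, 32, 47, 19, 246, 212, 20],
    [121, 196, 248, 50, 65, 230, 83, 209],
    [136, 1, 158, 145, 65, 113, 168, 20],
    [205, 162, 120, 212, 75, 144, 224, 183],
    [199, 175, 127, 222, 4, 118, 68, 186],
    [59, 155, 239, 122, 86, 141, 50, 142],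
    [99, 175, 131, 34, 92, 16, 145, 186],
    [49, 96, 30, 112, 4, 225, 247, 117]]

/-- The maps on codes of the generators. (part 4) -/
noncomputable def muG4 : List (List ℕ) :=
  [
    [8, 64, 108, 34, 216, 65, 233, 128],
    [40, 31, 19, 2, 46, 98, 99, 223],
    [222, 181, 79, 244, 248, 29, 96, 117],
    [199, 64, 131, 205, 248, 200, 171, 128],
    [227, 121, 158, 233, 42, 141, 5, 185],
    [49, 243, 198, 59, 220, 144, 100, 51],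
    [156, 243, 157, 96, 42, 241, 90, 51],
    [152, 122, 16, 100, 10, 147, 145, 186],
    [184, 181, 255, 68, 46, 30, 247, 117],
    [133, 212, 113, 171, 10, 239, 168, 20],
    [129, 64, 225, 175, 220, 7, 2, 128],
    [83, 122, 9, 125, 216, 127, 68, 186],
    [112, 212, 82, 136, 220, 69, 1, 20],
    [80, 243, 85, 168, 46, 92, 205, 51],
    [162, 31, 75, 90, 252, 91, 244, 223],
    [77, 121, 230, 145, 252, 25, 59, 185]]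

/-- The maps on codes of the generators. (part 5) -/
noncomputable def muG5 : List (List ℕ) :=
  [
    [191, 122, 23, 99, 42, 88, 175, 186],
    [155, 31, 86, 71, 216, 232, 136, 223],
    [47, 212, 45, 247, 252, 176, 125, 20],
    [217, 121, 118, 1, 248, 35, 71, 185],
    [221, 181, 190, 5, 10, 120, 34, 117],
    [156, 168, 69, 227, 242, 23, 1, 20],
    [2, 99, 16, 125, 144, 75, 244, 223],
    [96, 8, 25, 31, 108, 30, 54, 180],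
    [100, 199, 176, 121, 131, 241, 18, 123],
    [152, 99, 232, 133, 242, 190, 136, 223],
    [233, 5, 255, 244, 127, 230, 59, 185],
    [68, 129, 91, 212, 225, 147, 22, 61],
    [171, 168, 157, 59, 29, 45, 125, 20],
    [184, 5, 35, 40, 242, 85, 71, 185],
    [243, 50, 46, 18, 29, 198, 217, 142],
    [224, 199, 200, 1, 127, 216, 80, 123]]

/-- The maps on codes of the generators. (part 6) -/
noncomputable def muG6 : List (List ℕ) :=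
  [
    [145, 168, 214, 112, 108, 32, 212, 20],
    [228, 129, 7, 136, 29, 248, 191, 61],
    [122, 50, 42, 22, 144, 9, 112, 142],
    [247, 99, 246, 155, 131, 36, 31, 223],
    [47, 129, 82, 221, 131, 88, 40, 61],
    [77, 199, 118, 191, 108, 92, 133, 123],
    [162, 8, 86, 80, 225, 120, 227, 180],
    [181, 50, 10, 54, 127, 79, 155, 142],
    [196, 8, 65, 71, 144, 220, 221, 180],
    [90, 5, 210, 217, 225, 4, 121, 185],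
    [64, 224, 216, 54, 88, 131, 156, 183],
    [168, 34, 242, 222, 230, 214, 181, 117],
    [22, 227, 141, 96, 176, 252, 8, 180],
    [133, 136, 91, 221, 32, 16, 244, 223],
    [171, 227, 30, 243, 158, 7, 54, 180],
    [59, 100, 9, 99, 176, 85, 205, 51]]

/-- The maps on codes of the generators. (part 7) -/
noncomputable def muG7 : List (List ℕ) :=
  [
    [122, 224, 10, 228, 176, 23, 162, 183],
    [2, 100, 246, 156, 118, 4, 243, 51],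
    [196, 77, 25, 90, 200, 248, 152, 26],
    [68, 136, 36, 162, 158, 210, 31, 223],
    [212, 224, 220, 50, 200, 45, 222, 183],
    [18, 217, 35, 244, 88, 42, 112, 142],
    [71, 136, 113, 247, 200, 19, 99, 223],
    [129, 34, 29, 49, 32, 82, 96, 117],
    [175, 77, 92, 31, 230, 127, 228, 26],
    [80, 227, 157, 112, 230, 65, 221, 180],
    [40, 77, 75, 8, 118, 147, 49, 26],
    [184, 217, 79, 152, 158, 69, 155, 142],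
    [5, 34, 225, 205, 88, 255, 247, 117],
    [83, 100, 241, 155, 32, 108, 90, 51],
    [125, 217, 98, 181, 118, 239, 50, 142],
    [181, 22, 248, 224, 141, 255, 191, 61]]

/-- The maps on codes of the generators. (part 8) -/
noncomputable def muG8 : List (List ℕ) :=
  [
    [54, 156, 241, 99, 69, 220, 222, 183],
    [125, 244, 210, 40, 198, 246, 31, 223],
    [205, 171, 45, 136, 30, 108, 233, 128],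
    [5, 49, 127, 64, 198, 35, 228, 26],
    [221, 244, 98, 152, 214, 113, 99, 223],
    [47, 171, 7, 162, 214, 230, 2, 128],
    [100, 145, 118, 233, 69, 9, 68, 186],
    [247, 156, 232, 122, 157, 120, 224, 183],
    [71, 171, 36, 129, 157, 4, 64, 128],
    [212, 22, 10, 18, 30, 82, 40, 61],
    [196, 80, 92, 2, 141, 42, 133, 123],
    [217, 145, 88, 199, 214, 79, 175, 186],
    [1, 80, 65, 31, 85, 176, 18, 123],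
    [90, 244, 190, 68, 141, 86, 136, 223],
    [121, 22, 252, 228, 69, 158, 129, 61],
    [50, 49, 144, 175, 30, 46, 77, 26]]

/-- The maps on codes of the generators. (part 9) -/
noncomputable def muG9 : List (List ℕ) :=
  [
    [34, 145, 32, 191, 85, 242, 122, 186],
    [8, 49, 225, 222, 85, 25, 152, 26],
    [83, 156, 23, 133, 198, 29, 162, 183],
    [155, 80, 19, 77, 157, 239, 199, 123],
    [191, 125, 239, 156, 210, 158, 168, 20],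
    [34, 233, 230, 1, 147, 225, 2, 128],
    [99, 222, 144, 64, 79, 232, 224, 183],
    [112, 221, 113, 162, 255, 141, 8, 180],
    [129, 222, 131, 83, 190, 91, 156, 183],
    [49, 184, 85, 227, 79, 127, 47, 209],
    [96, 90, 86, 2, 35, 198, 100, 51],
    [77, 233, 200, 47, 210, 75, 171, 128],
    [145, 184, 69, 243, 255, 88, 196, 209],
    [59, 125, 246, 133, 79, 214, 212, 20],
    [122, 18, 216, 196, 98, 16, 80, 123],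
    [22, 184, 30, 168, 35, 248, 83, 209]]

/-- The maps on codes of the generators. (part 10) -/
noncomputable def muG10 : List (List ℕ) :=
  [
    [247, 125, 23, 100, 98, 82, 1, 20],
    [155, 90, 92, 8, 210, 9, 205, 51],
    [71, 221, 7, 212, 190, 25, 54, 180],
    [175, 90, 4, 80, 190, 242, 243, 51],
    [31, 18, 252, 224, 35, 19, 199, 123],
    [50, 222, 29, 205, 147, 10, 162, 183],
    [136, 233, 32, 199, 255, 36, 64, 128],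
    [228, 221, 120, 171, 98, 46, 227, 180],
    [121, 18, 42, 54, 147, 118, 133, 123],
    [1, 2, 4, 8, 16, 32, 64, 128],
    [40, 130, 239, 99, 92, 98, 192, 128],
    [162, 54, 10, 50, 108, 82, 122, 101],
    [96, 83, 225, 188, 46, 30, 31, 101],
    [175, 59, 157, 168, 82, 108, 121, 204],
    [196, 247, 120, 129, 30, 46, 181, 204],
    [155, 152, 147, 5, 32, 16, 212, 39]]

/-- The maps on codes of the generators. (part 11) -/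
noncomputable def muG11 : List (List ℕ) :=
  [
    [21, 191, 118, 199, 98, 92, 243, 39],
    [21, 191, 118, 199, 98, 92, 243, 39],
    [155, 152, 147, 5, 32, 16, 212, 39],
    [196, 247, 120, 129, 30, 46, 181, 204],
    [175, 59, 157, 168, 82, 108, 121, 204],
    [96, 83, 225, 188, 46, 30, 31, 101],
    [162, 54, 10, 50, 108, 82, 122, 101],
    [40, 130, 239, 99, 92, 98, 192, 128],
    [1, 2, 4, 8, 16, 32, 64, 128]]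

/-- The maps on codes of the generators. -/
noncomputable def muG : List (List ℕ) :=
  muG0 ++ muG1 ++ muG2 ++ muG3 ++ muG4 ++ muG5 ++ muG6 ++ muG7 ++ muG8 ++ muG9 ++ muG10 ++ muG11

/-- Words for the classes. (part 0) -/
noncomputable def words0 : List (List ℕ) :=
  [
    [],
    [176, 43, 0],
    [170, 0],
    [49, 0, 22, 0],
    [174, 85, 0],
    [23, 0, 22, 0],
    [172, 85, 0],
    [0, 43, 0],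
    [64, 0, 22, 0],
    [0, 127, 0],
    [173, 148, 0],
    [53, 0, 22, 0],
    [43, 0],
    [175, 127, 0],
    [0, 85, 0],
    [48, 0, 22, 0]]

/-- Words for the classes. (part 1) -/
noncomputable def words1 : List (List ℕ) :=
  [
    [86, 0, 22, 0],
    [129, 0, 22, 0],
    [171, 64, 0],
    [108, 0, 22, 0],
    [173, 106, 0],
    [152, 0, 22, 0],
    [24, 0, 22, 0],
    [175, 43, 0],
    [74, 0, 22, 0],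
    [127, 0],
    [25, 0, 22, 0],
    [67, 0, 22, 0],
    [171, 22, 0],
    [0, 176, 148, 0],
    [176, 127, 0],
    [170, 85, 0]]

/-- Words for the classes. (part 2) -/
noncomputable def words2 : List (List ℕ) :=
  [
    [172, 0],
    [174, 0],
    [0, 150, 0, 22, 0],
    [170, 64, 0],
    [45, 0, 22, 0],
    [0, 109, 0, 22, 0],
    [172, 22, 0],
    [136, 0, 22, 0],
    [174, 22, 0],
    [43, 0, 22, 0],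
    [0, 175, 106, 0],
    [176, 106, 0],
    [155, 0, 22, 0],
    [173, 127, 0],
    [28, 0, 22, 0],
    [171, 0]]

/-- Words for the classes. (part 3) -/
noncomputable def words3 : List (List ℕ) :=
  [
    [132, 0, 22, 0],
    [44, 0, 22, 0],
    [106, 0],
    [113, 0, 22, 0],
    [175, 148, 0],
    [31, 0, 22, 0],
    [47, 0, 22, 0],
    [173, 43, 0],
    [149, 0, 22, 0],
    [171, 85, 0],
    [175, 106, 0],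
    [148, 0],
    [89, 0, 22, 0],
    [170, 22, 0],
    [22, 0, 22, 0],
    [0, 170, 43, 0]]

/-- Words for the classes. (part 4) -/
noncomputable def words4 : List (List ℕ) :=
  [
    [110, 0, 22, 0],
    [27, 0, 22, 0],
    [174, 64, 0],
    [172, 64, 0],
    [0, 48, 0, 22, 0],
    [176, 148, 0],
    [92, 0, 22, 0],
    [175, 85, 0],
    [0],
    [87, 0, 22, 0],
    [173, 22, 0],
    [171, 106, 0],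
    [130, 0, 22, 0],
    [90, 0, 22, 0],
    [172, 127, 0],
    [151, 0, 22, 0]]

/-- Words for the classes. (part 5) -/
noncomputable def words5 : List (List ℕ) :=
  [
    [0, 85, 0, 22, 0],
    [176, 0],
    [0, 171, 85, 0],
    [170, 43, 0],
    [174, 127, 0],
    [127, 0, 22, 0],
    [106, 0, 22, 0],
    [174, 43, 0],
    [0, 174, 127, 0],
    [176, 85, 0],
    [0, 129, 0, 22, 0],
    [170, 127, 0],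
    [172, 43, 0],
    [115, 0, 22, 0],
    [173, 64, 0],
    [171, 148, 0]]

/-- Words for the classes. (part 6) -/
noncomputable def words6 : List (List ℕ) :=
  [
    [85, 0],
    [148, 0, 22, 0],
    [175, 0],
    [64, 0],
    [171, 43, 0],
    [133, 0, 22, 0],
    [173, 85, 0],
    [107, 0, 22, 0],
    [175, 22, 0],
    [159, 0, 22, 0],
    [176, 64, 0],
    [0, 23, 0, 22, 0],
    [128, 0, 22, 0],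
    [68, 0, 22, 0],
    [170, 106, 0],
    [0, 173, 22, 0]]

/-- Words for the classes. (part 7) -/
noncomputable def words7 : List (List ℕ) :=
  [
    [65, 0, 22, 0],
    [172, 148, 0],
    [174, 148, 0],
    [174, 106, 0],
    [85, 0, 22, 0],
    [172, 106, 0],
    [176, 22, 0],
    [0, 172, 64, 0],
    [109, 0, 22, 0],
    [0, 22, 0],
    [170, 148, 0],
    [0, 70, 0, 22, 0],
    [0, 148, 0],
    [0, 64, 0],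
    [95, 0, 22, 0],
    [175, 64, 0]]

/-- Words for the classes. (part 8) -/
noncomputable def words8 : List (List ℕ) :=
  [
    [171, 127, 0],
    [0, 106, 0],
    [173, 0],
    [70, 0, 22, 0],
    [66, 0, 22, 0],
    [22, 0],
    [150, 0, 22, 0]]

/-- Words for the classes. -/
noncomputable def words : List (List ℕ) :=
  words0 ++ words1 ++ words2 ++ words3 ++ words4 ++ words5 ++ words6 ++ words7 ++ words8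

/-- Bases of the nine subspaces. (part 0) -/
noncomputable def bas0 : List (List ℕ) :=
  [
    [1, 46, 86, 144],
    [2, 8, 21, 69],
    [4, 18, 32, 192],
    [5, 40, 65, 152],
    [7, 25, 99, 130],
    [9, 35, 85, 129],
    [14, 48, 66, 151],
    [16, 43, 75, 131],
    [19, 34, 64, 141]]

/-- Bases of the nine subspaces. -/
noncomputable def bas : List (List ℕ) :=
  bas0

/-- The permutations of the generators. (part 0) -/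
noncomputable def permG0 : List (List ℕ) :=
  [
    [2, 5, 3, 8, 6, 0, 4, 7, 1],
    [0, 1, 2, 3, 4, 5, 6, 7, 8],
    [2, 0, 1, 7, 4, 5, 6, 8, 3],
    [1, 2, 0, 8, 4, 5, 6, 3, 7],
    [3, 0, 8, 1, 4, 2, 6, 7, 5],
    [8, 3, 0, 7, 4, 2, 6, 5, 1],
    [0, 8, 3, 5, 4, 2, 6, 1, 7],
    [5, 1, 3, 7, 4, 8, 6, 2, 0],
    [1, 3, 5, 0, 4, 8, 6, 7, 2],
    [3, 5, 1, 2, 4, 8, 6, 0, 7],
    [8, 1, 7, 2, 4, 0, 6, 3, 5],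
    [7, 8, 1, 3, 4, 0, 6, 5, 2],
    [1, 7, 8, 5, 4, 0, 6, 2, 3],
    [8, 5, 2, 0, 4, 7, 6, 1, 3],
    [5, 2, 8, 3, 4, 7, 6, 0, 1],
    [2, 8, 5, 1, 4, 7, 6, 3, 0]]

/-- The permutations of the generators. (part 1) -/
noncomputable def permG1 : List (List ℕ) :=
  [
    [2, 3, 7, 5, 4, 1, 6, 0, 8],
    [7, 2, 3, 0, 4, 1, 6, 8, 5],
    [3, 7, 2, 8, 4, 1, 6, 5, 0],
    [5, 0, 7, 8, 4, 3, 6, 1, 2],
    [7, 5, 0, 1, 4, 3, 6, 2, 8],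
    [0, 7, 5, 2, 4, 3, 6, 8, 1],
    [8, 2, 4, 7, 5, 1, 6, 0, 3],
    [4, 8, 2, 0, 5, 1, 6, 3, 7],
    [2, 4, 8, 3, 5, 1, 6, 7, 0],
    [3, 2, 0, 4, 5, 8, 6, 7, 1],
    [2, 0, 3, 1, 5, 8, 6, 4, 7],
    [0, 3, 2, 7, 5, 8, 6, 1, 4],
    [1, 4, 3, 7, 5, 0, 6, 8, 2],
    [3, 1, 4, 8, 5, 0, 6, 2, 7],
    [4, 3, 1, 2, 5, 0, 6, 7, 8],
    [7, 8, 3, 2, 5, 4, 6, 0, 1]]

/-- The permutations of the generators. (part 2) -/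
noncomputable def permG2 : List (List ℕ) :=
  [
    [3, 7, 8, 0, 5, 4, 6, 1, 2],
    [8, 3, 7, 1, 5, 4, 6, 2, 0],
    [1, 2, 7, 0, 5, 3, 6, 4, 8],
    [2, 7, 1, 8, 5, 3, 6, 0, 4],
    [7, 1, 2, 4, 5, 3, 6, 8, 0],
    [7, 0, 4, 3, 5, 2, 6, 1, 8],
    [4, 7, 0, 1, 5, 2, 6, 8, 3],
    [0, 4, 7, 8, 5, 2, 6, 3, 1],
    [1, 8, 0, 3, 5, 7, 6, 2, 4],
    [8, 0, 1, 4, 5, 7, 6, 3, 2],
    [0, 1, 8, 2, 5, 7, 6, 4, 3],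
    [7, 0, 3, 8, 1, 5, 6, 2, 4],
    [0, 3, 7, 4, 1, 5, 6, 8, 2],
    [3, 7, 0, 2, 1, 5, 6, 4, 8],
    [3, 4, 5, 0, 1, 2, 6, 8, 7],
    [5, 3, 4, 8, 1, 2, 6, 7, 0]]

/-- The permutations of the generators. (part 3) -/
noncomputable def permG3 : List (List ℕ) :=
  [
    [4, 5, 3, 7, 1, 2, 6, 0, 8],
    [2, 5, 7, 0, 1, 8, 6, 3, 4],
    [7, 2, 5, 3, 1, 8, 6, 4, 0],
    [5, 7, 2, 4, 1, 8, 6, 0, 3],
    [2, 3, 8, 7, 1, 0, 6, 4, 5],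
    [8, 2, 3, 4, 1, 0, 6, 5, 7],
    [3, 8, 2, 5, 1, 0, 6, 7, 4],
    [2, 4, 0, 8, 1, 7, 6, 5, 3],
    [4, 0, 2, 3, 1, 7, 6, 8, 5],
    [0, 2, 4, 5, 1, 7, 6, 3, 8],
    [5, 0, 8, 2, 1, 4, 6, 3, 7],
    [8, 5, 0, 3, 1, 4, 6, 7, 2],
    [0, 8, 5, 7, 1, 4, 6, 2, 3],
    [7, 4, 8, 5, 1, 3, 6, 0, 2],
    [4, 8, 7, 2, 1, 3, 6, 5, 0],
    [8, 7, 4, 0, 1, 3, 6, 2, 5]]

/-- The permutations of the generators. (part 4) -/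
noncomputable def permG4 : List (List ℕ) :=
  [
    [1, 8, 3, 4, 2, 5, 6, 7, 0],
    [3, 1, 8, 7, 2, 5, 6, 0, 4],
    [8, 3, 1, 0, 2, 5, 6, 4, 7],
    [0, 8, 7, 3, 2, 1, 6, 4, 5],
    [7, 0, 8, 4, 2, 1, 6, 5, 3],
    [8, 7, 0, 5, 2, 1, 6, 3, 4],
    [4, 7, 3, 0, 2, 8, 6, 5, 1],
    [3, 4, 7, 5, 2, 8, 6, 1, 0],
    [7, 3, 4, 1, 2, 8, 6, 0, 5],
    [4, 5, 8, 3, 2, 0, 6, 1, 7],
    [5, 8, 4, 7, 2, 0, 6, 3, 1],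
    [8, 4, 5, 1, 2, 0, 6, 7, 3],
    [7, 5, 1, 8, 2, 4, 6, 3, 0],
    [1, 7, 5, 3, 2, 4, 6, 0, 8],
    [5, 1, 7, 0, 2, 4, 6, 8, 3],
    [1, 0, 4, 5, 2, 3, 6, 8, 7]]

/-- The permutations of the generators. (part 5) -/
noncomputable def permG5 : List (List ℕ) :=
  [
    [0, 4, 1, 7, 2, 3, 6, 5, 8],
    [4, 1, 0, 8, 2, 3, 6, 7, 5],
    [0, 5, 3, 1, 2, 7, 6, 8, 4],
    [3, 0, 5, 8, 2, 7, 6, 4, 1],
    [5, 3, 0, 4, 2, 7, 6, 1, 8],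
    [4, 7, 1, 3, 8, 5, 6, 2, 0],
    [1, 4, 7, 2, 8, 5, 6, 0, 3],
    [7, 1, 4, 0, 8, 5, 6, 3, 2],
    [4, 0, 3, 5, 8, 1, 6, 7, 2],
    [3, 4, 0, 7, 8, 1, 6, 2, 5],
    [0, 3, 4, 2, 8, 1, 6, 5, 7],
    [3, 5, 7, 1, 8, 0, 6, 4, 2],
    [5, 7, 3, 2, 8, 0, 6, 1, 4],
    [7, 3, 5, 4, 8, 0, 6, 2, 1],
    [7, 2, 0, 5, 8, 4, 6, 1, 3],
    [2, 0, 7, 3, 8, 4, 6, 5, 1]]

/-- The permutations of the generators. (part 6) -/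
noncomputable def permG6 : List (List ℕ) :=
  [
    [0, 7, 2, 1, 8, 4, 6, 3, 5],
    [2, 5, 4, 7, 8, 3, 6, 1, 0],
    [4, 2, 5, 1, 8, 3, 6, 0, 7],
    [5, 4, 2, 0, 8, 3, 6, 7, 1],
    [0, 5, 1, 4, 8, 2, 6, 7, 3],
    [1, 0, 5, 7, 8, 2, 6, 3, 4],
    [5, 1, 0, 3, 8, 2, 6, 4, 7],
    [3, 2, 1, 0, 8, 7, 6, 5, 4],
    [2, 1, 3, 4, 8, 7, 6, 0, 5],
    [1, 3, 2, 5, 8, 7, 6, 4, 0],
    [8, 2, 7, 3, 0, 5, 6, 1, 4],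
    [7, 8, 2, 1, 0, 5, 6, 4, 3],
    [2, 7, 8, 4, 0, 5, 6, 3, 1],
    [4, 5, 7, 8, 0, 1, 6, 2, 3],
    [5, 7, 4, 3, 0, 1, 6, 8, 2],
    [7, 4, 5, 2, 0, 1, 6, 3, 8]]

/-- The permutations of the generators. (part 7) -/
noncomputable def permG7 : List (List ℕ) :=
  [
    [4, 2, 1, 7, 0, 8, 6, 3, 5],
    [1, 4, 2, 3, 0, 8, 6, 5, 7],
    [2, 1, 4, 5, 0, 8, 6, 7, 3],
    [3, 5, 2, 7, 0, 4, 6, 8, 1],
    [5, 2, 3, 1, 0, 4, 6, 7, 8],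
    [2, 3, 5, 8, 0, 4, 6, 1, 7],
    [1, 5, 8, 2, 0, 3, 6, 7, 4],
    [5, 8, 1, 4, 0, 3, 6, 2, 7],
    [8, 1, 5, 7, 0, 3, 6, 4, 2],
    [1, 7, 3, 8, 0, 2, 6, 4, 5],
    [3, 1, 7, 4, 0, 2, 6, 5, 8],
    [7, 3, 1, 5, 0, 2, 6, 8, 4],
    [3, 8, 4, 2, 0, 7, 6, 1, 5],
    [8, 4, 3, 5, 0, 7, 6, 2, 1],
    [4, 3, 8, 1, 0, 7, 6, 5, 2],
    [3, 2, 4, 1, 7, 5, 6, 8, 0]]

/-- The permutations of the generators. (part 8) -/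
noncomputable def permG8 : List (List ℕ) :=
  [
    [2, 4, 3, 0, 7, 5, 6, 1, 8],
    [4, 3, 2, 8, 7, 5, 6, 0, 1],
    [8, 5, 3, 2, 7, 1, 6, 4, 0],
    [3, 8, 5, 4, 7, 1, 6, 0, 2],
    [5, 3, 8, 0, 7, 1, 6, 2, 4],
    [0, 5, 4, 3, 7, 8, 6, 2, 1],
    [4, 0, 5, 2, 7, 8, 6, 1, 3],
    [5, 4, 0, 1, 7, 8, 6, 3, 2],
    [1, 5, 2, 4, 7, 0, 6, 3, 8],
    [5, 2, 1, 8, 7, 0, 6, 4, 3],
    [2, 1, 5, 3, 7, 0, 6, 8, 4],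
    [3, 0, 1, 5, 7, 4, 6, 2, 8],
    [0, 1, 3, 8, 7, 4, 6, 5, 2],
    [1, 3, 0, 2, 7, 4, 6, 8, 5],
    [0, 2, 8, 4, 7, 3, 6, 1, 5],
    [2, 8, 0, 5, 7, 3, 6, 4, 1]]

/-- The permutations of the generators. (part 9) -/
noncomputable def permG9 : List (List ℕ) :=
  [
    [8, 0, 2, 1, 7, 3, 6, 5, 4],
    [1, 8, 4, 0, 7, 2, 6, 5, 3],
    [8, 4, 1, 3, 7, 2, 6, 0, 5],
    [4, 1, 8, 5, 7, 2, 6, 3, 0],
    [0, 4, 8, 1, 3, 5, 6, 2, 7],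
    [8, 0, 4, 2, 3, 5, 6, 7, 1],
    [4, 8, 0, 7, 3, 5, 6, 1, 2],
    [7, 5, 8, 0, 3, 2, 6, 4, 1],
    [5, 8, 7, 1, 3, 2, 6, 0, 4],
    [8, 7, 5, 4, 3, 2, 6, 1, 0],
    [7, 1, 0, 2, 3, 8, 6, 5, 4],
    [1, 0, 7, 4, 3, 8, 6, 2, 5],
    [0, 7, 1, 5, 3, 8, 6, 4, 2],
    [7, 4, 2, 8, 3, 0, 6, 1, 5],
    [4, 2, 7, 5, 3, 0, 6, 8, 1],
    [2, 7, 4, 1, 3, 0, 6, 5, 8]]

/-- The permutations of the generators. (part 10) -/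
noncomputable def permG10 : List (List ℕ) :=
  [
    [5, 4, 1, 2, 3, 7, 6, 8, 0],
    [4, 1, 5, 0, 3, 7, 6, 2, 8],
    [1, 5, 4, 8, 3, 7, 6, 0, 2],
    [8, 1, 2, 5, 3, 4, 6, 0, 7],
    [1, 2, 8, 7, 3, 4, 6, 5, 0],
    [2, 8, 1, 0, 3, 4, 6, 7, 5],
    [5, 0, 2, 7, 3, 1, 6, 4, 8],
    [2, 5, 0, 4, 3, 1, 6, 8, 7],
    [0, 2, 5, 8, 3, 1, 6, 7, 4],
    [0, 1, 2, 3, 4, 5, 6, 7, 8],
    [3, 4, 8, 0, 1, 7, 6, 5, 2],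
    [5, 2, 1, 7, 8, 0, 6, 3, 4],
    [7, 8, 4, 5, 2, 3, 6, 0, 1],
    [8, 7, 3, 2, 5, 4, 6, 1, 0],
    [2, 5, 0, 8, 7, 1, 6, 4, 3],
    [4, 3, 7, 1, 0, 8, 6, 2, 5]]

/-- The permutations of the generators. (part 11) -/
noncomputable def permG11 : List (List ℕ) :=
  [
    [1, 0, 5, 4, 3, 2, 6, 8, 7],
    [1, 0, 5, 4, 3, 2, 6, 8, 7],
    [4, 3, 7, 1, 0, 8, 6, 2, 5],
    [2, 5, 0, 8, 7, 1, 6, 4, 3],
    [8, 7, 3, 2, 5, 4, 6, 1, 0],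
    [7, 8, 4, 5, 2, 3, 6, 0, 1],
    [5, 2, 1, 7, 8, 0, 6, 3, 4],
    [3, 4, 8, 0, 1, 7, 6, 5, 2],
    [0, 1, 2, 3, 4, 5, 6, 7, 8]]

/-- The permutations of the generators. -/
noncomputable def permG : List (List ℕ) :=
  permG0 ++ permG1 ++ permG2 ++ permG3 ++ permG4 ++ permG5 ++ permG6 ++ permG7 ++ permG8 ++ permG9 ++ permG10 ++ permG11

/-- The permutations of the words. (part 0) -/
noncomputable def permC0 : List (List ℕ) :=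
  [
    [0, 1, 2, 3, 4, 5, 6, 7, 8],
    [4, 2, 7, 3, 6, 8, 0, 5, 1],
    [8, 7, 0, 2, 6, 3, 1, 5, 4],
    [6, 8, 3, 4, 1, 5, 2, 7, 0],
    [5, 1, 8, 2, 6, 7, 3, 0, 4],
    [6, 1, 3, 7, 5, 8, 4, 2, 0],
    [8, 3, 5, 7, 6, 2, 1, 4, 0],
    [8, 0, 1, 6, 4, 7, 5, 3, 2],
    [6, 5, 7, 0, 2, 8, 1, 3, 4],
    [6, 0, 5, 2, 4, 8, 7, 1, 3],
    [0, 4, 7, 1, 6, 8, 2, 3, 5],
    [6, 0, 5, 7, 1, 2, 8, 3, 4],
    [3, 5, 8, 4, 6, 7, 1, 2, 0],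
    [0, 8, 3, 4, 6, 1, 2, 5, 7],
    [5, 0, 8, 2, 4, 6, 1, 3, 7],
    [6, 2, 0, 8, 1, 5, 4, 3, 7]]

/-- The permutations of the words. (part 1) -/
noncomputable def permC1 : List (List ℕ) :=
  [
    [6, 5, 0, 3, 8, 4, 1, 7, 2],
    [6, 5, 0, 1, 7, 3, 4, 2, 8],
    [7, 0, 8, 5, 6, 2, 1, 3, 4],
    [6, 5, 3, 1, 0, 7, 2, 8, 4],
    [1, 4, 2, 5, 6, 0, 8, 7, 3],
    [6, 2, 0, 4, 3, 8, 5, 7, 1],
    [6, 1, 7, 0, 5, 4, 2, 8, 3],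
    [1, 8, 5, 0, 6, 2, 3, 7, 4],
    [6, 0, 3, 1, 2, 8, 5, 4, 7],
    [4, 5, 1, 0, 6, 3, 7, 8, 2],
    [6, 8, 7, 1, 5, 2, 3, 0, 4],
    [6, 1, 4, 5, 2, 8, 0, 7, 3],
    [8, 2, 3, 7, 6, 4, 0, 5, 1],
    [7, 3, 2, 1, 4, 5, 6, 0, 8],
    [3, 2, 0, 1, 6, 4, 8, 7, 5],
    [4, 7, 0, 3, 6, 1, 2, 8, 5]]

/-- The permutations of the words. (part 2) -/
noncomputable def permC2 : List (List ℕ) :=
  [
    [4, 3, 5, 1, 6, 7, 2, 0, 8],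
    [0, 1, 8, 3, 6, 2, 7, 4, 5],
    [4, 0, 5, 3, 8, 1, 6, 2, 7],
    [0, 7, 1, 3, 6, 4, 8, 5, 2],
    [6, 5, 4, 8, 1, 7, 3, 0, 2],
    [4, 5, 3, 8, 2, 0, 6, 7, 1],
    [2, 8, 0, 5, 6, 1, 3, 7, 4],
    [6, 0, 3, 8, 7, 5, 1, 2, 4],
    [7, 5, 4, 8, 6, 3, 1, 2, 0],
    [6, 5, 2, 4, 1, 0, 7, 3, 8],
    [3, 1, 5, 2, 4, 0, 6, 8, 7],
    [8, 2, 4, 3, 6, 7, 1, 0, 5],
    [6, 8, 2, 5, 3, 0, 1, 7, 4],
    [5, 4, 7, 8, 6, 2, 1, 0, 3],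
    [6, 0, 8, 2, 5, 4, 1, 3, 7],
    [1, 0, 7, 4, 6, 5, 8, 3, 2]]

/-- The permutations of the words. (part 3) -/
noncomputable def permC3 : List (List ℕ) :=
  [
    [6, 1, 2, 4, 7, 3, 5, 8, 0],
    [6, 5, 8, 2, 1, 3, 0, 7, 4],
    [7, 5, 3, 4, 6, 8, 0, 1, 2],
    [6, 8, 5, 7, 0, 4, 1, 2, 3],
    [5, 8, 3, 2, 6, 4, 1, 7, 0],
    [6, 4, 0, 1, 5, 8, 7, 3, 2],
    [6, 2, 7, 0, 1, 3, 5, 4, 8],
    [2, 4, 0, 5, 6, 1, 7, 3, 8],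
    [6, 5, 7, 1, 3, 0, 8, 4, 2],
    [2, 0, 7, 5, 6, 8, 4, 1, 3],
    [2, 8, 1, 0, 6, 5, 4, 3, 7],
    [8, 5, 1, 7, 6, 0, 3, 2, 4],
    [6, 1, 2, 5, 8, 4, 3, 0, 7],
    [1, 4, 5, 0, 6, 2, 7, 3, 8],
    [6, 1, 0, 3, 5, 2, 8, 4, 7],
    [2, 7, 3, 5, 4, 0, 6, 1, 8]]

/-- The permutations of the words. (part 4) -/
noncomputable def permC4 : List (List ℕ) :=
  [
    [6, 1, 8, 2, 0, 7, 5, 4, 3],
    [6, 8, 1, 4, 5, 3, 0, 2, 7],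
    [8, 1, 7, 2, 6, 5, 0, 4, 3],
    [5, 3, 2, 7, 6, 8, 4, 0, 1],
    [4, 3, 2, 1, 5, 0, 6, 8, 7],
    [7, 2, 0, 8, 6, 1, 4, 5, 3],
    [6, 0, 1, 4, 8, 7, 5, 3, 2],
    [3, 8, 1, 4, 6, 0, 5, 7, 2],
    [2, 5, 3, 8, 6, 0, 4, 7, 1],
    [6, 5, 3, 2, 8, 1, 7, 4, 0],
    [5, 7, 1, 2, 6, 0, 4, 8, 3],
    [3, 0, 7, 8, 6, 4, 5, 2, 1],
    [6, 1, 4, 0, 7, 5, 8, 3, 2],
    [6, 1, 5, 7, 8, 3, 0, 4, 2],
    [2, 3, 8, 7, 6, 5, 0, 1, 4],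
    [6, 2, 4, 1, 3, 5, 7, 8, 0]]

/-- The permutations of the words. (part 5) -/
noncomputable def permC5 : List (List ℕ) :=
  [
    [4, 0, 3, 2, 1, 7, 6, 5, 8],
    [5, 2, 4, 7, 6, 1, 3, 8, 0],
    [3, 2, 7, 0, 4, 1, 6, 5, 8],
    [0, 7, 2, 1, 6, 5, 4, 8, 3],
    [7, 1, 5, 2, 6, 8, 4, 3, 0],
    [6, 5, 8, 0, 7, 2, 3, 4, 1],
    [6, 5, 1, 4, 0, 2, 8, 7, 3],
    [8, 1, 3, 7, 6, 4, 5, 0, 2],
    [7, 5, 0, 3, 4, 1, 6, 8, 2],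
    [0, 2, 4, 1, 6, 3, 7, 5, 8],
    [4, 0, 2, 5, 7, 8, 6, 3, 1],
    [1, 7, 4, 3, 6, 0, 5, 2, 8],
    [5, 3, 1, 2, 6, 0, 8, 4, 7],
    [6, 4, 8, 1, 0, 5, 3, 2, 7],
    [2, 4, 5, 8, 6, 7, 3, 1, 0],
    [4, 0, 2, 3, 6, 5, 7, 1, 8]]

/-- The permutations of the words. (part 6) -/
noncomputable def permC6 : List (List ℕ) :=
  [
    [1, 5, 3, 0, 6, 4, 8, 2, 7],
    [6, 5, 2, 7, 3, 4, 0, 8, 1],
    [7, 8, 1, 5, 6, 4, 0, 2, 3],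
    [3, 5, 4, 0, 6, 1, 2, 7, 8],
    [7, 0, 4, 8, 6, 3, 2, 1, 5],
    [6, 8, 2, 1, 7, 5, 0, 4, 3],
    [7, 4, 2, 8, 6, 5, 0, 3, 1],
    [6, 5, 4, 3, 0, 8, 7, 2, 1],
    [0, 3, 2, 1, 6, 5, 8, 4, 7],
    [6, 0, 5, 8, 3, 7, 2, 4, 1],
    [4, 2, 3, 1, 6, 0, 5, 8, 7],
    [4, 5, 8, 7, 0, 1, 6, 3, 2],
    [6, 5, 1, 8, 7, 4, 2, 3, 0],
    [6, 1, 5, 3, 2, 0, 7, 8, 4],
    [5, 7, 0, 1, 6, 2, 3, 4, 8],
    [0, 7, 5, 3, 4, 2, 6, 1, 8]]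

/-- The permutations of the words. (part 7) -/
noncomputable def permC7 : List (List ℕ) :=
  [
    [6, 5, 0, 4, 2, 1, 3, 8, 7],
    [1, 3, 8, 0, 6, 7, 5, 4, 2],
    [3, 1, 5, 4, 6, 2, 8, 0, 7],
    [4, 1, 8, 7, 6, 3, 2, 5, 0],
    [6, 5, 2, 0, 8, 7, 4, 1, 3],
    [0, 3, 5, 2, 6, 1, 7, 8, 4],
    [3, 0, 8, 4, 6, 7, 2, 1, 5],
    [0, 8, 3, 7, 4, 1, 6, 2, 5],
    [6, 1, 2, 3, 0, 5, 4, 7, 8],
    [6, 5, 7, 8, 4, 1, 0, 2, 3],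
    [2, 7, 4, 5, 6, 3, 0, 8, 1],
    [4, 1, 0, 5, 3, 7, 6, 8, 2],
    [1, 0, 5, 7, 4, 2, 8, 3, 6],
    [8, 0, 6, 2, 4, 5, 3, 7, 1],
    [6, 4, 5, 1, 8, 0, 2, 7, 3],
    [1, 8, 0, 4, 6, 3, 7, 2, 5]]

/-- The permutations of the words. (part 8) -/
noncomputable def permC8 : List (List ℕ) :=
  [
    [8, 0, 2, 5, 6, 7, 3, 4, 1],
    [7, 0, 8, 6, 4, 1, 2, 5, 3],
    [3, 4, 2, 0, 6, 8, 5, 1, 7],
    [6, 8, 5, 1, 2, 7, 4, 3, 0],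
    [6, 5, 4, 7, 2, 3, 8, 1, 0],
    [4, 1, 7, 3, 6, 8, 5, 0, 2],
    [6, 5, 1, 2, 3, 8, 4, 0, 7]]

/-- The permutations of the words. -/
noncomputable def permC : List (List ℕ) :=
  permC0 ++ permC1 ++ permC2 ++ permC3 ++ permC4 ++ permC5 ++ permC6 ++ permC7 ++ permC8

/-- Sets for the search beyond the first orbit. -/
noncomputable def levelsT : List (List (List ℕ)) :=
  [[], [], [[0, 2, 5, 8, 13, 19, 20, 23], [0, 1, 2, 10, 11, 13, 14, 19], [1, 5, 8, 10, 11, 14, 20, 23]], [[0, 1, 3, 10, 14, 16, 20, 22], [2, 3, 11, 13, 16, 19, 20, 22], [0, 3, 5, 8, 11, 16, 22, 23]], [[1, 2, 14, 16, 18, 19, 20, 23], [0, 4, 13, 14, 18, 19, 20, 22], [0, 1, 2, 4, 13, 16, 22, 23], [0, 1, 5, 8, 13, 14, 16, 18], [1, 4, 5, 8, 16, 19, 20, 22], [2, 4, 5, 8, 14, 18, 22, 23], [5, 9, 13, 16, 18, 19, 22, 23], [1, 2, 5, 9,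 13, 14, 20, 22], [0, 4, 5, 9, 14, 16, 20, 23], [0, 1, 2, 4, 5, 9, 18, 19], [0, 1, 8, 9, 14, 19, 22, 23], [0, 2, 8, 9, 16, 18, 20, 22], [1, 4, 8, 9, 13, 18, 20, 23], [2, 4, 8, 9, 13, 14, 16, 19], [0, 2, 3, 10, 18, 19, 22, 23], [1, 3, 4, 10, 13, 16, 18, 19], [2, 3, 4, 10, 13, 14, 20, 23], [3, 5, 8, 10, 13, 18, 20, 22], [0, 3, 4, 5, 8, 10, 14, 19], [0, 2, 3, 5, 9, 10, 13, 16], [1, 3, 4, 5, 9, 10, 22, 23], [3, 8, 9, 10, 16, 19, 20, 23], [1, 2, 3, 8, 9, 10, 14, 18], [1, 3, 11, 13, 14, 18, 22, 23], [0, 1, 3, 4, 11, 19, 20, 23], [0, 2, 3, 4, 11, 14, 16, 18], [1, 2, 3, 4, 5, 8, 11, 13], [1, 3, 5, 9, 11, 14, 16, 19], [2, 3, 5, 9, 11, 18, 20, 23], [0, 3, 8, 9, 11, 13, 18, 19], [3, 4, 8, 9, 11, 14, 20, 22], [0, 10, 11, 13, 16, 18, 20, 23], [4, 10, 11, 14, 16, 19, 22, 23], [1, 2, 4, 10, 11, 18, 20, 22],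 [2, 5, 8, 10, 11, 16, 18, 19], [0, 5, 9, 10, 11, 19, 20, 22], [4, 5, 9, 10, 11, 13, 14, 18], [2, 8, 9, 10, 11, 13, 22, 23], [0, 1, 4, 8, 9, 10, 11, 16]], [[1, 3, 5, 13, 15, 16, 20, 23], [2, 3, 5, 13, 14, 15, 18, 19], [0, 2, 3, 4, 5, 15, 20, 22]], [[11, 13, 15, 16, 17, 21, 22, 23], [10, 12, 14, 15, 16, 20, 21, 23], [9, 14, 16, 17, 19, 20, 21, 22], [8, 13, 15, 16, 18, 19, 20, 21], [7, 12, 14, 15, 17, 18, 19, 20], [6, 14, 15, 18, 19, 21, 22, 23], [5, 13, 14, 17, 18, 20, 21, 23], [4, 12, 13, 16, 17, 19, 20, 23], [3, 12, 13, 17, 18, 19, 21, 22], [2, 12, 13, 15, 18, 20, 22, 23], [1, 12, 13, 14, 15, 16, 19, 22], [0, 12, 14, 16, 17, 18, 22, 23]]]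

/-- The elements fixing the first representative. (part 0) -/
noncomputable def stabT0 : List (List ℕ) :=
  [
    [0, 1, 2, 10, 3, 4, 6, 12],
    [0, 1, 7, 4, 14, 17, 3, 19],
    [0, 1, 16, 17, 6, 10, 14, 18],
    [0, 3, 7, 10, 4, 1, 17, 2],
    [0, 3, 12, 1, 6, 14, 4, 19],
    [0, 3, 18, 14, 17, 10, 6, 13],
    [0, 4, 2, 3, 17, 6, 1, 19],
    [0, 4, 12, 10, 1, 3, 14, 7],
    [0, 4, 13, 6, 14, 10, 17, 16],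
    [0, 6, 2, 17, 10, 1, 4, 16],
    [0, 6, 18, 1, 14, 3, 10, 12],
    [0, 6, 19, 3, 4, 17, 14, 13],
    [0, 10, 13, 14, 3, 17, 4, 7],
    [0, 10, 16, 6, 4, 14, 1, 12],
    [0, 10, 18, 17, 1, 6, 3, 2],
    [0, 14, 12, 6, 10, 4, 3, 13]]

/-- The elements fixing the first representative. (part 1) -/
noncomputable def stabT1 : List (List ℕ) :=
  [
    [0, 14, 16, 4, 17, 1, 10, 7],
    [0, 14, 19, 1, 3, 6, 17, 18],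
    [0, 17, 7, 14, 10, 3, 1, 18],
    [0, 17, 13, 3, 6, 4, 10, 2],
    [0, 17, 19, 4, 1, 14, 6, 16]]

/-- The elements fixing the first representative. -/
noncomputable def stabT : List (List ℕ) :=
  stabT0 ++ stabT1

/-- The elements by the image of the first representative. (part 0) -/
noncomputable def bucket0 : List (List ℕ) :=
  [
    [0, 3, 6, 9, 12, 15, 18, 21, 24, 27, 30, 33, 36, 39, 42, 45, 48, 51, 54, 57, 60],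
    [63, 66, 69, 72, 75, 78, 81, 84, 87, 90, 93, 96, 99, 102, 105, 108, 111, 114, 117, 120, 123],
    [126, 129, 132, 135, 138, 141, 144, 147, 150, 153, 156, 159, 162, 165, 168, 171, 174, 177, 180, 183, 186],
    [189, 192, 195, 198, 201, 204, 207, 210, 213, 216, 219, 222, 225, 228, 231, 234, 237, 240, 243, 246, 249],
    [252, 255, 258, 261, 264, 267, 270, 273, 276, 279, 282, 285, 288, 291, 294, 297, 300, 303, 306, 309, 312],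
    [65, 68, 71, 74, 77, 80, 83, 86, 89, 92, 95, 98, 101, 104, 107, 110, 113, 116, 119, 122, 125],
    [315, 318, 321, 324, 327, 330, 333, 336, 339, 342, 345, 348, 351, 354, 357, 360, 363, 366, 369, 372, 375],
    [316, 319, 322, 325, 328, 331, 334, 337, 340, 343, 346, 349, 352, 355, 358, 361, 364, 367, 370, 373, 376],
    [127, 130, 133, 136, 139, 142, 145, 148, 151, 154, 157, 160, 163, 166, 169, 172, 175, 178, 181, 184, 187],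
    [254, 257, 260, 263, 266, 269, 272, 275, 278, 281, 284, 287, 290, 293, 296, 299, 302, 305, 308, 311, 314],
    [378, 381, 384, 387, 390, 393, 396, 399, 402, 405, 408, 411, 414, 417, 420, 423, 426, 429, 432, 435, 438],
    [2, 5, 8, 11, 14, 17, 20, 23, 26, 29, 32, 35, 38, 41, 44, 47, 50, 53, 56, 59, 62],
    [441, 444, 447, 450, 453, 456, 459, 462, 465, 468, 471, 474, 477, 480, 483, 486, 489, 492, 495, 498, 501],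
    [64, 67, 70, 73, 76, 79, 82, 85, 88, 91, 94, 97, 100, 103, 106, 109, 112, 115, 118, 121, 124],
    [128, 131, 134, 137, 140, 143, 146, 149, 152, 155, 158, 161, 164, 167, 170, 173, 176, 179, 182, 185, 188],
    [317, 320, 323, 326, 329, 332, 335, 338, 341, 344, 347, 350, 353, 356, 359, 362, 365, 368, 371, 374, 377]]

/-- The elements by the image of the first representative. (part 1) -/
noncomputable def bucket1 : List (List ℕ) :=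
  [
    [190, 193, 196, 199, 202, 205, 208, 211, 214, 217, 220, 223, 226, 229, 232, 235, 238, 241, 244, 247, 250],
    [443, 446, 449, 452, 455, 458, 461, 464, 467, 470, 473, 476, 479, 482, 485, 488, 491, 494, 497, 500, 503],
    [253, 256, 259, 262, 265, 268, 271, 274, 277, 280, 283, 286, 289, 292, 295, 298, 301, 304, 307, 310, 313],
    [379, 382, 385, 388, 391, 394, 397, 400, 403, 406, 409, 412, 415, 418, 421, 424, 427, 430, 433, 436, 439],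
    [1, 4, 7, 10, 13, 16, 19, 22, 25, 28, 31, 34, 37, 40, 43, 46, 49, 52, 55, 58, 61],
    [442, 445, 448, 451, 454, 457, 460, 463, 466, 469, 472, 475, 478, 481, 484, 487, 490, 493, 496, 499, 502],
    [191, 194, 197, 200, 203, 206, 209, 212, 215, 218, 221, 224, 227, 230, 233, 236, 239, 242, 245, 248, 251],
    [380, 383, 386, 389, 392, 395, 398, 401, 404, 407, 410, 413, 416, 419, 422, 425, 428, 431, 434, 437, 440]]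

/-- The elements by the image of the first representative. -/
noncomputable def bucket : List (List ℕ) :=
  bucket0 ++ bucket1

/-- The positions there. -/
noncomputable def bpos : List ℕ :=
  [0, 0, 0, 1, 1, 1, 2, 2, 2, 3, 3, 3, 4, 4, 4, 5, 5, 5, 6, 6, 6, 7, 7, 7, 8, 8, 8, 9, 9, 9, 10, 10, 10, 11, 11, 11, 12, 12, 12, 13, 13, 13, 14, 14, 14, 15, 15, 15, 16, 16, 16, 17, 17, 17, 18, 18, 18, 19, 19, 19, 20, 20, 20, 0, 0, 0, 1, 1, 1, 2, 2, 2, 3, 3, 3, 4, 4, 4, 5, 5, 5, 6, 6, 6, 7, 7, 7, 8, 8, 8, 9, 9, 9, 10, 10, 10, 11, 11, 11, 12, 12, 12, 13, 13, 13, 14, 14, 14, 15, 15, 15, 16, 16, 16, 17, 17, 17, 18, 18, 18, 19, 19, 19, 20, 20, 20, 0, 0, 0, 1, 1, 1, 2, 2, 2, 3, 3, 3, 4, 4, 4, 5, 5, 5, 6, 6, 6, 7, 7, 7, 8, 8, 8, 9, 9, 9, 10, 10, 10, 11, 11, 11, 12, 12, 12, 13, 13, 13, 14, 14, 14, 15, 15, 15, 16,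 16, 16, 17, 17, 17, 18, 18, 18, 19, 19, 19, 20, 20, 20, 0, 0, 0, 1, 1, 1, 2, 2, 2, 3, 3, 3, 4, 4, 4, 5, 5, 5, 6, 6, 6, 7, 7, 7, 8, 8, 8, 9, 9, 9, 10, 10, 10, 11, 11, 11, 12, 12, 12, 13, 13, 13, 14, 14, 14, 15, 15, 15, 16, 16, 16, 17, 17, 17, 18, 18, 18, 19, 19, 19, 20, 20, 20, 0, 0, 0, 1, 1, 1, 2, 2, 2, 3, 3, 3, 4, 4, 4, 5, 5, 5, 6, 6, 6, 7, 7, 7, 8, 8, 8, 9, 9, 9, 10, 10, 10, 11, 11, 11, 12, 12, 12, 13, 13, 13, 14, 14, 14, 15, 15, 15, 16, 16, 16, 17, 17, 17, 18, 18, 18, 19, 19, 19, 20, 20, 20, 0, 0, 0, 1, 1, 1, 2, 2, 2, 3, 3, 3, 4, 4, 4, 5, 5, 5, 6, 6, 6, 7, 7, 7, 8, 8, 8, 9, 9, 9, 10, 10, 10, 11, 11, 11, 12, 12, 12, 13, 13, 13, 14, 14, 14, 15, 15, 15, 16, 16, 16, 17, 17, 17, 18, 18, 18, 19, 19, 19, 20, 20, 20, 0, 0, 0, 1, 1, 1, 2, 2, 2, 3, 3, 3, 4, 4, 4, 5, 5, 5, 6, 6, 6, 7, 7, 7, 8, 8, 8,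 9, 9, 9, 10, 10, 10, 11, 11, 11, 12, 12, 12, 13, 13, 13, 14, 14, 14, 15, 15, 15, 16, 16, 16, 17, 17, 17, 18, 18, 18, 19, 19, 19, 20, 20, 20, 0, 0, 0, 1, 1, 1, 2, 2, 2, 3, 3, 3, 4, 4, 4, 5, 5, 5, 6, 6, 6, 7, 7, 7, 8, 8, 8, 9, 9, 9, 10, 10, 10, 11, 11, 11, 12, 12, 12, 13, 13, 13, 14, 14, 14, 15, 15, 15, 16, 16, 16, 17, 17, 17, 18, 18, 18, 19, 19, 19, 20, 20, 20]

/-- The subspace of the standard class. -/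
noncomputable def i0 : ℕ :=
  6

/-- Transpositions of the generators. (part 0) -/
noncomputable def genW0 : List (List (Fin 9 × Fin 9)) :=
  [
    [(0, 2), (1, 5), (2, 3), (3, 8), (4, 6), (5, 8)],
    [],
    [(0, 2), (1, 2), (3, 7), (7, 8)],
    [(0, 1), (1, 2), (3, 8), (7, 8)],
    [(0, 3), (1, 3), (2, 8), (5, 8)],
    [(0, 8), (1, 3), (2, 8), (3, 7), (5, 8), (7, 8)],
    [(1, 8), (2, 3), (3, 5), (7, 8)],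
    [(0, 5), (2, 3), (3, 7), (5, 8)],
    [(0, 1), (1, 3), (2, 5), (5, 8)],
    [(0, 3), (1, 5), (2, 5), (3, 5), (5, 8), (7, 8)],
    [(0, 8), (2, 7), (3, 7), (5, 8)],
    [(0, 7), (1, 8), (2, 8), (5, 7)],
    [(0, 1), (1, 7), (2, 8), (3, 5), (5, 7), (7, 8)],
    [(0, 8), (1, 5), (3, 8), (5, 7)],
    [(0, 5), (1, 2), (2, 8), (5, 7)],
    [(0, 2), (1, 8), (2, 5), (3, 8), (5, 7), (7, 8)]]

/-- Transpositions of the generators. (part 1) -/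
noncomputable def genW1 : List (List (Fin 9 × Fin 9)) :=
  [
    [(0, 2), (1, 3), (2, 7), (3, 5)],
    [(0, 7), (1, 2), (2, 3), (3, 7), (5, 7), (7, 8)],
    [(0, 3), (1, 7), (3, 8), (5, 7)],
    [(0, 5), (1, 5), (2, 7), (3, 8), (5, 8), (7, 8)],
    [(0, 7), (1, 5), (2, 7), (3, 5)],
    [(1, 7), (2, 5), (3, 5), (7, 8)],
    [(0, 8), (1, 2), (2, 4), (3, 7), (4, 5), (7, 8)],
    [(0, 4), (1, 8), (3, 4), (4, 5), (5, 8), (7, 8)],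
    [(0, 2), (1, 4), (2, 8), (4, 5)],
    [(0, 3), (1, 2), (2, 3), (3, 4), (4, 5), (5, 8)],
    [(0, 2), (1, 2), (2, 3), (4, 5), (5, 8), (7, 8)],
    [(1, 3), (3, 7), (4, 5), (5, 8)],
    [(0, 1), (1, 4), (2, 3), (3, 7), (4, 5), (7, 8)],
    [(0, 3), (2, 4), (3, 8), (4, 5), (5, 8), (7, 8)],
    [(0, 4), (1, 3), (2, 3), (4, 5)],
    [(0, 7), (1, 8), (2, 3), (4, 5)]]

/-- Transpositions of the generators. (part 2) -/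
noncomputable def genW2 : List (List (Fin 9 × Fin 9)) :=
  [
    [(0, 3), (1, 7), (2, 8), (4, 5)],
    [(0, 8), (1, 3), (2, 7), (4, 5)],
    [(0, 1), (1, 2), (2, 7), (3, 7), (4, 5), (5, 7)],
    [(0, 2), (1, 7), (2, 7), (3, 8), (4, 5), (5, 8)],
    [(0, 7), (3, 4), (4, 5), (7, 8)],
    [(0, 7), (1, 7), (2, 4), (4, 5)],
    [(0, 4), (1, 7), (2, 4), (3, 7), (4, 5), (7, 8)],
    [(1, 4), (2, 7), (3, 8), (4, 5), (5, 7), (7, 8)],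
    [(0, 1), (1, 8), (2, 8), (4, 5), (5, 7), (7, 8)],
    [(0, 8), (1, 8), (2, 8), (3, 4), (4, 5), (5, 7)],
    [(2, 8), (3, 8), (4, 5), (5, 7)],
    [(0, 7), (1, 7), (2, 3), (3, 8), (4, 7), (7, 8)],
    [(1, 3), (2, 7), (3, 4), (7, 8)],
    [(0, 3), (1, 7), (2, 3), (4, 7)],
    [(0, 3), (1, 4), (2, 5), (7, 8)],
    [(0, 5), (1, 3), (2, 4), (3, 8), (4, 8), (5, 8)]]

/-- Transpositions of the generators. (part 3) -/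
noncomputable def genW3 : List (List (Fin 9 × Fin 9)) :=
  [
    [(0, 4), (1, 5), (2, 3), (3, 7), (4, 5), (5, 7)],
    [(0, 2), (1, 5), (2, 7), (3, 7), (4, 5), (5, 8)],
    [(0, 7), (1, 2), (2, 5), (4, 5), (5, 8), (7, 8)],
    [(0, 5), (1, 7), (3, 4), (4, 7), (5, 8), (7, 8)],
    [(0, 2), (1, 3), (2, 8), (3, 7), (4, 7), (5, 8)],
    [(0, 8), (1, 2), (2, 3), (3, 4), (5, 8), (7, 8)],
    [(0, 3), (1, 8), (3, 5), (4, 8)],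
    [(0, 2), (1, 4), (3, 8), (5, 7)],
    [(0, 4), (1, 4), (5, 7), (7, 8)],
    [(1, 2), (2, 4), (3, 5), (5, 7)],
    [(0, 5), (1, 5), (2, 8), (3, 8), (4, 5), (7, 8)],
    [(0, 8), (1, 5), (2, 8), (4, 5)],
    [(1, 8), (2, 5), (3, 7), (4, 8), (5, 8), (7, 8)],
    [(0, 7), (1, 4), (2, 8), (3, 5)],
    [(0, 4), (1, 8), (2, 7), (3, 7), (4, 8), (5, 7)],
    [(0, 8), (1, 7), (2, 4), (3, 8), (4, 7), (5, 8)]]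

/-- Transpositions of the generators. (part 4) -/
noncomputable def genW4 : List (List (Fin 9 × Fin 9)) :=
  [
    [(0, 1), (1, 8), (2, 3), (3, 4)],
    [(0, 3), (2, 8), (3, 7), (4, 8)],
    [(0, 8), (1, 3), (2, 3), (3, 8), (4, 8), (7, 8)],
    [(1, 8), (2, 7), (4, 7), (5, 8)],
    [(0, 7), (1, 7), (2, 8), (3, 4), (4, 8), (5, 7)],
    [(0, 8), (1, 7), (2, 8), (3, 5), (4, 8), (5, 7)],
    [(0, 4), (1, 7), (2, 3), (3, 4), (5, 8), (7, 8)],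
    [(0, 3), (1, 4), (2, 7), (3, 5), (4, 7), (5, 8)],
    [(0, 7), (1, 3), (2, 4), (5, 8)],
    [(0, 4), (1, 5), (2, 8), (4, 8), (5, 8), (7, 8)],
    [(0, 5), (1, 8), (2, 4), (3, 7)],
    [(0, 8), (1, 4), (2, 5), (3, 4), (4, 5), (5, 8)],
    [(0, 7), (1, 5), (2, 5), (3, 8), (4, 5), (7, 8)],
    [(0, 1), (1, 7), (2, 5), (4, 5)],
    [(0, 5), (2, 7), (3, 5), (4, 7), (5, 7), (7, 8)],
    [(0, 1), (2, 4), (3, 5), (7, 8)]]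

/-- Transpositions of the generators. (part 5) -/
noncomputable def genW5 : List (List (Fin 9 × Fin 9)) :=
  [
    [(1, 4), (2, 4), (3, 7), (5, 7)],
    [(0, 4), (2, 4), (3, 8), (5, 8)],
    [(1, 5), (2, 3), (3, 5), (4, 5), (5, 7), (7, 8)],
    [(0, 3), (1, 3), (2, 5), (3, 8), (4, 5), (5, 7)],
    [(0, 5), (1, 3), (2, 5), (3, 4), (4, 5), (5, 7)],
    [(0, 4), (1, 7), (2, 7), (4, 8)],
    [(0, 1), (1, 4), (2, 7), (3, 7), (4, 8), (7, 8)],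
    [(0, 7), (2, 4), (3, 7), (4, 8)],
    [(0, 4), (1, 4), (2, 3), (3, 5), (4, 8), (5, 8)],
    [(0, 3), (1, 4), (2, 3), (3, 7), (4, 8), (5, 8)],
    [(1, 3), (2, 4), (3, 4), (4, 8), (5, 8), (7, 8)],
    [(0, 3), (1, 5), (2, 7), (3, 5), (4, 8), (7, 8)],
    [(0, 5), (1, 7), (2, 3), (4, 8)],
    [(0, 7), (1, 3), (2, 5), (3, 4), (4, 8), (5, 7)],
    [(0, 7), (1, 2), (2, 7), (3, 5), (4, 8), (5, 8)],
    [(0, 2), (1, 2), (2, 7), (4, 8), (5, 8), (7, 8)]]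

/-- Transpositions of the generators. (part 6) -/
noncomputable def genW6 : List (List (Fin 9 × Fin 9)) :=
  [
    [(1, 7), (3, 7), (4, 8), (5, 8)],
    [(0, 2), (1, 5), (2, 4), (3, 7), (4, 8), (5, 7)],
    [(0, 4), (1, 2), (2, 5), (3, 5), (4, 8), (7, 8)],
    [(0, 5), (1, 4), (3, 5), (4, 8)],
    [(1, 5), (2, 5), (3, 4), (4, 8)],
    [(0, 1), (2, 5), (3, 7), (4, 8)],
    [(0, 5), (2, 5), (4, 8), (7, 8)],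
    [(0, 3), (1, 2), (4, 8), (5, 7)],
    [(0, 2), (2, 3), (3, 4), (4, 8), (5, 7), (7, 8)],
    [(0, 1), (1, 3), (3, 5), (4, 8), (5, 7), (7, 8)],
    [(0, 8), (1, 2), (2, 7), (4, 8)],
    [(0, 7), (1, 8), (3, 8), (4, 7)],
    [(0, 2), (1, 7), (2, 8), (3, 4), (4, 8), (7, 8)],
    [(0, 4), (1, 5), (2, 7), (3, 8)],
    [(0, 5), (1, 7), (2, 4), (4, 5), (5, 7), (7, 8)],
    [(0, 7), (1, 4), (2, 5), (3, 5), (4, 7), (5, 7)]]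

/-- Transpositions of the generators. (part 7) -/
noncomputable def genW7 : List (List (Fin 9 × Fin 9)) :=
  [
    [(0, 4), (1, 2), (3, 7), (5, 8)],
    [(0, 1), (1, 4), (5, 8), (7, 8)],
    [(0, 2), (2, 4), (3, 5), (5, 8)],
    [(0, 3), (1, 5), (3, 7), (4, 7), (5, 7), (7, 8)],
    [(0, 5), (1, 2), (2, 3), (4, 5)],
    [(0, 2), (1, 3), (2, 5), (3, 8), (4, 5), (7, 8)],
    [(0, 1), (1, 5), (2, 8), (3, 8), (4, 5), (5, 8)],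
    [(0, 5), (1, 8), (2, 8), (3, 4), (4, 5), (7, 8)],
    [(0, 8), (2, 5), (3, 7), (4, 8), (5, 7), (7, 8)],
    [(0, 1), (1, 7), (2, 3), (3, 8), (4, 7), (5, 8)],
    [(0, 3), (2, 7), (3, 4), (5, 7)],
    [(0, 7), (1, 3), (2, 3), (3, 5), (4, 7), (7, 8)],
    [(0, 3), (1, 8), (2, 4), (3, 4), (5, 7), (7, 8)],
    [(0, 8), (1, 4), (2, 3), (3, 5), (4, 8), (5, 7)],
    [(0, 4), (1, 3), (2, 8), (5, 7)],
    [(0, 3), (1, 2), (2, 4), (3, 4), (4, 7), (7, 8)]]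

/-- Transpositions of the generators. (part 8) -/
noncomputable def genW8 : List (List (Fin 9 × Fin 9)) :=
  [
    [(0, 2), (1, 4), (2, 3), (4, 7)],
    [(0, 4), (1, 3), (3, 8), (4, 7)],
    [(0, 8), (1, 5), (2, 3), (4, 7)],
    [(0, 3), (1, 8), (2, 5), (3, 4), (4, 7), (5, 8)],
    [(0, 5), (1, 3), (2, 8), (3, 5), (4, 7), (7, 8)],
    [(1, 5), (2, 4), (4, 7), (5, 8)],
    [(0, 4), (1, 4), (2, 5), (3, 5), (4, 7), (5, 8)],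
    [(0, 5), (1, 4), (2, 5), (3, 4), (4, 7), (5, 8)],
    [(0, 1), (1, 5), (3, 4), (4, 7)],
    [(0, 5), (1, 2), (3, 8), (4, 7)],
    [(0, 2), (2, 5), (4, 7), (7, 8)],
    [(0, 3), (1, 3), (2, 3), (3, 5), (4, 7), (5, 7)],
    [(2, 3), (3, 8), (4, 7), (5, 7)],
    [(0, 1), (1, 3), (2, 3), (4, 7), (5, 7), (7, 8)],
    [(1, 2), (2, 8), (3, 4), (4, 7), (5, 7), (7, 8)],
    [(0, 2), (1, 8), (3, 5), (4, 7)]]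

/-- Transpositions of the generators. (part 9) -/
noncomputable def genW9 : List (List (Fin 9 × Fin 9)) :=
  [
    [(0, 8), (1, 8), (3, 8), (4, 7), (5, 8), (7, 8)],
    [(0, 1), (1, 8), (2, 4), (3, 8), (4, 7), (5, 7)],
    [(0, 8), (1, 4), (2, 4), (4, 7), (5, 7), (7, 8)],
    [(0, 4), (2, 8), (3, 5), (4, 7), (5, 8), (7, 8)],
    [(1, 4), (2, 8), (3, 4), (7, 8)],
    [(0, 8), (1, 8), (2, 4), (3, 4)],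
    [(0, 4), (1, 8), (2, 4), (3, 7), (4, 7), (7, 8)],
    [(0, 7), (1, 5), (2, 8), (3, 7), (4, 7), (5, 8)],
    [(0, 5), (1, 8), (2, 7), (3, 8), (4, 8), (5, 7)],
    [(0, 8), (1, 7), (2, 5), (3, 4)],
    [(0, 7), (2, 7), (3, 7), (4, 7), (5, 8), (7, 8)],
    [(0, 1), (2, 7), (3, 4), (5, 8)],
    [(1, 7), (2, 7), (3, 5), (4, 5), (5, 8), (7, 8)],
    [(0, 7), (1, 4), (3, 8), (4, 8), (5, 7), (7, 8)],
    [(0, 4), (1, 2), (2, 7), (3, 5), (4, 5), (7, 8)],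
    [(0, 2), (1, 7), (2, 4), (3, 7), (4, 7), (5, 7)]]

/-- Transpositions of the generators. (part 10) -/
noncomputable def genW10 : List (List (Fin 9 × Fin 9)) :=
  [
    [(0, 5), (1, 4), (2, 4), (3, 4), (5, 7), (7, 8)],
    [(0, 4), (2, 5), (3, 4), (5, 7)],
    [(0, 1), (1, 5), (2, 4), (3, 8), (4, 8), (5, 7)],
    [(0, 8), (3, 5), (4, 5), (7, 8)],
    [(0, 1), (1, 2), (2, 8), (3, 7), (4, 7), (5, 7)],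
    [(0, 2), (1, 8), (2, 8), (3, 8), (4, 8), (5, 8)],
    [(0, 5), (1, 5), (3, 7), (4, 7)],
    [(0, 2), (1, 5), (3, 4), (7, 8)],
    [(1, 2), (2, 5), (3, 8), (4, 8)],
    [],
    [(0, 3), (1, 4), (2, 8), (5, 7)],
    [(0, 5), (1, 2), (3, 7), (4, 8)],
    [(0, 7), (1, 8), (2, 4), (3, 5)],
    [(0, 8), (1, 7), (2, 3), (4, 5)],
    [(0, 2), (1, 5), (3, 8), (4, 7)],
    [(0, 4), (1, 3), (2, 7), (5, 8)]]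

/-- Transpositions of the generators. (part 11) -/
noncomputable def genW11 : List (List (Fin 9 × Fin 9)) :=
  [
    [(0, 1), (2, 5), (3, 4), (7, 8)],
    [(0, 1), (2, 5), (3, 4), (7, 8)],
    [(0, 4), (1, 3), (2, 7), (5, 8)],
    [(0, 2), (1, 5), (3, 8), (4, 7)],
    [(0, 8), (1, 7), (2, 3), (4, 5)],
    [(0, 7), (1, 8), (2, 4), (3, 5)],
    [(0, 5), (1, 2), (3, 7), (4, 8)],
    [(0, 3), (1, 4), (2, 8), (5, 7)],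
    []]

/-- Transpositions of the generators. -/
noncomputable def genW : List (List (Fin 9 × Fin 9)) :=
  genW0 ++ genW1 ++ genW2 ++ genW3 ++ genW4 ++ genW5 ++ genW6 ++ genW7 ++ genW8 ++ genW9 ++ genW10 ++ genW11

/-- The pairs of subspaces. -/
noncomputable def pairs : List (Fin 9 × Fin 9) :=
  [(0, 1), (0, 2), (0, 3), (0, 4), (0, 5), (0, 6), (0, 7), (0, 8), (1, 2), (1, 3), (1, 4), (1, 5), (1, 6), (1, 7), (1, 8), (2, 3), (2, 4), (2, 5), (2, 6), (2, 7), (2, 8), (3, 4), (3, 5), (3, 6), (3, 7), (3, 8), (4, 5), (4, 6), (4, 7), (4, 8), (5, 6), (5, 7), (5, 8), (6, 7), (6, 8), (7, 8)]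

/-- Elements inducing products of two transpositions. (part 0) -/
noncomputable def pairD0 : List (List ℕ) :=
  [
    [0, 0, 0],
    [63, 7, 162],
    [88, 6, 119],
    [90, 5, 24],
    [68, 5, 68],
    [49, 0, 87],
    [107, 5, 63],
    [111, 2, 88],
    [68, 6, 10],
    [90, 6, 15],
    [88, 5, 42],
    [63, 4, 23],
    [51, 0, 38],
    [111, 5, 136],
    [107, 1, 162],
    [107, 7, 51]]

/-- Elements inducing products of two transpositions. (part 1) -/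
noncomputable def pairD1 : List (List ℕ) :=
  [
    [111, 0, 36],
    [0, 5, 136],
    [22, 7, 79],
    [88, 3, 70],
    [90, 0, 119],
    [0, 1, 125],
    [111, 7, 162],
    [125, 1, 54],
    [63, 0, 19],
    [68, 0, 114],
    [107, 3, 102],
    [134, 3, 133],
    [68, 3, 46],
    [63, 3, 43],
    [24, 7, 87],
    [90, 3, 144]]

/-- Elements inducing products of two transpositions. (part 2) -/
noncomputable def pairD2 : List (List ℕ) :=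
  [
    [88, 0, 13],
    [73, 4, 55],
    [76, 7, 38],
    [0, 4, 30]]

/-- Elements inducing products of two transpositions. -/
noncomputable def pairD : List (List ℕ) :=
  pairD0 ++ pairD1 ++ pairD2

/-- A Sylow 3-subgroup. (part 0) -/
noncomputable def sylL0 : List (List ℕ) :=
  [
    [0, 1, 2, 3, 4, 5, 6, 7, 8, 9, 10, 11, 12, 13, 14, 15, 16, 17, 18, 19, 20, 21, 22, 23],
    [0, 1, 13, 16, 7, 8, 12, 15, 23, 17, 10, 11, 21, 19, 14, 4, 22, 18, 9, 2, 20, 6, 3, 5],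
    [0, 1, 19, 22, 15, 23, 21, 4, 5, 18, 10, 11, 6, 2, 14, 7, 3, 9, 17, 13, 20, 12, 16, 8],
    [0, 10, 2, 22, 9, 8, 15, 17, 23, 12, 14, 11, 4, 13, 1, 18, 3, 21, 6, 19, 20, 7, 16, 5],
    [0, 10, 13, 3, 17, 23, 4, 18, 5, 21, 14, 11, 7, 19, 1, 9, 16, 6, 12, 2, 20, 15, 22, 8],
    [0, 10, 19, 16, 18, 5, 7, 9, 8, 6, 14, 11, 15, 2, 1, 17, 22, 12, 21, 13, 20, 4, 3, 23],
    [0, 14, 2, 16, 12, 23, 18, 21, 5, 4, 1, 11, 9, 13, 10, 6, 22, 7, 15, 19, 20, 17, 3, 8],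
    [0, 14, 13, 22, 21, 5, 9, 6, 8, 7, 1, 11, 17, 19, 10, 12, 3, 15, 4, 2, 20, 18, 16, 23],
    [0, 14, 19, 3, 6, 8, 17, 12, 23, 15, 1, 11, 18, 2, 10, 21, 16, 4, 7, 13, 20, 9, 22, 5],
    [11, 5, 1, 3, 6, 2, 17, 7, 19, 21, 23, 20, 12, 10, 8, 9, 16, 4, 18, 14, 0, 15, 22, 13],
    [11, 5, 10, 16, 7, 19, 12, 9, 13, 4, 23, 20, 15, 14, 8, 6, 22, 18, 21, 1, 0, 17, 3, 2],
    [11, 5, 14, 22, 9, 13, 15, 6, 2, 18, 23, 20, 17, 1, 8, 7, 3, 21, 4, 10, 0, 12, 16, 19],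
    [11, 8, 1, 16, 12, 13, 18, 15, 2, 6, 5, 20, 21, 10, 23, 17, 22, 7, 9, 14, 0, 4, 3, 19],
    [11, 8, 10, 22, 15, 2, 21, 17, 19, 7, 5, 20, 4, 14, 23, 12, 3, 9, 6, 1, 0, 18, 16, 13],
    [11, 8, 14, 3, 17, 19, 4, 12, 13, 9, 5, 20, 18, 1, 23, 15, 16, 6, 7, 10, 0, 21, 22, 2],
    [11, 23, 1, 22, 21, 19, 9, 4, 13, 12, 8, 20, 6, 10, 5, 18, 3, 15, 17, 14, 0, 7, 16, 2]]

/-- A Sylow 3-subgroup. (part 1) -/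
noncomputable def sylL1 : List (List ℕ) :=
  [
    [11, 23, 10, 3, 4, 13, 6, 18, 2, 15, 8, 20, 7, 14, 5, 21, 16, 17, 12, 1, 0, 9, 22, 19],
    [11, 23, 14, 16, 18, 2, 7, 21, 19, 17, 8, 20, 9, 1, 5, 4, 22, 12, 15, 10, 0, 6, 3, 13],
    [20, 2, 5, 3, 17, 1, 4, 7, 14, 15, 13, 0, 12, 23, 19, 21, 16, 6, 18, 8, 11, 9, 22, 10],
    [20, 2, 8, 22, 21, 10, 9, 17, 1, 18, 13, 0, 4, 5, 19, 7, 3, 15, 6, 23, 11, 12, 16, 14],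
    [20, 2, 23, 16, 7, 14, 12, 21, 10, 6, 13, 0, 9, 8, 19, 17, 22, 18, 15, 5, 11, 4, 3, 1],
    [20, 13, 5, 22, 15, 14, 21, 6, 10, 12, 19, 0, 17, 23, 2, 18, 3, 9, 4, 8, 11, 7, 16, 1],
    [20, 13, 8, 16, 18, 1, 7, 15, 14, 4, 19, 0, 21, 5, 2, 6, 22, 12, 9, 23, 11, 17, 3, 10],
    [20, 13, 23, 3, 6, 10, 17, 18, 1, 9, 19, 0, 7, 8, 2, 15, 16, 4, 12, 5, 11, 21, 22, 14],
    [20, 19, 5, 16, 12, 10, 18, 9, 1, 17, 2, 0, 15, 23, 13, 4, 22, 7, 21, 8, 11, 6, 3, 14],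
    [20, 19, 8, 3, 4, 14, 6, 12, 10, 21, 2, 0, 18, 5, 13, 9, 16, 17, 7, 23, 11, 15, 22, 1],
    [20, 19, 23, 22, 9, 1, 15, 4, 14, 7, 2, 0, 6, 8, 13, 12, 3, 21, 17, 5, 11, 18, 16, 10]]

/-- A Sylow 3-subgroup. -/
noncomputable def sylL : List (List ℕ) :=
  sylL0 ++ sylL1

/-- The inverses. (part 0) -/
noncomputable def sylI0 : List (List ℕ) :=
  [
    [0, 1, 2, 3, 4, 5, 6, 7, 8, 9, 10, 11, 12, 13, 14, 15, 16, 17, 18, 19, 20, 21, 22, 23],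
    [0, 1, 19, 22, 15, 23, 21, 4, 5, 18, 10, 11, 6, 2, 14, 7, 3, 9, 17, 13, 20, 12, 16, 8],
    [0, 1, 13, 16, 7, 8, 12, 15, 23, 17, 10, 11, 21, 19, 14, 4, 22, 18, 9, 2, 20, 6, 3, 5],
    [0, 14, 2, 16, 12, 23, 18, 21, 5, 4, 1, 11, 9, 13, 10, 6, 22, 7, 15, 19, 20, 17, 3, 8],
    [0, 14, 19, 3, 6, 8, 17, 12, 23, 15, 1, 11, 18, 2, 10, 21, 16, 4, 7, 13, 20, 9, 22, 5],
    [0, 14, 13, 22, 21, 5, 9, 6, 8, 7, 1, 11, 17, 19, 10, 12, 3, 15, 4, 2, 20, 18, 16, 23],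
    [0, 10, 2, 22, 9, 8, 15, 17, 23, 12, 14, 11, 4, 13, 1, 18, 3, 21, 6, 19, 20, 7, 16, 5],
    [0, 10, 19, 16, 18, 5, 7, 9, 8, 6, 14, 11, 15, 2, 1, 17, 22, 12, 21, 13, 20, 4, 3, 23],
    [0, 10, 13, 3, 17, 23, 4, 18, 5, 21, 14, 11, 7, 19, 1, 9, 16, 6, 12, 2, 20, 15, 22, 8],
    [20, 2, 5, 3, 17, 1, 4, 7, 14, 15, 13, 0, 12, 23, 19, 21, 16, 6, 18, 8, 11, 9, 22, 10],
    [20, 19, 23, 22, 9, 1, 15, 4, 14, 7, 2, 0, 6, 8, 13, 12, 3, 21, 17, 5, 11, 18, 16, 10],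
    [20, 13, 8, 16, 18, 1, 7, 15, 14, 4, 19, 0, 21, 5, 2, 6, 22, 12, 9, 23, 11, 17, 3, 10],
    [20, 2, 8, 22, 21, 10, 9, 17, 1, 18, 13, 0, 4, 5, 19, 7, 3, 15, 6, 23, 11, 12, 16, 14],
    [20, 19, 5, 16, 12, 10, 18, 9, 1, 17, 2, 0, 15, 23, 13, 4, 22, 7, 21, 8, 11, 6, 3, 14],
    [20, 13, 23, 3, 6, 10, 17, 18, 1, 9, 19, 0, 7, 8, 2, 15, 16, 4, 12, 5, 11, 21, 22, 14],
    [20, 2, 23, 16, 7, 14, 12, 21, 10, 6, 13, 0, 9, 8, 19, 17, 22, 18, 15, 5, 11, 4, 3, 1]]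

/-- The inverses. (part 1) -/
noncomputable def sylI1 : List (List ℕ) :=
  [
    [20, 19, 8, 3, 4, 14, 6, 12, 10, 21, 2, 0, 18, 5, 13, 9, 16, 17, 7, 23, 11, 15, 22, 1],
    [20, 13, 5, 22, 15, 14, 21, 6, 10, 12, 19, 0, 17, 23, 2, 18, 3, 9, 4, 8, 11, 7, 16, 1],
    [11, 5, 1, 3, 6, 2, 17, 7, 19, 21, 23, 20, 12, 10, 8, 9, 16, 4, 18, 14, 0, 15, 22, 13],
    [11, 8, 1, 16, 12, 13, 18, 15, 2, 6, 5, 20, 21, 10, 23, 17, 22, 7, 9, 14, 0, 4, 3, 19],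
    [11, 23, 1, 22, 21, 19, 9, 4, 13, 12, 8, 20, 6, 10, 5, 18, 3, 15, 17, 14, 0, 7, 16, 2],
    [11, 23, 14, 16, 18, 2, 7, 21, 19, 17, 8, 20, 9, 1, 5, 4, 22, 12, 15, 10, 0, 6, 3, 13],
    [11, 5, 14, 22, 9, 13, 15, 6, 2, 18, 23, 20, 17, 1, 8, 7, 3, 21, 4, 10, 0, 12, 16, 19],
    [11, 8, 14, 3, 17, 19, 4, 12, 13, 9, 5, 20, 18, 1, 23, 15, 16, 6, 7, 10, 0, 21, 22, 2],
    [11, 8, 10, 22, 15, 2, 21, 17, 19, 7, 5, 20, 4, 14, 23, 12, 3, 9, 6, 1, 0, 18, 16, 13],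
    [11, 23, 10, 3, 4, 13, 6, 18, 2, 15, 8, 20, 7, 14, 5, 21, 16, 17, 12, 1, 0, 9, 22, 19],
    [11, 5, 10, 16, 7, 19, 12, 9, 13, 4, 23, 20, 15, 14, 8, 6, 22, 18, 21, 1, 0, 17, 3, 2]]

/-- The inverses. -/
noncomputable def sylI : List (List ℕ) :=
  sylI0 ++ sylI1

/-- Its multiplication table. (part 0) -/
noncomputable def sylMul0 : List (List ℕ) :=
  [
    [0, 1, 2, 3, 4, 5, 6, 7, 8, 9, 10, 11, 12, 13, 14, 15, 16, 17, 18, 19, 20, 21, 22, 23, 24, 25, 26],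
    [1, 2, 0, 4, 5, 3, 7, 8, 6, 12, 13, 14, 15, 16, 17, 9, 10, 11, 22, 23, 21, 25, 26, 24, 19, 20, 18],
    [2, 0, 1, 5, 3, 4, 8, 6, 7, 15, 16, 17, 9, 10, 11, 12, 13, 14, 26, 24, 25, 20, 18, 19, 23, 21, 22],
    [3, 4, 5, 6, 7, 8, 0, 1, 2, 13, 14, 12, 16, 17, 15, 10, 11, 9, 19, 20, 18, 22, 23, 21, 25, 26, 24],
    [4, 5, 3, 7, 8, 6, 1, 2, 0, 16, 17, 15, 10, 11, 9, 13, 14, 12, 23, 21, 22, 26, 24, 25, 20, 18, 19],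
    [5, 3, 4, 8, 6, 7, 2, 0, 1, 10, 11, 9, 13, 14, 12, 16, 17, 15, 24, 25, 26, 18, 19, 20, 21, 22, 23],
    [6, 7, 8, 0, 1, 2, 3, 4, 5, 17, 15, 16, 11, 9, 10, 14, 12, 13, 20, 18, 19, 23, 21, 22, 26, 24, 25],
    [7, 8, 6, 1, 2, 0, 4, 5, 3, 11, 9, 10, 14, 12, 13, 17, 15, 16, 21, 22, 23, 24, 25, 26, 18, 19, 20],
    [8, 6, 7, 2, 0, 1, 5, 3, 4, 14, 12, 13, 17, 15, 16, 11, 9, 10, 25, 26, 24, 19, 20, 18, 22, 23, 21],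
    [9, 10, 11, 15, 16, 17, 12, 13, 14, 18, 20, 19, 24, 26, 25, 21, 23, 22, 0, 2, 1, 3, 5, 4, 6, 8, 7],
    [10, 11, 9, 16, 17, 15, 13, 14, 12, 24, 26, 25, 21, 23, 22, 18, 20, 19, 5, 4, 3, 8, 7, 6, 2, 1, 0],
    [11, 9, 10, 17, 15, 16, 14, 12, 13, 21, 23, 22, 18, 20, 19, 24, 26, 25, 7, 6, 8, 1, 0, 2, 4, 3, 5],
    [12, 13, 14, 9, 10, 11, 15, 16, 17, 22, 21, 23, 19, 18, 20, 25, 24, 26, 1, 0, 2, 4, 3, 5, 7, 6, 8],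
    [13, 14, 12, 10, 11, 9, 16, 17, 15, 19, 18, 20, 25, 24, 26, 22, 21, 23, 3, 5, 4, 6, 8, 7, 0, 2, 1],
    [14, 12, 13, 11, 9, 10, 17, 15, 16, 25, 24, 26, 22, 21, 23, 19, 18, 20, 8, 7, 6, 2, 1, 0, 5, 4, 3],
    [15, 16, 17, 12, 13, 14, 9, 10, 11, 26, 25, 24, 23, 22, 21, 20, 19, 18, 2, 1, 0, 5, 4, 3, 8, 7, 6]]

/-- Its multiplication table. (part 1) -/
noncomputable def sylMul1 : List (List ℕ) :=
  [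
    [16, 17, 15, 13, 14, 12, 10, 11, 9, 23, 22, 21, 20, 19, 18, 26, 25, 24, 4, 3, 5, 7, 6, 8, 1, 0, 2],
    [17, 15, 16, 14, 12, 13, 11, 9, 10, 20, 19, 18, 26, 25, 24, 23, 22, 21, 6, 8, 7, 0, 2, 1, 3, 5, 4],
    [18, 20, 19, 21, 23, 22, 24, 26, 25, 0, 1, 2, 6, 7, 8, 3, 4, 5, 9, 11, 10, 15, 17, 16, 12, 14, 13],
    [19, 18, 20, 22, 21, 23, 25, 24, 26, 3, 4, 5, 0, 1, 2, 6, 7, 8, 13, 12, 14, 10, 9, 11, 16, 15, 17],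
    [20, 19, 18, 23, 22, 21, 26, 25, 24, 6, 7, 8, 3, 4, 5, 0, 1, 2, 17, 16, 15, 14, 13, 12, 11, 10, 9],
    [21, 23, 22, 24, 26, 25, 18, 20, 19, 7, 8, 6, 4, 5, 3, 1, 2, 0, 11, 10, 9, 17, 16, 15, 14, 13, 12],
    [22, 21, 23, 25, 24, 26, 19, 18, 20, 1, 2, 0, 7, 8, 6, 4, 5, 3, 12, 14, 13, 9, 11, 10, 15, 17, 16],
    [23, 22, 21, 26, 25, 24, 20, 19, 18, 4, 5, 3, 1, 2, 0, 7, 8, 6, 16, 15, 17, 13, 12, 14, 10, 9, 11],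
    [24, 26, 25, 18, 20, 19, 21, 23, 22, 5, 3, 4, 2, 0, 1, 8, 6, 7, 10, 9, 11, 16, 15, 17, 13, 12, 14],
    [25, 24, 26, 19, 18, 20, 22, 21, 23, 8, 6, 7, 5, 3, 4, 2, 0, 1, 14, 13, 12, 11, 10, 9, 17, 16, 15],
    [26, 25, 24, 20, 19, 18, 23, 22, 21, 2, 0, 1, 8, 6, 7, 5, 3, 4, 15, 17, 16, 12, 14, 13, 9, 11, 10]]

/-- Its multiplication table. -/
noncomputable def sylMul : List (List ℕ) :=
  sylMul0 ++ sylMul1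

/-- Conjugating code permutations. (part 0) -/
noncomputable def sylC0 : List (List ℕ) :=
  [
    [0, 1, 2, 3, 4, 5, 6, 7, 8, 9, 10, 11, 12, 13, 14, 15, 16, 17, 18, 19, 20, 21, 22, 23],
    [0, 9, 5, 1, 15, 19, 7, 22, 13, 6, 17, 10, 16, 8, 18, 21, 11, 4, 3, 23, 20, 12, 14, 2],
    [0, 9, 23, 1, 7, 12, 15, 3, 21, 2, 18, 10, 16, 8, 17, 13, 11, 4, 22, 5, 14, 19, 20, 6],
    [0, 5, 3, 2, 7, 14, 21, 6, 10, 12, 8, 11, 18, 22, 23, 9, 13, 17, 15, 16, 20, 4, 19, 1],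
    [0, 1, 2, 3, 4, 5, 6, 7, 8, 9, 10, 11, 12, 13, 14, 15, 16, 17, 18, 19, 20, 21, 22, 23],
    [0, 12, 1, 5, 6, 18, 9, 2, 4, 3, 15, 8, 13, 10, 17, 22, 11, 7, 19, 14, 23, 16, 20, 21],
    [0, 5, 16, 2, 21, 4, 7, 15, 9, 1, 23, 11, 18, 22, 8, 10, 13, 17, 6, 3, 19, 14, 20, 12],
    [0, 12, 14, 5, 9, 16, 6, 19, 22, 21, 17, 8, 13, 10, 15, 4, 11, 7, 2, 1, 20, 18, 23, 3],
    [0, 1, 2, 3, 4, 5, 6, 7, 8, 9, 10, 11, 12, 13, 14, 15, 16, 17, 18, 19, 20, 21, 22, 23],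
    [3, 8, 15, 7, 5, 17, 1, 20, 6, 13, 19, 12, 11, 9, 14, 23, 16, 2, 0, 21, 22, 10, 18, 4],
    [0, 3, 7, 6, 5, 22, 17, 18, 9, 1, 8, 20, 2, 16, 4, 21, 12, 23, 19, 13, 11, 10, 15, 14],
    [0, 5, 2, 22, 9, 1, 15, 7, 14, 4, 23, 20, 12, 13, 8, 6, 16, 21, 18, 19, 11, 17, 3, 10],
    [0, 5, 9, 23, 12, 10, 16, 22, 6, 4, 7, 20, 2, 13, 18, 3, 19, 8, 21, 15, 11, 1, 14, 17],
    [0, 3, 9, 6, 5, 16, 4, 15, 7, 10, 23, 20, 19, 22, 17, 12, 21, 8, 2, 13, 11, 1, 18, 14],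
    [3, 1, 7, 9, 19, 11, 5, 4, 0, 2, 8, 15, 6, 12, 13, 23, 16, 10, 17, 18, 22, 14, 21, 20],
    [0, 5, 3, 12, 23, 14, 8, 13, 22, 1, 18, 20, 4, 19, 16, 10, 6, 7, 2, 17, 11, 21, 9, 15]]

/-- Conjugating code permutations. (part 1) -/
noncomputable def sylC1 : List (List ℕ) :=
  [
    [3, 5, 20, 4, 19, 7, 23, 9, 12, 8, 13, 6, 21, 0, 14, 10, 16, 1, 15, 11, 22, 2, 17, 18],
    [0, 5, 3, 21, 8, 14, 23, 13, 16, 10, 15, 20, 17, 2, 22, 1, 6, 9, 19, 4, 11, 12, 7, 18],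
    [3, 8, 21, 7, 1, 10, 5, 0, 23, 4, 14, 12, 11, 9, 19, 6, 16, 2, 20, 15, 18, 17, 22, 13],
    [0, 1, 13, 3, 4, 8, 17, 15, 5, 12, 14, 11, 9, 2, 10, 7, 22, 6, 21, 19, 20, 18, 16, 23],
    [0, 1, 3, 21, 10, 23, 14, 19, 16, 8, 9, 11, 17, 2, 22, 5, 4, 15, 13, 6, 20, 18, 7, 12],
    [0, 1, 3, 18, 14, 23, 10, 19, 22, 5, 12, 11, 6, 13, 16, 8, 4, 7, 2, 17, 20, 21, 15, 9],
    [0, 1, 2, 3, 4, 5, 6, 7, 8, 9, 10, 11, 12, 13, 14, 15, 16, 17, 18, 19, 20, 21, 22, 23],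
    [3, 1, 18, 9, 5, 14, 19, 17, 23, 20, 13, 15, 6, 12, 8, 0, 16, 10, 4, 7, 21, 11, 22, 2],
    [0, 1, 13, 16, 7, 8, 12, 15, 23, 17, 10, 11, 21, 19, 14, 4, 22, 18, 9, 2, 20, 6, 3, 5],
    [3, 5, 11, 4, 23, 2, 19, 15, 10, 18, 14, 6, 21, 0, 13, 12, 16, 1, 9, 20, 17, 7, 22, 8],
    [0, 1, 2, 22, 15, 5, 9, 7, 23, 6, 14, 11, 18, 19, 10, 4, 16, 21, 12, 13, 20, 17, 3, 8]]

/-- Conjugating code permutations. -/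
noncomputable def sylC : List (List ℕ) :=
  sylC0 ++ sylC1

/-- Their inverses. (part 0) -/
noncomputable def sylCI0 : List (List ℕ) :=
  [
    [0, 1, 2, 3, 4, 5, 6, 7, 8, 9, 10, 11, 12, 13, 14, 15, 16, 17, 18, 19, 20, 21, 22, 23],
    [0, 3, 23, 18, 17, 2, 9, 6, 13, 1, 11, 16, 21, 8, 22, 4, 12, 10, 14, 5, 20, 15, 7, 19],
    [0, 3, 9, 7, 17, 19, 23, 4, 13, 1, 11, 16, 5, 15, 20, 6, 12, 14, 10, 21, 22, 8, 18, 2],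
    [0, 23, 3, 2, 21, 1, 7, 4, 10, 15, 8, 11, 9, 16, 5, 18, 19, 17, 12, 22, 20, 6, 13, 14],
    [0, 1, 2, 3, 4, 5, 6, 7, 8, 9, 10, 11, 12, 13, 14, 15, 16, 17, 18, 19, 20, 21, 22, 23],
    [0, 2, 7, 9, 8, 3, 4, 17, 11, 6, 13, 16, 1, 12, 19, 10, 21, 14, 5, 18, 22, 23, 15, 20],
    [0, 9, 3, 19, 5, 1, 18, 6, 14, 8, 15, 11, 23, 16, 21, 7, 2, 17, 12, 20, 22, 4, 13, 10],
    [0, 19, 18, 23, 15, 3, 6, 17, 11, 4, 13, 16, 1, 12, 2, 14, 5, 10, 21, 7, 20, 9, 8, 22],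
    [0, 1, 2, 3, 4, 5, 6, 7, 8, 9, 10, 11, 12, 13, 14, 15, 16, 17, 18, 19, 20, 21, 22, 23],
    [18, 6, 17, 0, 23, 4, 8, 3, 1, 13, 21, 12, 11, 9, 14, 2, 16, 5, 22, 10, 7, 19, 20, 15],
    [0, 9, 12, 1, 14, 4, 3, 2, 10, 8, 21, 20, 16, 19, 23, 22, 13, 6, 7, 18, 11, 15, 5, 17],
    [0, 5, 2, 22, 9, 1, 15, 7, 14, 4, 23, 20, 12, 13, 8, 6, 16, 21, 18, 19, 11, 17, 3, 10],
    [0, 21, 12, 15, 9, 1, 8, 10, 17, 2, 5, 20, 4, 13, 22, 19, 6, 23, 14, 16, 11, 18, 7, 3],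
    [0, 21, 18, 1, 6, 4, 3, 8, 17, 2, 9, 20, 15, 19, 23, 7, 5, 14, 22, 12, 11, 16, 13, 10],
    [8, 1, 9, 0, 7, 6, 12, 2, 10, 3, 17, 5, 13, 14, 21, 11, 16, 18, 19, 4, 23, 22, 20, 15],
    [0, 9, 18, 2, 12, 1, 16, 17, 6, 22, 15, 20, 3, 7, 5, 23, 14, 19, 10, 13, 11, 21, 8, 4]]

/-- Their inverses. (part 1) -/
noncomputable def sylCI1 : List (List ℕ) :=
  [
    [13, 17, 21, 0, 3, 1, 11, 5, 9, 7, 15, 19, 8, 10, 14, 18, 16, 22, 23, 4, 2, 12, 20, 6],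
    [0, 15, 13, 2, 19, 1, 16, 22, 4, 17, 9, 20, 21, 7, 5, 10, 8, 12, 23, 18, 11, 3, 14, 6],
    [7, 4, 17, 0, 9, 6, 15, 3, 1, 13, 5, 12, 11, 23, 10, 19, 16, 21, 20, 14, 18, 2, 22, 8],
    [0, 1, 13, 3, 4, 8, 17, 15, 5, 12, 14, 11, 9, 2, 10, 7, 22, 6, 21, 19, 20, 18, 16, 23],
    [0, 1, 13, 2, 16, 15, 19, 22, 9, 10, 4, 11, 23, 18, 6, 17, 8, 12, 21, 7, 20, 3, 14, 5],
    [0, 1, 18, 2, 16, 9, 12, 17, 15, 23, 6, 11, 10, 13, 4, 22, 14, 19, 3, 7, 20, 21, 8, 5],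
    [0, 1, 2, 3, 4, 5, 6, 7, 8, 9, 10, 11, 12, 13, 14, 15, 16, 17, 18, 19, 20, 21, 22, 23],
    [15, 1, 23, 0, 18, 4, 12, 19, 14, 3, 17, 21, 13, 10, 5, 11, 16, 7, 2, 6, 9, 20, 22, 8],
    [0, 1, 19, 22, 15, 23, 21, 4, 5, 18, 10, 11, 6, 2, 14, 7, 3, 9, 17, 13, 20, 12, 16, 8],
    [13, 17, 5, 0, 3, 1, 11, 21, 23, 18, 8, 2, 15, 14, 10, 7, 16, 20, 9, 6, 19, 12, 22, 4],
    [0, 1, 2, 22, 15, 5, 9, 7, 23, 6, 14, 11, 18, 19, 10, 4, 16, 21, 12, 13, 20, 17, 3, 8]]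

/-- Their inverses. -/
noncomputable def sylCI : List (List ℕ) :=
  sylCI0 ++ sylCI1

/-- The elements conjugate to the permutation. -/
noncomputable def sylK : List Bool :=
  [false, false, false, false, false, false, false, false, false, false, true, true, true, true, false, true, false, true, false, true, true, true, true, false, true, false, true]

end Cfsg.Agent.H18.Monster.Prime.ThreeData
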